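import Cfsg.Agent.Lib.U6Central.Points
import Cfsg.Agent.Lib.Classical.HermOrder

/-!
# Commuting transvections of `SU₄(2)`

Their product is no transvection, and a 2-group centralising two of them has order at most sixteen.
-/

set_option autoImplicit false
set_option linter.unusedSectionVars false

namespace CfsgLib.USixType

open Cfsg CfsgLib.SURadical CfsgLib.U6Central
open CfsgLib.PSUAut (Isot act act_mul act_one act_add act_smul act_form act_ext)

variable {F : Type} [Field F] [Fintype F] (hF : Fintype.card F = 2 ^ 2)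

local notation "V4" => Fin 4 → F
local notation "H4" => Cfsg.hermForm 4 F 2
local notation "SU4" => (Cfsg.SU 4 F 2)

include hF

theorem exists_dual {p q : V4} (hq : ∀ a : F, q ≠ a • p) : ∃ y, H4 y p = 0 ∧ H4 y q = 1 := by
  obtain ⟨σ, hσ⟩ := exists_sigma hF
  by_contra hc
  push Not at hc
  obtain ⟨a, ha⟩ := Submodule.mem_span_singleton.1
    (CfsgLib.PSUAut.mem_span_single_of_perp hF hσ (p := p) (z := q) fun y hy => by
      by_contra h0
      exact hc ((H4 y q)⁻¹ • y) (by rw [smul_left hF, hy, mul_zero]) (by rw [smul_left hF, inv_mul_cancel₀ h0]))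
  exact hq a ha.symm

theorem mem_span_of_perp {p x : V4} (h : ∀ y, H4 y p = 0 → H4 y x = 0) : ∃ c : F, x = c • p := by
  obtain ⟨σ, hσ⟩ := exists_sigma hF
  obtain ⟨a, ha⟩ := Submodule.mem_span_singleton.1 (CfsgLib.PSUAut.mem_span_single_of_perp hF hσ h)
  exact ⟨a, ha.symm⟩

/-- The commutant, for the trace of the form, of a hyperplane. -/
theorem mem_span_of_trace {p x : V4} (h : ∀ y, H4 y p = 0 → H4 x y + H4 x y ^ 2 = 0) :
    ∃ c : F, x = c • p := by
  obtain ⟨w, hw0, hw⟩ := exists_omega' hF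
  refine mem_span_of_perp hF fun y hy => (comm_zero hF).1 ?_
  by_contra h0
  have h1 := h y hy
  have h2 := h (w • y) (by rw [smul_left hF, hy, mul_zero])
  have hxy : H4 x y = 1 := by
    have e : H4 x y * (1 + H4 x y) = 0 := by linear_combination h1
    have := (mul_eq_zero.1 e).resolve_left h0
    linear_combination this - add_self hF (1 : F)
  rw [smul_right hF, hxy, mul_one] at h2
  exact one_ne_zero (α := F) (by linear_combination (-(1 + w ^ 2 - w)) * hw + h2 + add_self hF (1 : F))

/-- The vectors orthogonal to an isotropic one, as a subgroup. -/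
noncomputable def perp (p : V4) : AddSubgroup V4 where
  carrier := {y | H4 y p = 0}
  zero_mem' := zero_left hF p
  add_mem' {a b} ha hb := show H4 (a + b) p = 0 by rw [add_left hF, show H4 a p = 0 from ha, show H4 b p = 0 from hb, add_zero]
  neg_mem' {a} ha := show H4 (-a) p = 0 by
    rw [show (-a : V4) = a from neg_eq_of_add_eq_zero_left (vadd_self hF a)]
    exact ha

theorem card_perp {p : V4} (hp : p ≠ 0) : Nat.card ↥(perp hF p) = 64 := by
  obtain ⟨σ, hσ⟩ := exists_sigma hF
  obtain ⟨y₀, hy₀⟩ := CfsgLib.PSUAut.exists_partner hF hσ hp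
  let f : V4 →+ F := AddMonoidHom.mk' (fun y => H4 y p) fun a b => add_left hF a b p
  have hf : Function.Surjective f := fun c => ⟨c • y₀, show H4 (c • y₀) p = c by rw [smul_left hF, hy₀, mul_one]⟩
  have he : f.ker = perp hF p := rfl
  have h := f.ker.card_mul_index
  rw [AddSubgroup.index_ker, AddMonoidHom.range_eq_top.2 hf, AddSubgroup.card_top, he,
    Nat.card_eq_fintype_card (α := F), hF, Nat.card_fun, Nat.card_eq_fintype_card (α := F), hF,
    Nat.card_eq_fintype_card (α := Fin 4), Fintype.card_fin] at h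
  omega

/-- The product of two commuting transvections is no transvection. -/
theorem not_pt_mul {s t : SU4} {p q r : V4} (hs : IsPt s p) (ht : IsPt t q) (hc : Commute s t)
    (hr : IsPt (s * t) r) : False := by
  by_cases hst : ∀ a : F, q ≠ a • p
  swap
  · push Not at hst
    obtain ⟨a, rfl⟩ := hst
    have ha : a ≠ 0 := fun h => ht.1.1 (by rw [h, zero_smul])
    have : t = s := ht.unique hF (hs.smul hF ha)
    subst this
    exact hr.ne_one hF (hs.mul_self hF)
  have hqp : H4 q p = 0 := (comm_zero hF).1 ((hs.commute_iff hF ht).1 hc)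
  have hact : ∀ y, H4 y q • q + H4 y p • p = H4 y r • r := fun y => by
    have := hr.2 y
    rw [act_mul, ht.2, hs.2, add_left hF, smul_left hF, hqp, mul_zero, add_zero, add_assoc] at this
    exact add_left_cancel this
  obtain ⟨y, hy, hy'⟩ := exists_dual hF hst
  obtain ⟨y', hy₂, hy₂'⟩ := exists_dual hF (p := q) (q := p) fun a ha => by
    have ha0 : a ≠ 0 := fun h => hs.1.1 (by rw [ha, h, zero_smul])
    exact hst a⁻¹ (by rw [ha, smul_smul, inv_mul_cancel₀ ha0, one_smul])
  have h1 := hact y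
  rw [hy, hy', one_smul, zero_smul, add_zero] at h1
  have h2 := hact y'
  rw [hy₂, hy₂', one_smul, zero_smul, zero_add] at h2
  have h0 : H4 y r ≠ 0 := fun h => ht.1.1 (by rw [h1, h, zero_smul])
  refine hs.1.1 ?_
  have h3 : p = (H4 y' r * (H4 y r)⁻¹) • q := by
    conv_lhs => rw [h2]
    conv_rhs => rw [h1]
    rw [smul_smul, mul_assoc, inv_mul_cancel₀ h0, mul_one]
  by_contra hp0
  have hc0 : H4 y' r * (H4 y r)⁻¹ ≠ 0 := fun h => hp0 (by rw [h3, h, zero_smul])
  exact hst (H4 y' r * (H4 y r)⁻¹)⁻¹ (by rw [h3, smul_smul, inv_mul_cancel₀ hc0, one_smul])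

/-- Two orthogonal points lie in a basis of hyperbolic pairs. -/
theorem exists_quad_pair {p q : V4} (hp : Isot 2 p) (hq : Isot 2 q) (hqp : H4 q p = 0)
    (hne : ∀ a : F, q ≠ a • p) : ∃ f f', Quad p q f f' := by
  obtain ⟨σ, hσ⟩ := exists_sigma hF
  have hne' : ∀ a : F, p ≠ a • q := fun a ha => by
    have ha0 : a ≠ 0 := fun h => hp.1 (by rw [ha, h, zero_smul])
    exact hne a⁻¹ (by rw [ha, smul_smul, inv_mul_cancel₀ ha0, one_smul])
  obtain ⟨y, hyq, hyp⟩ := exists_dual hF hne'
  obtain ⟨a, haf, hafp, hane⟩ := CfsgLib.PSUAut.exists_iso_shift hF hσ hp.2 hyp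
  set f := y + a • p with hf
  have hfq : H4 f q = 0 := by rw [hf, add_left hF, smul_left hF, hyq, (comm_zero hF).1 hqp, mul_zero, add_zero]
  obtain ⟨y', hy'p, hy'q⟩ := exists_dual hF hne
  set y₁ := y' + H4 y' f • p with hy₁
  have hpf : H4 p f = 1 := comm_one hF hafp
  have h1 : H4 y₁ p = 0 := by rw [hy₁, add_left hF, smul_left hF, hy'p, hp.2, mul_zero, add_zero]
  have h2 : H4 y₁ q = 1 := by rw [hy₁, add_left hF, smul_left hF, hy'q, (comm_zero hF).1 hqp, mul_zero, add_zero]
  have h3 : H4 y₁ f = 0 := by rw [hy₁, add_left hF, smul_left hF, hpf, mul_one]; exact add_self hF _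
  obtain ⟨b, hbf, hbq, hbne⟩ := CfsgLib.PSUAut.exists_iso_shift hF hσ hq.2 h2
  refine ⟨f, y₁ + b • q, hp, hq, ⟨hane, haf⟩, ⟨hbne, hbf⟩, hafp, hbq, hqp, (comm_zero hF).1 hfq, ?_, ?_⟩
  · rw [add_left hF, smul_left hF, h1, hqp, mul_zero, add_zero]
  · rw [add_left hF, smul_left hF, h3, (comm_zero hF).1 hfq, mul_zero, add_zero]

/-- An element of 2-power order fixes the vector of a point it centralises. -/
theorem fix_of_comm_pt {a s : SU4} {p : V4} (hs : IsPt s p) {k : ℕ} (ha : a ^ 2 ^ k = 1) (hc : Commute a s) :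
    act a p = p := by
  have h1 := hs.conj a
  rw [show a * s * a⁻¹ = s by rw [hc.eq, mul_inv_cancel_right]] at h1
  obtain ⟨c, hc0, hap⟩ := hs.span_eq hF h1
  have hpow : ∀ i : ℕ, act (a ^ i) p = c ^ i • p := by
    intro i
    induction i with
    | zero => rw [pow_zero, pow_zero, act_one, one_smul]
    | succ i ih => rw [pow_succ', act_mul, ih, act_smul, hap, smul_smul, ← pow_succ]
  have h2 := hpow (2 ^ k)
  rw [ha, act_one] at h2
  have hck : c ^ 2 ^ k = 1 := by
    by_contra hne
    have : (1 - c ^ 2 ^ k) • p = 0 := by rw [sub_smul, one_smul, ← h2, sub_self]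
    exact hs.1.1 ((smul_eq_zero.1 this).resolve_left (sub_ne_zero.2 (Ne.symm hne)))
  have hd := Nat.dvd_gcd (orderOf_dvd_of_pow_eq_one hck) (orderOf_dvd_of_pow_eq_one (cube_eq_one hF hc0))
  rw [Nat.Coprime.gcd_eq_one (Nat.Coprime.pow_left _ (by norm_num))] at hd
  rw [hap, orderOf_eq_one_iff.1 (Nat.dvd_one.1 hd), one_smul]

/-- A 2-group centralising two commuting transvections has order at most sixteen. -/
theorem card_le_sixteen {s t : SU4} {p q : V4} (hs : IsPt s p) (ht : IsPt t q) (hst : Commute s t) (hne : s ≠ t)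
    (A : Subgroup SU4) (hA : IsPGroup 2 ↥A) (hAs : ∀ a ∈ A, Commute a s ∧ Commute a t) : Nat.card ↥A ≤ 16 := by
  classical
  have hpq : ∀ a : F, q ≠ a • p := fun a e => hne (by
    have ha : a ≠ 0 := fun h => ht.1.1 (by rw [e, h, zero_smul])
    exact ((hs.smul hF ha).unique hF (e ▸ ht)))
  obtain ⟨f, f', Q⟩ := exists_quad_pair hF hs.1 ht.1 ((comm_zero hF).1 ((hs.commute_iff hF ht).1 hst)) hpq
  have hfix : ∀ a : ↥A, act (a : SU4) p = p ∧ act (a : SU4) q = q := fun a => by
    obtain ⟨k, hk⟩ := hA a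
    have hk' : (a : SU4) ^ 2 ^ k = 1 := congrArg Subtype.val hk
    exact ⟨fix_of_comm_pt hF hs hk' (hAs _ a.2).1, fix_of_comm_pt hF ht hk' (hAs _ a.2).2⟩
  have himg : ∀ a : ↥A,
      act (a : SU4) f = H4 (act (a : SU4) f) f • p + H4 (act (a : SU4) f) f' • q + (1 : F) • f + (0 : F) • f' ∧
      act (a : SU4) f' = H4 (act (a : SU4) f') f • p + H4 (act (a : SU4) f') f' • q + (0 : F) • f + (1 : F) • f' := by
    intro a
    have ep : ∀ y, H4 (act (a : SU4) y) p = H4 y p := fun y => by
      conv_lhs => rw [← (hfix a).1]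
      exact act_form _ _ _
    have eq' : ∀ y, H4 (act (a : SU4) y) q = H4 y q := fun y => by
      conv_lhs => rw [← (hfix a).2]
      exact act_form _ _ _
    constructor
    · conv_lhs => rw [Q.expand hF (act (a : SU4) f), ep, eq', Q.h₁, (comm_zero hF).1 Q.ef]
    · conv_lhs => rw [Q.expand hF (act (a : SU4) f'), ep, eq', Q.fe, Q.h₂]
  have h01 : ∀ x : F, x + x ^ 2 = 0 → x = 0 ∨ x = 1 := fun x hx => by
    have e : x * (1 + x) = 0 := by linear_combination hx
    exact (mul_eq_zero.1 e).imp_right fun h => by linear_combination h - add_self hF (1 : F)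
  have hdiag : ∀ a : ↥A, (H4 (act (a : SU4) f) f = 0 ∨ H4 (act (a : SU4) f) f = 1) ∧
      (H4 (act (a : SU4) f') f' = 0 ∨ H4 (act (a : SU4) f') f' = 1) ∧
      H4 (act (a : SU4) f) f' = (H4 (act (a : SU4) f') f) ^ 2 := by
    intro a
    have k1 := act_form (a : SU4) f f
    rw [(himg a).1, Q.form hF, Q.j₁.2] at k1
    have k2 := act_form (a : SU4) f' f'
    rw [(himg a).2, Q.form hF, Q.j₂.2] at k2
    have k3 := act_form (a : SU4) f f'
    rw [(himg a).1, (himg a).2, Q.form hF, (comm_zero hF).1 Q.ff] at k3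
    simp only [one_pow, mul_one, one_mul, ne_eq, OfNat.ofNat_ne_zero, not_false_eq_true, zero_pow, mul_zero,
      zero_mul, add_zero, zero_add] at k1 k2 k3
    exact ⟨h01 _ k1, h01 _ k2, by linear_combination k3 - add_self hF ((H4 (act (a : SU4) f') f) ^ 2)⟩
  let Φ : ↥A → Bool × F × Bool := fun a =>
    (decide (H4 (act (a : SU4) f) f = 1), H4 (act (a : SU4) f') f, decide (H4 (act (a : SU4) f') f' = 1))
  have hΦ : Function.Injective Φ := by
    intro a b e
    simp only [Φ, Prod.mk.injEq, decide_eq_decide] at e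
    obtain ⟨e1, e2, e3⟩ := e
    obtain ⟨a1, a2, a3⟩ := hdiag a
    obtain ⟨b1, b2, b3⟩ := hdiag b
    have k1 : H4 (act (a : SU4) f) f = H4 (act (b : SU4) f) f := by
      rcases a1 with h | h
      · exact h.trans (b1.resolve_right fun h' => zero_ne_one (α := F) (h.symm.trans (e1.2 h'))).symm
      · exact h.trans (e1.1 h).symm
    have k2 : H4 (act (a : SU4) f') f' = H4 (act (b : SU4) f') f' := by
      rcases a2 with h | h
      · exact h.trans (b2.resolve_right fun h' => zero_ne_one (α := F) (h.symm.trans (e3.2 h'))).symm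
      · exact h.trans (e3.1 h).symm
    refine Subtype.ext (act_ext fun y => ?_)
    rw [Q.expand hF y]
    simp only [act_add, act_smul, (hfix a).1, (hfix a).2, (hfix b).1, (hfix b).2]
    rw [(himg a).1, (himg a).2, (himg b).1, (himg b).2, k1, k2, e2, a3, b3, e2]
  refine (Nat.card_le_card_of_injective Φ hΦ).trans_eq ?_
  rw [Nat.card_prod, Nat.card_prod, Nat.card_eq_fintype_card (α := Bool), Nat.card_eq_fintype_card (α := F), hF,
    Fintype.card_bool]
  norm_num

/-- An element fixing a singular hyperplane pointwise is an involution. -/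
theorem sq_eq_one_of_fix {g : SU4} {p : V4} (hp : Isot 2 p) (h : ∀ y, H4 y p = 0 → act g y = y) : g * g = 1 := by
  refine act_ext fun y => ?_
  obtain ⟨c, hc⟩ := mem_span_of_perp hF (p := p) (x := act g y + y) fun x hx => by
    rw [add_right hF]
    conv_lhs => arg 1; rw [← h x hx, act_form]
    exact add_self hF _
  have hgy : act g y = y + c • p := by
    rw [← hc, add_left_comm, vadd_self hF, add_zero]
  rw [act_mul, act_one, hgy, act_add, act_smul, h p hp.2, hgy, add_assoc, vadd_self hF, add_zero]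

/-- Only zero is orthogonal to all points. -/
theorem eq_zero_of_pts {r w : V4} (hw : Isot 2 w) (h : ∀ v, Isot 2 v → H4 r v = 0) : r = 0 := by
  obtain ⟨e₂, f, f₂, Q⟩ := exists_quad hF hw
  exact Q.eq_zero hF (h _ Q.i₁) (h _ Q.i₂) (h _ Q.j₁) (h _ Q.j₂)

theorem center_eq_one {g : SU4} (hg : ∀ t : SU4, (∃ v, IsPt t v) → Commute g t) : g = 1 := by
  have hc : g ∈ Subgroup.center SU4 := by
    have hle : Subgroup.closure {t : SU4 | ∃ v, IsPt t v} ≤ Subgroup.centralizer {g} :=
      (Subgroup.closure_le _).2 fun t ht => Subgroup.mem_centralizer_singleton_iff.2 (hg t ht).symm.eq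
    refine Subgroup.mem_center_iff.2 fun t => ?_
    exact Subgroup.mem_centralizer_singleton_iff.1 (hle (closure_pts hF ▸ Subgroup.mem_top t))
  have h1 : Subgroup.center SU4 = ⊥ := Subgroup.card_eq_one.1 (by
    rw [CfsgLib.Classical.card_center_su hF (by norm_num)]; norm_num)
  rw [h1] at hc
  exact hc

end CfsgLib.USixType
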