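import Cfsg.Agent.Lib.U6Central.Setup

/-!
# An involution with centraliser `2^(1+8).U₄(2)`, seen in the natural module

`Model z F` gives the centraliser of `z` a map onto `SU₄(2)` whose kernel `J` is seen, modulo `⟨z⟩`, as the natural
module. `Fused` collects what is needed, besides the centralisers of involutions, for `CfsgLib.U6Central.Central`.
-/

set_option autoImplicit false
set_option linter.unusedSectionVars false

namespace CfsgLib.USixType

open CfsgLib.PSUAut (Isot act act_mul act_one)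
open CfsgLib.ThreeTransp (link)

variable {G : Type*} [Group G]

/-- The centraliser of `z`. -/
abbrev Cz (z : G) : Subgroup G := Subgroup.centralizer ({z} : Set G)

/-- The centraliser in natural coordinates. -/
structure Model (z : G) (F : Type) [Field F] [Fintype F] where
  /-- The field has four elements. -/
  hF : Fintype.card F = 2 ^ 2
  ord : orderOf z = 2
  /-- The action. -/
  ρ : ↥(Cz z) →* ↥(Cfsg.SU 4 F 2)
  surj : Function.Surjective ρ
  /-- The chart of the kernel. -/
  χ : ↥ρ.ker → (Fin 4 → F)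
  χ_mul : ∀ x y, χ (x * y) = χ x + χ y
  χ_surj : Function.Surjective χ
  χ_ker : ∀ x, χ x = 0 ↔ ((x : ↥(Cz z)) : G) = 1 ∨ ((x : ↥(Cz z)) : G) = z
  χ_sq : ∀ x, Cfsg.hermForm 4 F 2 (χ x) (χ x) = 0 ↔ x * x = 1
  χ_equiv : ∀ (c : ↥(Cz z)) (x : ↥ρ.ker), χ (MulAut.conjNormal c x) = act (ρ c) (χ x)

namespace Model

variable {F : Type} [Field F] [Fintype F] {z : G} (m : Model z F)

/-- The kernel as a subgroup of the group. -/
def J : Subgroup G := m.ρ.ker.map (Cz z).subtype

theorem mem_J {a : G} : a ∈ m.J ↔ ∃ h : a ∈ Cz z, m.ρ ⟨a, h⟩ = 1 := by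
  constructor
  · rintro ⟨x, hx, rfl⟩
    exact ⟨x.2, hx⟩
  · rintro ⟨h, e⟩
    exact ⟨⟨a, h⟩, e, rfl⟩

/-- `z` is weakly closed in `J`. -/
def Weak : Prop := ∀ x : ↥m.ρ.ker, IsConj z ((x : ↥(Cz z)) : G) → ((x : ↥(Cz z)) : G) = z

/-- The other conjugates of `z` in the centraliser lie over transvections. -/
def Pt : Prop := ∀ x : ↥(Cz z), (x : G) ∈ link (conjugatesOf z) z → ∃ w, CfsgLib.SURadical.IsPt (m.ρ x) w

include m in
/-- The model at a conjugate. -/
theorem exists_conj (g : G) : Nonempty (Model (g * z * g⁻¹) F) := by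
  let e : ↥(Cz (g * z * g⁻¹)) ≃* ↥(Cz z) :=
    { toFun := fun y => ⟨g⁻¹ * (y : G) * g, Subgroup.mem_centralizer_singleton_iff.2 (by
        have h := Subgroup.mem_centralizer_singleton_iff.1 y.2
        calc g⁻¹ * (y : G) * g * z = g⁻¹ * ((y : G) * (g * z * g⁻¹)) * g := by group
          _ = g⁻¹ * (g * z * g⁻¹ * (y : G)) * g := by rw [h]
          _ = z * (g⁻¹ * (y : G) * g) := by group)⟩
      invFun := fun y => ⟨g * (y : G) * g⁻¹, Subgroup.mem_centralizer_singleton_iff.2 (by
        have h := Subgroup.mem_centralizer_singleton_iff.1 y.2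
        calc g * (y : G) * g⁻¹ * (g * z * g⁻¹) = g * ((y : G) * z) * g⁻¹ := by group
          _ = g * (z * (y : G)) * g⁻¹ := by rw [h]
          _ = g * z * g⁻¹ * (g * (y : G) * g⁻¹) := by group)⟩
      left_inv := fun y => Subtype.ext (by simp [mul_assoc])
      right_inv := fun y => Subtype.ext (by simp [mul_assoc])
      map_mul' := fun a b => Subtype.ext (by simp [mul_assoc]) }
  refine ⟨⟨m.hF, ?_, m.ρ.comp e.toMonoidHom, m.surj.comp e.surjective, fun x => m.χ ⟨e x, x.2⟩,
    fun x y => ?_, fun v => ?_, fun x => ?_, fun x => ?_, fun c x => ?_⟩⟩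
  · rw [← MulAut.conj_apply, MulEquiv.orderOf_eq, m.ord]
  · rw [← m.χ_mul]
    exact congrArg m.χ (Subtype.ext (map_mul e _ _))
  · obtain ⟨x, rfl⟩ := m.χ_surj v
    refine ⟨⟨e.symm x, show m.ρ (e (e.symm x)) = 1 by rw [e.apply_symm_apply]; exact x.2⟩, congrArg m.χ (Subtype.ext ?_)⟩
    exact e.apply_symm_apply _
  · rw [m.χ_ker]
    refine or_congr ⟨fun h => ?_, fun h => ?_⟩ ⟨fun h => ?_, fun h => ?_⟩
    all_goals change g⁻¹ * _ * g = _ at * <;> skip
    all_goals first
      | (have h' := congrArg (fun t => g * t * g⁻¹) h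
         simp only [mul_assoc, mul_inv_cancel_left, mul_inv_cancel, mul_one] at h'
         simpa [mul_assoc] using h')
      | (rw [h]; group)
  · rw [m.χ_sq]
    constructor
    · intro h
      exact Subtype.ext (e.injective ((map_mul e _ _).trans ((congrArg Subtype.val h).trans (map_one e).symm)))
    · intro h
      exact Subtype.ext ((map_mul e _ _).symm.trans ((congrArg e (congrArg Subtype.val h)).trans (map_one e)))
  · refine (congrArg m.χ (Subtype.ext ?_)).trans (m.χ_equiv (e c) _)
    show e ↑(MulAut.conjNormal c x) = _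
    simp only [MulAut.conjNormal_apply, map_mul, map_inv]

end Model

/-- What is known of the conjugates commuting with `z` when `z` is not isolated. -/
structure Fused {F : Type} [Field F] [Fintype F] {z : G} (m : Model z F) : Prop where
  weak : m.Weak
  pt : m.Pt
  lifts : ∀ (t : ↥(Cfsg.SU 4 F 2)) (w : Fin 4 → F), CfsgLib.SURadical.IsPt t w →
    {x : ↥(Cz z) | (x : G) ∈ link (conjugatesOf z) z ∧ m.ρ x = t}.ncard = 4
  comm : ∀ x y : ↥(Cz z), (x : G) ∈ link (conjugatesOf z) z → (y : G) ∈ link (conjugatesOf z) z →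
    Commute (m.ρ x) (m.ρ y) → Commute (x : G) (y : G)
  mul_notMem : ∀ x ∈ link (conjugatesOf z) z, x * z ∉ conjugatesOf z
  faithful : ∀ g : G, Commute g z → (∀ x ∈ link (conjugatesOf z) z, Commute g x) → g = 1 ∨ g = z
  nonempty : ∃ x, x ∈ link (conjugatesOf z) z

/-- The last field of `Central`: centralisers of involutions keep the component. -/
def Cent (z : G) : Prop :=
  ∀ v : G, v * v = 1 → v ≠ 1 → Commute v z → ∀ g : G, Commute g v → CfsgLib.U6Central.Linked z (g * z * g⁻¹)

/-- The fields together. -/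
def Fused.central {F : Type} [Field F] [Fintype F] [Finite G] {z : G} {m : Model z F} (h : Fused m) (hc : Cent z) :
    CfsgLib.U6Central.Central z F where
  hF := m.hF
  sq := by have := pow_orderOf_eq_one z; rwa [m.ord, pow_two] at this
  ne := fun e => by have := m.ord; rw [e, orderOf_one] at this; omega
  π := m.ρ
  ker_two := by
    haveI := Fact.mk Nat.prime_two
    intro x
    obtain ⟨h4⟩ : Nonempty (x ^ 4 = 1) := ⟨by
      have hv : ∀ v : Fin 4 → F, v + v = 0 := fun v => CfsgLib.SURadical.vadd_self m.hF v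
      have h2 : m.χ (x * x) = 0 := (m.χ_mul x x).trans (hv _)
      have hzz : z * z = 1 := by have := pow_orderOf_eq_one z; rwa [m.ord, pow_two] at this
      refine Subtype.ext (Subtype.ext ?_)
      rw [show x ^ 4 = (x * x) * (x * x) by rw [← pow_two, ← pow_two, ← pow_mul]]
      rcases (m.χ_ker _).1 h2 with e | e <;> simp [Subgroup.coe_mul] at e ⊢ <;> simp [e, hzz]⟩
    exact ⟨2, h4⟩
  pt := h.pt
  lifts := h.lifts
  comm := h.comm
  mul_notMem := h.mul_notMem
  faithful := h.faithful
  cent := hc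

end CfsgLib.USixType
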