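import Cfsg.Agent.Lib.USixType.Sqrt
import Cfsg.Agent.Lib.USixType.Geom
import Cfsg.Agent.Lib.U62Type.F4
import Cfsg.Agent.Lib.Classical.HermOrder

/-!
# The classes of involutions of `SU₄(2)` have at least 45 elements
-/

set_option autoImplicit false
set_option linter.unusedSectionVars false
set_option linter.style.haveILetI false

namespace CfsgLib.USixType

open Cfsg CfsgLib.SURadical
open CfsgLib.U62Type (F4)
open CfsgLib.PSUAut (Isot act act_mul act_one act_form act_smul act_add act_ext)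

section

variable {F : Type} [Field F] [Fintype F] (hF : Fintype.card F = 2 ^ 2)

local notation "hh" => Cfsg.hermForm 4 F 2

include hF

theorem exists_act {u v : Fin 4 → F} (hu : Isot 2 u) (hv : Isot 2 v) :
    ∃ (g : Cfsg.SU 4 F 2) (c : F), c ≠ 0 ∧ act g u = c • v := by
  by_cases huv : hh u v = 0
  swap
  · obtain ⟨g, a, ha, -, hg⟩ := exists_swap hF hu hv huv
    exact ⟨g, a, ha, hg⟩
  by_cases hne : ∀ a : F, v ≠ a • u
  swap
  · push Not at hne
    obtain ⟨a, rfl⟩ := hne
    have ha : a ≠ 0 := fun h => hv.1 (by rw [h, zero_smul])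
    exact ⟨1, a⁻¹, inv_ne_zero ha, by rw [act_one, smul_smul, inv_mul_cancel₀ ha, one_smul]⟩
  obtain ⟨f, f', Q⟩ := exists_quad_pair hF hu hv ((comm_zero hF).1 huv) hne
  have h1 : hh (f + f') u = 1 := by rw [add_left hF, Q.h₁, Q.fe, add_zero]
  have h2 : hh (f + f') v = 1 := by rw [add_left hF, (comm_zero hF).1 Q.ef, Q.h₂, zero_add]
  have hw : Isot 2 (f + f') := ⟨fun h => by rw [h, zero_left hF] at h1; exact zero_ne_one h1, by
    rw [add_left hF, add_right hF, add_right hF, Q.j₁.2, Q.j₂.2, Q.ff, (comm_zero hF).1 Q.ff]; ring⟩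
  obtain ⟨g₁, a₁, ha₁, -, hg₁⟩ := exists_swap hF hu hw (by rw [comm_one hF h1]; exact one_ne_zero)
  obtain ⟨g₂, a₂, ha₂, -, hg₂⟩ := exists_swap hF hw hv (by rw [h2]; exact one_ne_zero)
  exact ⟨g₂ * g₁, a₁ * a₂, mul_ne_zero ha₁ ha₂, by rw [act_mul, hg₁, act_smul, hg₂, smul_smul]⟩

theorem exists_conj_pt {s t : Cfsg.SU 4 F 2} {u v : Fin 4 → F} (hs : IsPt s u) (ht : IsPt t v) :
    ∃ g, g * s * g⁻¹ = t := by
  obtain ⟨g, c, hc, hg⟩ := exists_act hF hs.1 ht.1
  have h := hs.conj g
  rw [hg] at h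
  exact ⟨g, h.unique hF (ht.smul hF hc)⟩

end

theorem card_isot : Fintype.card {v : Fin 4 → F4 // v ≠ 0 ∧ Cfsg.hermForm 4 F4 2 v v = 0} = 135 := by
  decide +kernel

theorem card_norm_pairs : Fintype.card {p : F4 × F4 // p.1 ^ 3 + p.2 ^ 3 = 1} = 6 := by decide +kernel

theorem card_su4 : Nat.card (Cfsg.SU 4 F4 2) = 25920 := by
  have h := CfsgLib.Classical.card_su (n := 4) (q := 2) (F := F4) CfsgLib.U62Type.F4.card' (by norm_num)
  rw [show CfsgLib.Classical.unitaryOrder 2 4 = 77760 by decide] at h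
  omega

local notation "hh" => Cfsg.hermForm 4 F4 2

theorem index_pt {t : Cfsg.SU 4 F4 2} {v : Fin 4 → F4} (ht : IsPt t v) :
    45 ≤ (Subgroup.centralizer ({t} : Set (Cfsg.SU 4 F4 2))).index := by
  classical
  have hF := CfsgLib.U62Type.F4.card'
  set C := Subgroup.centralizer ({t} : Set (Cfsg.SU 4 F4 2)) with hC
  let V' := {v : Fin 4 → F4 // v ≠ 0 ∧ hh v v = 0}
  choose tr htr using fun u : V' => exists_pt hF (v := u.1) ⟨u.2.1, u.2.2⟩
  choose g hg using fun u : V' => exists_conj_pt hF ht (htr u)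
  let f : V' → Cfsg.SU 4 F4 2 ⧸ C := fun u => (g u : Cfsg.SU 4 F4 2 ⧸ C)
  have hf : ∀ u u' : V', f u = f u' → tr u = tr u' := by
    intro u u' e
    have e' := Subgroup.mem_centralizer_singleton_iff.1 (QuotientGroup.eq.1 e : (g u)⁻¹ * g u' ∈ C)
    rw [← hg u, ← hg u']
    calc g u * t * (g u)⁻¹ = g u * (t * ((g u)⁻¹ * g u')) * (g u')⁻¹ := by group
      _ = g u * ((g u)⁻¹ * g u' * t) * (g u')⁻¹ := by rw [e']
      _ = _ := by group
  letI : Fintype (Cfsg.SU 4 F4 2 ⧸ C) := Fintype.ofFinite _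
  have hle : Fintype.card V' ≤ 3 * Fintype.card (Cfsg.SU 4 F4 2 ⧸ C) := by
    rw [← Finset.card_univ (α := V'), ← Finset.card_univ (α := Cfsg.SU 4 F4 2 ⧸ C)]
    refine Finset.card_le_mul_card_image_of_maps_to (f := f) (fun u _ => Finset.mem_univ _) 3 fun b _ => ?_
    rcases (Finset.univ.filter fun u => f u = b).eq_empty_or_nonempty with h0 | ⟨u₀, hu₀⟩
    · rw [h0]; simp
    calc (Finset.univ.filter fun u => f u = b).card
        ≤ ((Finset.univ.erase (0 : F4)).image fun c => c • u₀.1).card := by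
          rw [← Finset.card_image_of_injective _ (Subtype.val_injective (p := fun v : Fin 4 → F4 => v ≠ 0 ∧ hh v v = 0))]
          refine Finset.card_le_card fun x hx => ?_
          simp only [Finset.mem_image, Finset.mem_filter, Finset.mem_univ, true_and] at hx hu₀ ⊢
          obtain ⟨u, hu, rfl⟩ := hx
          obtain ⟨c, hc, hcu⟩ := (htr u₀).span_eq hF (hf u u₀ (hu.trans hu₀.symm) ▸ htr u)
          exact ⟨c, by simp [hc], hcu.symm⟩
      _ ≤ (Finset.univ.erase (0 : F4)).card := Finset.card_image_le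
      _ ≤ 3 := by decide
  rw [card_isot] at hle
  rw [Subgroup.index_eq_card, Nat.card_eq_fintype_card]
  omega

theorem card_cent_deep {F : Type} [Field F] [Fintype F] (hF : Fintype.card F = 2 ^ 2)
    (h6 : Nat.card {p : F × F // p.1 ^ 3 + p.2 ^ 3 = 1} = 6) {t : Cfsg.SU 4 F 2} (d : Deep t) :
    Nat.card ↥(Subgroup.centralizer ({t} : Set (Cfsg.SU 4 F 2))) ≤ 576 := by
  classical
  obtain ⟨b, k, hb, hk, hbk, -, -, -⟩ := d.exists_frame hF
  set B := nmap t b with hB
  set K := nmap t k with hK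
  have hkB : Cfsg.hermForm 4 F 2 k B = 0 := by
    rw [hB, ← nmap_adj hF d.mul_self, ← hK]
    exact (comm_zero hF).1 hbk
  have hind : ∀ x y : F, x • nmap t b + y • nmap t k = 0 → x = 0 ∧ y = 0 := by
    intro x y h
    have h1 := congrArg (fun v => Cfsg.hermForm 4 F 2 v b) h
    have h2 := congrArg (fun v => Cfsg.hermForm 4 F 2 v k) h
    simp only [← hB, ← hK, add_left hF, smul_left hF, comm_one hF hb, comm_one hF hk, (comm_zero hF).1 hbk,
      (comm_zero hF).1 hkB, mul_one, mul_zero, zero_left hF, add_zero, zero_add] at h1 h2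
    exact ⟨h1, h2⟩
  set C := Subgroup.centralizer ({t} : Set (Cfsg.SU 4 F 2)) with hC
  have hN : ∀ (x : ↥C) (y : Fin 4 → F), nmap t (act x.1 y) = act x.1 (nmap t y) := fun x y => by
    rw [nmap_apply, nmap_apply, act_add, ← act_mul, ← act_mul,
      Subgroup.mem_centralizer_singleton_iff.1 x.2]
  -- the images of the two vectors
  let T := {l : Fin 4 → F // ∃ p : {p : F × F // p.1 ^ 3 + p.2 ^ 3 = 1}, l = p.1.1 • B + p.1.2 • K}
  have hT : ∀ (x : ↥C) (v : Fin 4 → F), Cfsg.hermForm 4 F 2 v (nmap t v) = 1 →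
      ∃ p : {p : F × F // p.1 ^ 3 + p.2 ^ 3 = 1}, act x.1 (nmap t v) = p.1.1 • B + p.1.2 • K := by
    intro x v hv
    obtain ⟨a, c, h⟩ := d.decompose hF hind (act x.1 v)
    have hNv : nmap t (act x.1 v) = a • B + c • K := by
      have h' := (nmap_eq_zero hF).2 h
      rw [map_add, map_add, map_smul, map_smul] at h'
      calc nmap t (act x.1 v)
          = nmap t (act x.1 v) + (nmap t (act x.1 v) + (a • B + c • K)) := by rw [h', add_zero]
        _ = _ := by rw [← add_assoc, CfsgLib.SURadical.vadd_self hF, zero_add]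
    refine ⟨⟨(a, c), ?_⟩, (hN x v).symm.trans hNv⟩
    have e : Cfsg.hermForm 4 F 2 (act x.1 v) (nmap t (act x.1 v)) = 1 := by rw [hN, act_form, hv]
    obtain ⟨l, hl, hl'⟩ : ∃ l, act t l = l ∧ act x.1 v = l + (a • b + c • k) :=
      ⟨_, h, by rw [add_assoc, CfsgLib.SURadical.vadd_self hF, add_zero]⟩
    have hlB : Cfsg.hermForm 4 F 2 l B = 0 := d.perp_fixed hF hl ((nmap_eq_zero hF).1 (nmap_nmap hF d.mul_self b))
    have hlK : Cfsg.hermForm 4 F 2 l K = 0 := d.perp_fixed hF hl ((nmap_eq_zero hF).1 (nmap_nmap hF d.mul_self k))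
    rw [hNv, hl'] at e
    simp only [add_left hF, add_right hF, smul_left hF, smul_right hF, hlB, hlK, hb, hk, hbk, hkB] at e
    linear_combination e
  let Φ : ↥C → T × T := fun x => (⟨_, hT x b hb⟩, ⟨_, hT x k hk⟩)
  letI : Fintype ↥C := Fintype.ofFinite _
  have hT6 : Fintype.card T ≤ 6 := by
    rw [← h6, Nat.card_eq_fintype_card]
    refine Fintype.card_le_of_surjective (fun p => ⟨p.1.1 • B + p.1.2 • K, p, rfl⟩) fun l => ?_
    obtain ⟨p, hp⟩ := l.2
    exact ⟨p, Subtype.ext hp.symm⟩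
  have hC16 : Fintype.card ↥C ≤ 16 * Fintype.card (T × T) := by
    rw [← Finset.card_univ (α := ↥C), ← Finset.card_univ (α := T × T)]
    refine Finset.card_le_mul_card_image_of_maps_to (f := Φ) (fun u _ => Finset.mem_univ _) 16 fun p _ => ?_
    rcases (Finset.univ.filter fun u => Φ u = p).eq_empty_or_nonempty with h0 | ⟨x₀, hx₀⟩
    · rw [h0]; simp
    refine le_trans ?_ (le_of_eq_of_le (Nat.card_eq_fintype_card (α := {x : Cfsg.SU 4 F 2 //
      ∀ l, act t l = l → act x l = l})).symm (d.card_stab_le hF))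
    rw [← Fintype.card_coe]
    refine Fintype.card_le_of_injective (fun x => ⟨x₀.1⁻¹ * x.1.1, fun l hl => ?_⟩) fun x y e => ?_
    · have hx := x.2
      simp only [Finset.mem_filter, Finset.mem_univ, true_and] at hx hx₀
      replace hx := hx.trans hx₀.symm
      have e1 : act x.1.1 B = act x₀.1 B := congrArg Subtype.val (congrArg Prod.fst hx)
      have e2 : act x.1.1 K = act x₀.1 K := congrArg Subtype.val (congrArg Prod.snd hx)
      obtain ⟨y, rfl⟩ := d.exists_pre hF hl
      obtain ⟨a, c, h⟩ := d.decompose hF hind y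
      have h' := (nmap_eq_zero hF).2 h
      rw [map_add, map_add, map_smul, map_smul] at h'
      have hy : nmap t y = a • B + c • K := by
        calc nmap t y = nmap t y + (nmap t y + (a • B + c • K)) := by rw [h', add_zero]
          _ = _ := by rw [← add_assoc, CfsgLib.SURadical.vadd_self hF, zero_add]
      rw [act_mul, hy, act_add, act_smul, act_smul, e1, e2, act_add, act_smul, act_smul, ← act_mul, ← act_mul,
        inv_mul_cancel, act_one, act_one]
    · exact Subtype.ext (Subtype.ext (mul_left_cancel (congrArg Subtype.val e)))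
  rw [Fintype.card_prod] at hC16
  have h36 := Nat.mul_le_mul hT6 hT6
  rw [Nat.card_eq_fintype_card (α := ↥C)]
  omega

theorem index_deep {t : Cfsg.SU 4 F4 2} (d : Deep t) :
    45 ≤ (Subgroup.centralizer ({t} : Set (Cfsg.SU 4 F4 2))).index := by
  have h := card_cent_deep CfsgLib.U62Type.F4.card' ((Nat.card_eq_fintype_card).trans card_norm_pairs) d
  have hci := (Subgroup.centralizer ({t} : Set (Cfsg.SU 4 F4 2))).index_mul_card
  rw [card_su4] at hci
  by_contra hlt
  have := Nat.mul_le_mul (show (Subgroup.centralizer ({t} : Set (Cfsg.SU 4 F4 2))).index ≤ 44 by omega) h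
  omega

/-- A class of involutions has at least 45 elements. -/
theorem index_invol {t : Cfsg.SU 4 F4 2} (ht : t * t = 1) (h1 : t ≠ 1) :
    45 ≤ (Subgroup.centralizer ({t} : Set (Cfsg.SU 4 F4 2))).index := by
  rcases isPt_or_deep CfsgLib.U62Type.F4.card' ht h1 with ⟨v, hv⟩ | d
  · exact index_pt hv
  · exact index_deep d

end CfsgLib.USixType
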