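import Cfsg.Prelude.Def_Classical

/-!
# `PSU` of isomorphic fields
-/

set_option autoImplicit false

namespace CfsgLib.USixType

open Matrix

variable {F : Type*} [Field F] {K : Type*} [Field K] {n q : ℕ}

theorem hermForm_map (τ : F ≃+* K) (u v : Fin n → F) :
    Cfsg.hermForm n K q (τ ∘ u) (τ ∘ v) = τ (Cfsg.hermForm n F q u v) := by
  simp [Cfsg.hermForm, map_sum, map_mul, map_pow]

theorem su_map_mem (τ : F ≃+* K) (s : Cfsg.SU n F q) :
    SpecialLinearGroup.map τ.toRingHom s.1 ∈ Cfsg.SU n K q := by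
  intro u v
  have key : ∀ w : Fin n → K, Cfsg.slToMat n K (SpecialLinearGroup.map τ.toRingHom s.1) *ᵥ w =
      τ ∘ (Cfsg.slToMat n F s.1 *ᵥ (τ.symm ∘ w)) := fun w => by
    funext i
    show ((SpecialLinearGroup.map τ.toRingHom s.1 : SpecialLinearGroup (Fin n) K) : Matrix (Fin n) (Fin n) K) i ⬝ᵥ w =
      τ ((s.1 : Matrix (Fin n) (Fin n) F) i ⬝ᵥ (τ.symm ∘ w))
    simp [dotProduct, map_sum, map_mul]
  have hback : ∀ w : Fin n → K, τ ∘ (τ.symm ∘ w) = w := fun w => funext fun i => by simp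
  rw [key, key, hermForm_map, s.2, ← hermForm_map τ, hback, hback]

/-- `SU` of isomorphic fields. -/
noncomputable def suCongr (τ : F ≃+* K) : Cfsg.SU n F q ≃* Cfsg.SU n K q where
  toFun s := ⟨_, su_map_mem τ s⟩
  invFun s := ⟨_, su_map_mem τ.symm s⟩
  left_inv s := Subtype.ext (Subtype.ext (Matrix.ext fun _ _ => τ.symm_apply_apply _))
  right_inv s := Subtype.ext (Subtype.ext (Matrix.ext fun _ _ => τ.apply_symm_apply _))
  map_mul' a b := Subtype.ext (map_mul _ _ _)

/-- `PSU` of isomorphic fields. -/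
noncomputable def psuCongr (τ : F ≃+* K) : Cfsg.PSU n F q ≃* Cfsg.PSU n K q :=
  QuotientGroup.congr _ _ (suCongr τ) (by
    ext x
    simp only [Subgroup.mem_map, Subgroup.mem_center_iff]
    constructor
    · rintro ⟨y, hy, rfl⟩ z
      obtain ⟨w, rfl⟩ := (suCongr τ).surjective z
      show suCongr τ w * suCongr τ y = suCongr τ y * suCongr τ w
      rw [← map_mul, hy w, map_mul]
    · intro hx
      refine ⟨(suCongr τ).symm x, fun z => ?_, (suCongr τ).apply_symm_apply x⟩
      refine (suCongr τ).injective ?_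
      rw [map_mul, map_mul, MulEquiv.apply_symm_apply]
      exact hx _)

end CfsgLib.USixType
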