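import Cfsg.Agent.Lib.USixType.SplitRank
import Cfsg.Agent.Lib.USixType.CentBound
import Cfsg.Agent.Lib.USixType.Module.Main

/-!
# The split case: the involution is alone among its conjugates in its centraliser

`Setup` is the extraspecial group of order `2^9` seen as a quadratic space with two orthogonal invariant parts,
the smaller fixed by all.  `Setup.false_of` shows that no involution `s` other than the centre has a nonabelian
group of order eight, normalised by its centraliser and with a further fixed element, in the way a conjugate of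
the centre would.
-/

set_option autoImplicit false
set_option linter.unusedSectionVars false
set_option linter.style.haveILetI false

namespace CfsgLib.USixType

open Cfsg Subgroup
open CfsgLib.U62Type (F4)
open CfsgLib.LargeFischer (vadd_self q_add eq_of_vadd z2_cases polar_self_zero q_zero)
open QuadraticMap (polar polarBilin polar_add_left polar_add_right polar_comm)

local notation "SU4" => Cfsg.SU 4 F4 2

variable {C : Type*} [Group C]

/-- The data of the split case. -/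
structure Setup (J : Subgroup C) (zc : C) {V : Type} [AddCommGroup V] [_root_.Module (ZMod 2) V]
    (q : QuadraticForm (ZMod 2) V) where
  ρ : C →* SU4
  surj : Function.Surjective ρ
  ker : ρ.ker = J
  M : Module.Mod q
  π : ↥J → V
  π_mul : ∀ x y, π (x * y) = π x + π y
  π_surj : Function.Surjective π
  π_ker : ∀ x : ↥J, π x = 0 ↔ (x : C) = 1 ∨ (x : C) = zc
  π_sq : ∀ x : ↥J, (x : C) * x = if q (π x) = 0 then 1 else zc
  π_act : ∀ (c : C) (x y : ↥J), (y : C) = c * x * c⁻¹ → π y = M.ρ (ρ c) (π x)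
  z_cen : ∀ c, c * zc = zc * c
  z_ne : zc ≠ 1
  z_sq : zc * zc = 1
  z_mem : zc ∈ J
  A : Subgroup C
  B : Subgroup C
  hA : A.Normal
  hB : B.Normal
  zA : zc ∈ A
  zB : zc ∈ B
  cardA : Nat.card A = 8
  cardB : Nat.card B = 128
  A_le : A ≤ J
  B_le : B ≤ J
  sup : A ⊔ B = J
  A_B : ∀ x ∈ A, ∀ y ∈ B, x * y = y * x
  conjA : ∀ c, ∀ x ∈ A, c * x * c⁻¹ = x ∨ c * x * c⁻¹ = x * zc

theorem exists_setup [Finite C] (J : Subgroup C) [J.Normal] (hJ : IsExtraspecial 2 J)
    (hJc : Nat.card J = 2 ^ 9) {zc : C} (hzJ : zc ∈ J) (hz1 : zc ≠ 1) (hfix : ∀ c : C, c * zc = zc * c)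
    (hself : ∀ c : C, (∀ x ∈ J, c * x = x * c) → c ∈ J) (ι : SU4 ≃* C ⧸ J) (hS : Module.SplitData J zc) :
    ∃ (V : Type) (_ : AddCommGroup V) (_ : _root_.Module (ZMod 2) V) (_ : Finite V)
      (q : QuadraticForm (ZMod 2) V), Nonempty (Setup J zc q) := by
  classical
  obtain ⟨A, B, hA, hB, zA, zB, cA, cB, A_le, B_le, hsup, hinf, hAB, hconj⟩ := hS
  obtain ⟨z', hz', h⟩ := CfsgLib.LargeExtra.OutExtra.exists_chart hJ 3 (by rw [hJc])
  have hmem : (⟨zc, hzJ⟩ : ↥J) ∈ center ↥J := mem_center_iff.2 fun y => Subtype.ext (hfix y)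
  suffices hmain : ∀ {κ : Type} [Fintype κ] [DecidableEq κ] (q : QuadraticForm (ZMod 2) (κ → ZMod 2)),
      CfsgLib.LargeExtra.OutExtra.Chart ↥J (⇑q) z' →
      ∃ (V : Type) (_ : AddCommGroup V) (_ : _root_.Module (ZMod 2) V) (_ : Finite V)
        (q : QuadraticForm (ZMod 2) V), Nonempty (Setup J zc q) by
    rcases h with ⟨⟨Ch⟩⟩ | ⟨⟨Ch⟩⟩
    · exact hmain _ Ch
    · exact hmain _ Ch
  intro κ _ _ q Ch
  rcases Ch.center_le hJ hz' ⟨zc, hzJ⟩ hmem with e | e
  · exact absurd (congrArg Subtype.val e) hz1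
  · subst e
    obtain ⟨r, hr, hπ⟩ := CfsgLib.SuzType.exists_chart_action _ J hJ hz'
      (fun c => by show c * zc * c⁻¹ = zc; rw [hfix, mul_inv_cancel_right]) hself Ch
    let rb := QuotientGroup.lift J r hr.ge
    have hrb : Function.Injective rb := by
      rw [injective_iff_map_eq_one]
      intro x hx
      obtain ⟨c, rfl⟩ := QuotientGroup.mk'_surjective J x
      exact (QuotientGroup.eq_one_iff c).2 (hr.le hx)
    have hzz : zc * zc = 1 := congrArg Subtype.val Ch.z_sq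
    have hnd : ∀ v : κ → ZMod 2, v ≠ 0 → ∃ w, q (v + w) ≠ q v + q w := fun v hv => by
      by_contra hne
      simp only [not_exists] at hne
      obtain ⟨x, rfl⟩ := Ch.surj v
      have hx : x ∈ center ↥J := mem_center_iff.2 fun y => ?_
      · exact hv ((Ch.ker_iff x).2 (Ch.center_le hJ hz' x hx))
      · by_contra hxy
        refine hne (Ch.π y) fun e => hxy ?_
        rw [← Ch.pi_mul] at e
        have s1 : x * y * (x * y) = x * x * (y * y) := by
          rw [Ch.sq_eq (x * y), Ch.sq_eq x, Ch.sq_eq y, e]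
          rcases z2_cases (q (Ch.π x)) with h1 | h1 <;> rcases z2_cases (q (Ch.π y)) with h2 | h2 <;>
            rw [h1, h2] <;> simp [show (1 : ZMod 2) + 1 = 0 from rfl, Ch.z_sq]
        have h' : x * (y * x) * y = x * (x * y) * y := by
          rw [show x * (y * x) * y = x * y * (x * y) by group, s1]; group
        exact mul_left_cancel (mul_right_cancel h')
    have hcard : Nat.card (κ → ZMod 2) = 256 := by
      have hbij : Function.Bijective (fun p : (κ → ZMod 2) × Bool => if p.2 then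
          Function.surjInv Ch.surj p.1 * ⟨zc, hzJ⟩ else Function.surjInv Ch.surj p.1) := by
        have hπz : Ch.π ⟨zc, hzJ⟩ = 0 := (Ch.ker_iff _).2 (.inr rfl)
        have hp : ∀ v (b : Bool), Ch.π (if b then Function.surjInv Ch.surj v * ⟨zc, hzJ⟩
            else Function.surjInv Ch.surj v) = v := fun v b => by
          cases b <;> simp [Ch.pi_mul, hπz, Function.surjInv_eq Ch.surj]
        refine ⟨?_, fun a => ?_⟩
        · rintro ⟨v, b⟩ ⟨v', b'⟩ h
          obtain rfl : v = v' := by rw [← hp v b, ← hp v' b']; exact congrArg Ch.π h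
          cases b <;> cases b' <;> simp [Ch.z_ne] at h ⊢
        · rcases Ch.pi_eq (x := Function.surjInv Ch.surj (Ch.π a)) (y := a) (Function.surjInv_eq Ch.surj _)
            with h | h
          · exact ⟨(Ch.π a, false), by simpa using inv_mul_eq_one.1 h⟩
          · exact ⟨(Ch.π a, true), by simpa using (inv_mul_eq_iff_eq_mul.1 h).symm⟩
      have := Nat.card_congr (Equiv.ofBijective _ hbij)
      rw [Nat.card_prod, Nat.card_eq_fintype_card (α := Bool), Fintype.card_bool, hJc] at this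
      omega
    refine ⟨κ → ZMod 2, inferInstance, inferInstance, inferInstance, q,
      ⟨{ ρ := ι.symm.toMonoidHom.comp (QuotientGroup.mk' J)
         surj := ι.symm.surjective.comp (QuotientGroup.mk'_surjective J)
         ker := ?_
         M :=
          { ρ :=
              { toFun := fun g => (rb (ι g)).1.toLinearMap
                map_one' := by rw [map_one, map_one]; rfl
                map_mul' := fun a b => by rw [map_mul, map_mul]; rfl }
            inj := fun a b h => ι.injective (hrb (CfsgLib.Classical.qAut_ext fun v => LinearMap.congr_fun h v))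
            inv := fun g v => (rb (ι g)).2 v
            nondeg := hnd
            card := hcard }
         π := Ch.π
         π_mul := Ch.pi_mul
         π_surj := Ch.surj
         π_ker := fun x => (Ch.ker_iff x).trans (or_congr ⟨congrArg Subtype.val, fun h => Subtype.ext h⟩
           ⟨congrArg Subtype.val, fun h => Subtype.ext h⟩)
         π_sq := ?_
         π_act := ?_
         z_cen := hfix, z_ne := hz1, z_sq := hzz, z_mem := hzJ
         A := A, B := B, hA := hA, hB := hB, zA := zA, zB := zB, cardA := cA, cardB := cB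
         A_le := A_le, B_le := B_le, sup := hsup, A_B := hAB, conjA := hconj }⟩⟩
    · ext c
      show ι.symm (QuotientGroup.mk' J c) = 1 ↔ c ∈ J
      rw [map_eq_one_iff _ ι.symm.injective]
      exact QuotientGroup.eq_one_iff c
    · intro x
      have h := congrArg Subtype.val (Ch.sq_eq x)
      rwa [Subgroup.coe_mul, apply_ite Subtype.val] at h
    · intro c x y hy
      obtain rfl : y = MulAut.conjNormal c x := Subtype.ext (by rw [MulAut.conjNormal_apply, hy])
      show _ = (rb (ι (ι.symm (QuotientGroup.mk' J c)))).1 (Ch.π x)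
      rw [ι.apply_symm_apply]
      exact hπ c x

namespace Setup

variable {J : Subgroup C} {zc : C} {V : Type} [AddCommGroup V] [_root_.Module (ZMod 2) V] [Finite V]
  {q : QuadraticForm (ZMod 2) V} (S : Setup J zc q)

include S

theorem hnd : ∀ v, (∀ w, polar q v w = 0) → v = 0 := fun v hv => by
  by_contra h0
  obtain ⟨w, hw⟩ := S.M.nondeg v h0
  exact hw (by rw [q_add, hv w, add_zero])

theorem π_one : S.π 1 = 0 := (S.π_ker 1).2 (.inl rfl)

theorem π_inv (x : ↥J) : S.π x⁻¹ = S.π x :=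
  eq_of_vadd (by rw [← S.π_mul, inv_mul_cancel, S.π_one])

theorem eq_of_π {x y : ↥J} (h : S.π x = S.π y) : (y : C) = x ∨ (y : C) = x * zc := by
  rcases (S.π_ker (x⁻¹ * y)).1 (by rw [S.π_mul, S.π_inv, h, vadd_self]) with e | e <;>
    simp only [Subgroup.coe_mul, Subgroup.coe_inv] at e
  · exact .inl (inv_mul_eq_one.1 e).symm
  · exact .inr (inv_mul_eq_iff_eq_mul.1 e)

theorem sq_one_iff (x : ↥J) : q (S.π x) = 0 ↔ (x : C) * x = 1 := by
  rw [S.π_sq]
  split_ifs with h <;> simp [h, S.z_ne]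

theorem comm_iff (x y : ↥J) : polar q (S.π x) (S.π y) = 0 ↔ (x : C) * y = y * x := by
  let zp : ZMod 2 → C := fun a => if a = 0 then 1 else zc
  have hzp : ∀ a b, zp (a + b) = zp a * zp b := fun a b => by
    rcases z2_cases a with rfl | rfl <;> rcases z2_cases b with rfl | rfl <;>
      simp [zp, S.z_sq, show (1 : ZMod 2) + 1 = 0 from rfl]
  have hinj : ∀ a, zp a = 1 → a = 0 := fun a h => by
    rcases z2_cases a with rfl | rfl
    · rfl
    · simp [zp, S.z_ne] at h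
  have hs : ∀ u : ↥J, (u : C) * u = zp (q (S.π u)) := fun u => S.π_sq u
  have e : (x : C) * y * (x * y) = x * x * (y * y) * zp (polar q (S.π x) (S.π y)) := by
    have h := hs (x * y)
    rw [S.π_mul, q_add, hzp, hzp, ← hs, ← hs, Subgroup.coe_mul] at h
    exact h
  constructor
  · intro h
    rw [h, show zp 0 = 1 from if_pos rfl, mul_one] at e
    have h' : (x : C) * ((y : C) * x) * y = x * (x * y) * y := by
      rw [show (x : C) * (y * x) * y = x * y * (x * y) by group, e]; group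
    exact (mul_left_cancel (mul_right_cancel h')).symm
  · intro h
    refine hinj _ ?_
    have h' : (x : C) * x * (y * y) * zp (polar q (S.π x) (S.π y)) = x * x * (y * y) := by
      rw [← e, show (x : C) * y * (x * y) = x * ((y : C) * x) * y by group, ← h]; group
    exact mul_eq_left.1 h'

omit [Finite V] in
theorem polar_inv' (g : SU4) (u v : V) : polar q (S.M.ρ g u) (S.M.ρ g v) = polar q u v := by
  simp only [QuadraticMap.polar, ← map_add, S.M.inv]

/-- The image of a subgroup. -/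
def img (K : Subgroup C) : Submodule (ZMod 2) V where
  carrier := {v | ∃ x : ↥J, (x : C) ∈ K ∧ S.π x = v}
  add_mem' := by
    rintro _ _ ⟨x, hx, rfl⟩ ⟨y, hy, rfl⟩
    exact ⟨x * y, K.mul_mem hx hy, S.π_mul x y⟩
  zero_mem' := ⟨1, K.one_mem, S.π_one⟩
  smul_mem' := by
    rintro a _ ⟨x, hx, rfl⟩
    rcases z2_cases a with rfl | rfl
    · exact ⟨1, K.one_mem, by rw [S.π_one, zero_smul]⟩
    · exact ⟨x, hx, (one_smul _ _).symm⟩

theorem mem_img {K : Subgroup C} {v : V} : v ∈ S.img K ↔ ∃ x : ↥J, (x : C) ∈ K ∧ S.π x = v := Iff.rfl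

theorem card_img {K : Subgroup C} (hK : K ≤ J) (hz : zc ∈ K) [Finite C] :
    Nat.card K = Nat.card ↥(S.img K) * 2 := by
  let f : ↥K →* Multiplicative ↥(S.img K) :=
    MonoidHom.mk' (fun x => Multiplicative.ofAdd ⟨S.π ⟨x, hK x.2⟩, ⟨x, hK x.2⟩, x.2, rfl⟩) fun x y =>
      congrArg Multiplicative.ofAdd (Subtype.ext (S.π_mul ⟨x, hK x.2⟩ ⟨y, hK y.2⟩))
  have hs : Function.Surjective f := fun w => by
    obtain ⟨x, hx, e⟩ := w.toAdd.2
    exact ⟨⟨x, hx⟩, congrArg Multiplicative.ofAdd (Subtype.ext e)⟩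
  have hk : Nat.card f.ker = 2 := by
    have e : (f.ker : Set ↥K) = {1, ⟨zc, hz⟩} := by
      ext x
      rw [SetLike.mem_coe, MonoidHom.mem_ker]
      simp only [Set.mem_insert_iff, Set.mem_singleton_iff, Subtype.ext_iff]
      rw [show ((1 : ↥K) : C) = 1 from rfl, ← S.π_ker ⟨x, hK x.2⟩]
      exact ⟨fun h => congrArg Subtype.val (Multiplicative.ofAdd.injective h),
        fun h => congrArg Multiplicative.ofAdd (Subtype.ext h)⟩
    show Nat.card ↥(f.ker : Set ↥K) = 2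
    rw [e, Nat.card_coe_set_eq, Set.ncard_pair]
    exact fun h => S.z_ne (congrArg Subtype.val h).symm
  rw [← f.ker.index_mul_card, Subgroup.index_ker, MonoidHom.range_eq_top.2 hs, Subgroup.card_top, hk]
  rfl

theorem img_fixed (γ : SU4) {v : V} (hv : v ∈ S.img S.A) : S.M.ρ γ v = v := by
  obtain ⟨c, rfl⟩ := S.surj γ
  obtain ⟨x, hx, rfl⟩ := hv
  have hy : c * x * c⁻¹ ∈ J := S.A_le (S.hA.conj_mem _ hx c)
  rw [← S.π_act c x ⟨_, hy⟩ rfl]
  rcases S.conjA c x hx with h | h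
  · exact congrArg S.π (Subtype.ext h)
  · rw [show (⟨_, hy⟩ : ↥J) = x * ⟨zc, S.z_mem⟩ from Subtype.ext h, S.π_mul,
      (S.π_ker ⟨zc, S.z_mem⟩).2 (.inr rfl), add_zero]

theorem comm_all {K L : Subgroup C} (hsup : K ⊔ L = J) {x : ↥J} (h1 : ∀ y ∈ K, (x : C) * y = y * x)
    (h2 : ∀ y ∈ L, (x : C) * y = y * x) : S.π x = 0 := by
  refine S.hnd _ fun w => ?_
  obtain ⟨y, rfl⟩ := S.π_surj w
  have hle : J ≤ centralizer ({(x : C)} : Set C) := by
    refine hsup.ge.trans (sup_le ?_ ?_) <;> intro y hy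
    · exact mem_centralizer_singleton_iff.2 (h1 y hy).symm
    · exact mem_centralizer_singleton_iff.2 (h2 y hy).symm
  exact (S.comm_iff x y).2 (mem_centralizer_singleton_iff.1 (hle y.2)).symm

theorem A_nondeg : ∀ w ∈ S.img S.A, (∀ w' ∈ S.img S.A, polar q w w' = 0) → w = 0 := by
  rintro _ ⟨x, hx, rfl⟩ h
  exact S.comm_all S.sup (fun y hy => (S.comm_iff x ⟨y, S.A_le hy⟩).1 (h _ ⟨_, hy, rfl⟩))
    fun y hy => S.A_B _ hx y hy

theorem B_nondeg : ∀ w ∈ S.img S.B, (∀ w' ∈ S.img S.B, polar q w w' = 0) → w = 0 := by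
  rintro _ ⟨x, hx, rfl⟩ h
  exact S.comm_all S.sup (fun y hy => (S.A_B y hy _ hx).symm)
    fun y hy => (S.comm_iff x ⟨y, S.B_le hy⟩).1 (h _ ⟨_, hy, rfl⟩)

theorem rank_invol [Finite C] {a : SU4} (ha : a * a = 1) (ha1 : a ≠ 1) :
    _root_.Module.finrank (ZMod 2) ↥(LinearMap.range (S.M.ρ a + 1)) = 2 := by
  obtain ⟨e, he⟩ := exists_sqrt CfsgLib.U62Type.F4.card' ha
  rw [← he, map_mul]
  refine rank_two S.hnd (S.M.inv e) ?_ ?_ (S.img S.A) ?_ (fun w hw => S.img_fixed e hw) S.A_nondeg S.M.card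
  · rw [← map_mul, he, ← map_mul, ha, map_one]
  · rw [← map_mul, he, ← map_one S.M.ρ]
    exact fun h => ha1 (S.M.inj h)
  · have := S.card_img S.A_le S.zA
    rw [S.cardA] at this
    omega

theorem value_count [Finite C] (c0 : ZMod 2) : Nat.card {v : ↥(S.img S.B) // q v = c0} ≤ 36 := by
  have hc : Nat.card ↥(S.img S.B) = 4 ^ 3 := by
    have := S.card_img S.B_le S.zB
    rw [S.cardB] at this
    omega
  have hz := CfsgLib.LargeFischer.zeros_cases (q.comp (S.img S.B).subtype) (fun v hv =>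
    Subtype.ext (S.B_nondeg _ v.2 fun w hw => by
      have := hv ⟨w, hw⟩
      simpa [QuadraticMap.polar] using this)) 3 hc
  have hsplit : Nat.card {v : ↥(S.img S.B) // q v = 0} + Nat.card {v : ↥(S.img S.B) // q v = 1} = 64 := by
    classical
    rw [← Nat.card_sum, ← show 4 ^ 3 = 64 by norm_num, ← hc]
    refine Nat.card_congr ((Equiv.sumCongr (Equiv.refl _) (Equiv.subtypeEquivRight fun v => ?_)).trans
      (Equiv.sumCompl fun v : ↥(S.img S.B) => q v = 0))
    rcases z2_cases (q (v : V)) with h | h <;> simp [h]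
  change 2 * Nat.card {v : ↥(S.img S.B) // q v = 0} = 4 ^ 3 + 2 ^ 3 ∨
    2 * Nat.card {v : ↥(S.img S.B) // q v = 0} + 2 ^ 3 = 4 ^ 3 at hz
  rcases z2_cases c0 with rfl | rfl <;> omega

theorem mem_J_iff {c : C} : c ∈ J ↔ S.ρ c = 1 := by rw [← MonoidHom.mem_ker, S.ker]

theorem sum_mem_img {u : C} {v v' : V} (hv : S.M.ρ (S.ρ u) v = v) (hv' : S.M.ρ (S.ρ u) v' = v')
    (h : v ∉ S.img (J ⊓ centralizer {u})) (h' : v' ∉ S.img (J ⊓ centralizer {u})) :
    v + v' ∈ S.img (J ⊓ centralizer {u}) := by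
  have hmv : ∀ w, S.M.ρ (S.ρ u) w = w → w ∉ S.img (J ⊓ centralizer {u}) →
      ∃ b : ↥J, S.π b = w ∧ u * b * u⁻¹ = b * zc := by
    intro w hw hwU
    obtain ⟨b, rfl⟩ := S.π_surj w
    haveI : J.Normal := S.ker ▸ inferInstance
    have hy : u * b * u⁻¹ ∈ J := Subgroup.Normal.conj_mem inferInstance _ b.2 u
    refine ⟨b, rfl, (S.eq_of_π ((S.π_act u b ⟨_, hy⟩ rfl).trans hw).symm).resolve_left fun e => hwU ?_⟩
    exact ⟨b, mem_inf.2 ⟨b.2, mem_centralizer_singleton_iff.2 (mul_inv_eq_iff_eq_mul.1 e).symm⟩, rfl⟩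
  obtain ⟨b, rfl, hb⟩ := hmv v hv h
  obtain ⟨b', rfl, hb'⟩ := hmv v' hv' h'
  refine ⟨b * b', mem_inf.2 ⟨(b * b').2, mem_centralizer_singleton_iff.2 ?_⟩, S.π_mul b b'⟩
  have e : u * ((b : C) * b') * u⁻¹ = b * b' := by
    calc u * ((b : C) * b') * u⁻¹ = (u * b * u⁻¹) * (u * b' * u⁻¹) := by group
      _ = b * (zc * b') * zc := by rw [hb, hb']; group
      _ = b * b' * (zc * zc) := by rw [← S.z_cen]; group
      _ = _ := by rw [S.z_sq, mul_one]
  exact (mul_inv_eq_iff_eq_mul.1 e).symm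

/-- An involution centralises two elements of `J` whose commutator is the centre. -/
theorem exists_noncomm [Finite C] {u : C} (hu : u * u = 1) :
    ∃ a b : ↥J, u * a = a * u ∧ u * b = b * u ∧ (a : C) * b * (a : C)⁻¹ * (b : C)⁻¹ = zc := by
  by_contra hcon
  simp only [not_exists, not_and] at hcon
  set U := S.img (J ⊓ centralizer {u}) with hU
  have hiso : ∀ v ∈ U, ∀ w ∈ U, polar q v w = 0 := by
    rintro _ ⟨a, ha, rfl⟩ _ ⟨b, hb, rfl⟩
    refine (S.comm_iff a b).2 ?_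
    haveI : J.Normal := S.ker ▸ inferInstance
    have hy : (a : C) * b * (a : C)⁻¹ ∈ J := J.mul_mem (J.mul_mem a.2 b.2) (J.inv_mem a.2)
    have e : S.π ⟨_, hy⟩ = S.π b := by
      rw [S.π_act a b ⟨_, hy⟩ rfl, S.mem_J_iff.1 a.2, map_one]; rfl
    rcases S.eq_of_π e.symm with e | e
    · exact mul_inv_eq_iff_eq_mul.1 e
    · refine absurd ?_ (hcon a b (mem_centralizer_singleton_iff.1 (mem_inf.1 ha).2).symm
        (mem_centralizer_singleton_iff.1 (mem_inf.1 hb).2).symm)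
      show (a : C) * b * (a : C)⁻¹ * (b : C)⁻¹ = zc
      rw [show (a : C) * b * (a : C)⁻¹ = b * zc from e, S.z_cen (b : C), mul_inv_cancel_right]
  have h4 : _root_.Module.finrank (ZMod 2) ↥U ≤ 4 := by
    have hinj : Function.Injective (polarBilin q : V →ₗ[ZMod 2] _root_.Module.Dual (ZMod 2) V) := by
      rw [injective_iff_map_eq_zero]
      exact fun v hv => S.hnd v fun w => LinearMap.congr_fun hv w
    have hle : U.map (polarBilin q) ≤ U.dualAnnihilator := by
      rintro _ ⟨v, hv, rfl⟩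
      exact (Submodule.mem_dualAnnihilator _).2 fun w hw => hiso v hv w hw
    have h1 : _root_.Module.finrank (ZMod 2) ↥U ≤ _root_.Module.finrank (ZMod 2) ↥U.dualAnnihilator :=
      (Submodule.equivMapOfInjective _ hinj U).finrank_eq.le.trans (Submodule.finrank_mono hle)
    have h2 := Subspace.finrank_add_finrank_dualAnnihilator_eq (V := V) U
    rw [finrank_of_card (n := 8) S.M.card] at h2
    linarith
  set K := LinearMap.ker (S.M.ρ (S.ρ u) + 1) with hK
  have hKv : ∀ v, v ∈ K ↔ S.M.ρ (S.ρ u) v = v := fun v => by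
    rw [hK, LinearMap.mem_ker]
    show S.M.ρ (S.ρ u) v + v = 0 ↔ _
    exact ⟨eq_of_vadd, fun h => by rw [h, vadd_self]⟩
  have h6 : 6 ≤ _root_.Module.finrank (ZMod 2) ↥K := by
    have h := (S.M.ρ (S.ρ u) + 1).finrank_range_add_finrank_ker
    rw [finrank_of_card (n := 8) S.M.card, ← hK] at h
    by_cases h1 : S.ρ u = 1
    · have : LinearMap.range (S.M.ρ (S.ρ u) + 1) = ⊥ := by
        rw [LinearMap.range_eq_bot, h1, map_one]
        exact LinearMap.ext fun v => vadd_self v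
      rw [this, finrank_bot] at h
      omega
    · rw [S.rank_invol (by rw [← map_mul, hu, map_one]) h1] at h
      omega
  by_cases hle : K ≤ U
  · have := Submodule.finrank_mono hle
    omega
  obtain ⟨x, hx, hxU⟩ := SetLike.not_le_iff_exists.1 hle
  have hK2 : K ≤ U ⊔ Submodule.span (ZMod 2) {x} := fun v hv => by
    by_cases hvU : v ∈ U
    · exact Submodule.mem_sup_left hvU
    · have h := S.sum_mem_img ((hKv v).1 hv) ((hKv x).1 hx) hvU hxU
      have := Submodule.add_mem_sup h (Submodule.mem_span_singleton_self (R := ZMod 2) x)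
      rwa [add_assoc, vadd_self, add_zero] at this
  have h1 := Submodule.finrank_mono hK2
  have h2 := Submodule.finrank_add_le_finrank_add_finrank U (Submodule.span (ZMod 2) {x})
  have h3 := finrank_span_singleton (K := ZMod 2) (v := x) fun h => hxU (h ▸ U.zero_mem)
  omega

variable {s : C} (hs : s * s = 1) (hs1 : s ≠ 1) (hsz : s ≠ zc) (Y : Subgroup C) (hsY : s ∈ Y)
  (hYs : ∀ y ∈ Y, y * s = s * y) (hY8 : Nat.card Y = 8) (hYnc : ∃ x ∈ Y, ∃ y ∈ Y, x * y ≠ y * x)
  (hYcen : ∀ x ∈ Y, (∀ y ∈ Y, x * y = y * x) → x = 1 ∨ x = s)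
  (hYcomm : ∀ x ∈ Y, ∀ y ∈ Y, x * y * x⁻¹ = y ∨ x * y * x⁻¹ = y * s)
  (hYn : ∀ c, c * s = s * c → ∀ y ∈ Y, c * y * c⁻¹ ∈ Y)
  (hYf : ∃ y ∈ Y, y ≠ 1 ∧ y ≠ s ∧ ∀ c, c * s = s * c → c * y * c⁻¹ = y ∨ c * y * c⁻¹ = y * s)

include hs hs1 hsz hsY hYs hY8 hYnc hYcen hYcomm hYn hYf

omit hs hs1 hsY hYs hY8 hYnc hYcomm hYn hYf in
theorem z_notMem : zc ∉ Y := fun h => by
  rcases hYcen zc h fun y _ => (S.z_cen y).symm with e | e
  · exact S.z_ne e
  · exact hsz e.symm

omit hs hY8 hYnc hYcen hYf hs1 hsz in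
/-- An element of `Y ∩ J` commutes with `C_J(s)`. -/
theorem comm_part {y : ↥J} (hy : (y : C) ∈ Y) (hz : zc ∉ Y) {x : ↥J} (hx : x.1 * s = s * x.1) :
    (x : C) * y = y * x := by
  have hm : (x : C) * y * (x : C)⁻¹ ∈ J := J.mul_mem (J.mul_mem x.2 y.2) (J.inv_mem x.2)
  have e : S.π ⟨_, hm⟩ = S.π y := by
    rw [S.π_act x y ⟨_, hm⟩ rfl, S.mem_J_iff.1 x.2, map_one]; rfl
  rcases S.eq_of_π e.symm with e | e
  · exact mul_inv_eq_iff_eq_mul.1 e
  · refine absurd ?_ hz
    have := Y.mul_mem (Y.inv_mem hy) (hYn x hx y hy)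
    rwa [show (x : C) * y * (x : C)⁻¹ = y * zc from e, inv_mul_cancel_left] at this

theorem false_of_mem [Finite C] (hsJ : s ∈ J) : False := by
  classical
  have hz := S.z_notMem hsz Y hYcen
  haveI : J.Normal := S.ker ▸ inferInstance
  set sJ : ↥J := ⟨s, hsJ⟩ with hsJd
  have hπs : S.π sJ ≠ 0 := fun h => ((S.π_ker sJ).1 h).elim hs1 hsz
  obtain ⟨w0, hw0⟩ : ∃ w, polar q (S.π sJ) w = 1 := by
    by_contra hc
    simp only [not_exists] at hc
    exact hπs (S.hnd _ fun w => (z2_cases _).resolve_right (hc w))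
  have hker : ∀ y : ↥J, (y : C) ∈ Y → (y : C) = 1 ∨ (y : C) = s := by
    intro y hy
    have hperp : ∀ v, polar q (S.π sJ) v = 0 → polar q (S.π y) v = 0 := fun v hv => by
      obtain ⟨x, rfl⟩ := S.π_surj v
      exact (S.comm_iff y x).2 (S.comm_part Y hsY hYs hYcomm hYn hy hz ((S.comm_iff sJ x).1 hv).symm).symm
    have hflip : ∀ v, polar q (S.π sJ) v = 1 → polar q (S.π y) v = polar q (S.π y) w0 := fun v hv => by
      have h := hperp (v + w0) (by rw [polar_add_right, hv, hw0]; rfl)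
      rw [polar_add_right] at h
      exact eq_of_vadd h
    rcases z2_cases (polar q (S.π y) w0) with h0 | h0
    · have : S.π y = 0 := S.hnd _ fun v => by
        rcases z2_cases (polar q (S.π sJ) v) with h | h
        · exact hperp v h
        · rw [hflip v h, h0]
      rcases (S.π_ker y).1 this with e | e
      · exact .inl e
      · exact absurd (e ▸ hy) hz
    · have : S.π y = S.π sJ := eq_of_vadd (S.hnd _ fun v => by
        rw [polar_add_left]
        rcases z2_cases (polar q (S.π sJ) v) with h | h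
        · rw [h, hperp v h, add_zero]
        · rw [h, hflip v h, h0]; rfl)
      rcases S.eq_of_π this.symm with e | e
      · exact .inr e
      · refine absurd ?_ hz
        have := Y.mul_mem (Y.inv_mem hsY) hy
        rwa [show (y : C) = s * zc from e, inv_mul_cancel_left] at this
  obtain ⟨y0, hy0, hy01, hy0s, hy0f⟩ := hYf
  have ht1 : S.ρ y0 ≠ 1 := fun h => (hker ⟨y0, S.mem_J_iff.2 h⟩ hy0).elim hy01 hy0s
  have ht2 : S.ρ y0 * S.ρ y0 = 1 := by
    rw [← map_mul]
    have hc : y0 * y0 = 1 ∨ y0 * y0 = s := hYcen _ (Y.mul_mem hy0 hy0) fun x hx => by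
      have e : x * (y0 * y0) * x⁻¹ = y0 * y0 := by
        rcases hy0f x (hYs x hx) with h | h
        · calc x * (y0 * y0) * x⁻¹ = (x * y0 * x⁻¹) * (x * y0 * x⁻¹) := by group
            _ = _ := by rw [h]
        · calc x * (y0 * y0) * x⁻¹ = (x * y0 * x⁻¹) * (x * y0 * x⁻¹) := by group
            _ = y0 * (s * y0) * s := by rw [h]; group
            _ = y0 * y0 * (s * s) := by rw [← hYs y0 hy0]; group
            _ = _ := by rw [hs, mul_one]
      exact (mul_inv_eq_iff_eq_mul.1 e).symm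
    rcases hc with h | h <;> rw [h]
    · exact map_one _
    · exact S.mem_J_iff.1 hsJ
  -- the index of the centraliser is at least ninety
  set P := (centralizer ({S.ρ y0} : Set SU4)).comap S.ρ with hP
  have hPi : 45 ≤ P.index := by
    rw [hP, Subgroup.index_comap_of_surjective _ S.surj]
    exact index_invol ht2 ht1
  have hle : centralizer ({s} : Set C) ≤ P := fun c hc => by
    rw [hP, mem_comap, mem_centralizer_singleton_iff, ← map_mul, ← map_mul]
    rcases hy0f c (mem_centralizer_singleton_iff.1 hc) with h | h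
    · rw [mul_inv_eq_iff_eq_mul.1 h]
    · rw [mul_inv_eq_iff_eq_mul.1 h, map_mul, map_mul, S.mem_J_iff.1 hsJ, mul_one, ← map_mul]
  have hrel : 2 ≤ (centralizer ({s} : Set C)).relIndex P := by
    have h0 : (centralizer ({s} : Set C)).relIndex P ≠ 0 := index_ne_zero_of_finite
    have h1 : (centralizer ({s} : Set C)).relIndex P ≠ 1 := fun h => by
      rw [relIndex_eq_one] at h
      obtain ⟨x, hx⟩ := S.π_surj w0
      have hxP : (x : C) ∈ P := by
        rw [hP, mem_comap, mem_centralizer_singleton_iff, S.mem_J_iff.1 x.2, one_mul, mul_one]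
      have e := (S.comm_iff sJ x).2 (mem_centralizer_singleton_iff.1 (h hxP)).symm
      rw [hx, hw0] at e
      exact one_ne_zero e
    omega
  have h90 : 90 ≤ (centralizer ({s} : Set C)).index := by
    rw [← relIndex_mul_index hle]
    exact (Nat.mul_le_mul hrel hPi)
  -- the conjugates lie over few vectors
  obtain ⟨w, hw, p, hp, hwp⟩ : ∃ w ∈ S.A, ∃ p ∈ S.B, w * p = s := by
    haveI := S.hB
    exact mem_sup_of_normal_right.1 (S.sup.ge hsJ)
  have hmemJ : ∀ c, c * s * c⁻¹ ∈ J := fun c => Subgroup.Normal.conj_mem inferInstance _ hsJ c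
  have himg : ∀ c, S.π ⟨_, hmemJ c⟩ + S.π ⟨w, S.A_le hw⟩ ∈ S.img S.B ∧
      q (S.π ⟨_, hmemJ c⟩ + S.π ⟨w, S.A_le hw⟩) = q (S.π ⟨w, S.A_le hw⟩) := by
    intro c
    have hpB : c * p * c⁻¹ ∈ S.B := S.hB.conj_mem _ hp c
    have hwA : c * w * c⁻¹ ∈ S.A := S.hA.conj_mem _ hw c
    have e : (⟨_, hmemJ c⟩ : ↥J) = ⟨_, S.A_le hwA⟩ * ⟨_, S.B_le hpB⟩ :=
      Subtype.ext (by show c * s * c⁻¹ = (c * w * c⁻¹) * (c * p * c⁻¹); rw [← hwp]; group)
    have ew : S.π ⟨_, S.A_le hwA⟩ = S.π ⟨w, S.A_le hw⟩ := by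
      rw [S.π_act c ⟨w, S.A_le hw⟩ ⟨_, S.A_le hwA⟩ rfl]
      exact S.img_fixed _ ⟨_, hw, rfl⟩
    have hpol : polar q (S.π ⟨w, S.A_le hw⟩) (S.π ⟨_, S.B_le hpB⟩) = 0 :=
      (S.comm_iff _ _).2 (S.A_B w hw _ hpB)
    have hq0 : q (S.π ⟨_, hmemJ c⟩) = 0 := (S.sq_one_iff _).2 (by
      show c * s * c⁻¹ * (c * s * c⁻¹) = 1
      rw [show c * s * c⁻¹ * (c * s * c⁻¹) = c * (s * s) * c⁻¹ by group, hs, mul_one, mul_inv_cancel])
    have esum : S.π ⟨_, hmemJ c⟩ + S.π ⟨w, S.A_le hw⟩ = S.π ⟨_, S.B_le hpB⟩ := by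
      rw [e, S.π_mul, ew, add_comm (S.π ⟨w, _⟩), add_assoc, vadd_self, add_zero]
    refine ⟨esum ▸ ⟨_, hpB, rfl⟩, ?_⟩
    rw [esum]
    rw [e, S.π_mul, ew, q_add, hpol, add_zero] at hq0
    exact (eq_of_vadd hq0).symm
  let O := {v : ↥(S.img S.B) // q v = q (S.π ⟨w, S.A_le hw⟩)}
  let key : C → O := fun c => ⟨⟨_, (himg c).1⟩, (himg c).2⟩
  let Φ : C ⧸ centralizer ({s} : Set C) → O × Bool := fun x =>
    (key x.out, decide (x.out * s * x.out⁻¹ = Function.invFun key (key x.out) * s *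
      (Function.invFun key (key x.out))⁻¹))
  have hΦ : Function.Injective Φ := by
    intro x y h
    simp only [Φ, Prod.mk.injEq, decide_eq_decide] at h
    obtain ⟨h1, h2⟩ := h
    set r := Function.invFun key (key x.out) with hr
    have hr' : key r = key x.out := Function.invFun_eq ⟨_, rfl⟩
    rw [← h1] at h2
    have hπeq : ∀ a b, key a = key b → S.π ⟨_, hmemJ a⟩ = S.π ⟨_, hmemJ b⟩ := fun a b h =>
      add_right_cancel (congrArg (fun o : O => (o.1 : V)) h)
    have e : x.out * s * x.out⁻¹ = y.out * s * y.out⁻¹ := by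
      by_cases hc : x.out * s * x.out⁻¹ = r * s * r⁻¹
      · rw [hc, ← h2.1 hc]
      · have a1 : x.out * s * x.out⁻¹ = r * s * r⁻¹ * zc := (S.eq_of_π (hπeq _ _ hr')).resolve_left hc
        have a2 : y.out * s * y.out⁻¹ = r * s * r⁻¹ * zc :=
          (S.eq_of_π (hπeq _ _ (hr'.trans h1))).resolve_left fun k => hc (h2.2 k)
        rw [a1, a2]
    rw [← x.out_eq', ← y.out_eq', QuotientGroup.eq, mem_centralizer_singleton_iff]
    calc x.out⁻¹ * y.out * s = x.out⁻¹ * (y.out * s * y.out⁻¹) * y.out := by group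
      _ = x.out⁻¹ * (x.out * s * x.out⁻¹) * y.out := by rw [e]
      _ = s * (x.out⁻¹ * y.out) := by group
  have hle2 := Nat.card_le_card_of_injective Φ hΦ
  rw [← Subgroup.index_eq_card, Nat.card_prod, Nat.card_eq_fintype_card (α := Bool), Fintype.card_bool] at hle2
  have h36 : Nat.card O ≤ 36 := S.value_count _
  omega

theorem false_of_notMem [Finite C] (hsJ : s ∉ J) : False := by
  have hz := S.z_notMem hsz Y hYcen
  haveI : J.Normal := S.ker ▸ inferInstance
  have hker : ∀ y ∈ Y, y ∈ J → y = 1 := by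
    intro y hy hyJ
    suffices hc : ∀ x ∈ Y, y * x = x * y by
      rcases hYcen y hy hc with e | e
      · exact e
      · exact absurd (e ▸ hyJ) hsJ
    intro x hx
    rcases hYcomm x hx y hy with h | h
    · exact (mul_inv_eq_iff_eq_mul.1 h).symm
    · refine absurd ?_ hsJ
      have := J.mul_mem (J.inv_mem hyJ) (h ▸ Subgroup.Normal.conj_mem inferInstance _ hyJ x)
      rwa [inv_mul_cancel_left] at this
  let α : ↥Y →* _root_.Module.End (ZMod 2) V := S.M.ρ.comp (S.ρ.comp Y.subtype)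
  have hα : Function.Injective α := by
    refine S.M.inj.comp ?_
    rw [injective_iff_map_eq_one]
    exact fun y hy => Subtype.ext (hker y y.2 (S.mem_J_iff.2 hy))
  obtain ⟨x₁, hx₁, x₂, hx₂, hne⟩ := hYnc
  set U := S.img (J ⊓ centralizer {s}) with hU
  refine false_of_eight hY8 α hα (fun y v => S.M.inv _ v) (τ := ⟨s, hsY⟩) (fun h => hs1 (congrArg Subtype.val h))
    (Subtype.ext hs) (fun y => Subtype.ext (hYs y y.2)) (x₁ := ⟨x₁, hx₁⟩) (x₂ := ⟨x₂, hx₂⟩)
    (fun h => hne (congrArg Subtype.val h)) S.hnd (fun y hy2 hy1 => ?_) U ?_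
    (fun v v' hv hv' h h' => S.sum_mem_img hv hv' h h') (fun v => ?_)
  · refine S.rank_invol (a := S.ρ y) ?_ fun h => hy1 (Subtype.ext (hker y y.2 (S.mem_J_iff.2 h)))
    rw [← map_mul, show (y : C) * y = 1 from congrArg Subtype.val hy2, map_one]
  · rintro y _ ⟨x, hx, rfl⟩
    obtain ⟨-, hxs⟩ := mem_inf.1 hx
    have hm : (y : C) * x * (y : C)⁻¹ ∈ J := Subgroup.Normal.conj_mem inferInstance _ x.2 _
    show S.M.ρ (S.ρ y) (S.π x) = S.π x
    rw [← S.π_act y x ⟨_, hm⟩ rfl]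
    refine congrArg S.π (Subtype.ext ?_)
    have hY' := hYn x (mem_centralizer_singleton_iff.1 hxs) y y.2
    have hcomm : (x : C) * y * (x : C)⁻¹ * (y : C)⁻¹ ∈ J := by
      rw [show (x : C) * y * (x : C)⁻¹ * (y : C)⁻¹ = x * ((y : C) * (x : C)⁻¹ * (y : C)⁻¹) by group]
      exact J.mul_mem x.2 (Subgroup.Normal.conj_mem inferInstance _ (J.inv_mem x.2) _)
    have h1 := hker _ (Y.mul_mem hY' (Y.inv_mem y.2)) hcomm
    show (y : C) * x * (y : C)⁻¹ = x
    rw [mul_inv_eq_iff_eq_mul, ← mul_inv_eq_iff_eq_mul.1 (mul_inv_eq_one.1 h1)]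
  · obtain ⟨b, rfl⟩ := S.π_surj v
    have hm : s * b * s⁻¹ ∈ J := Subgroup.Normal.conj_mem inferInstance _ b.2 _
    set k : ↥J := b⁻¹ * ⟨_, hm⟩ with hk
    have hπk : S.π k = α ⟨s, hsY⟩ (S.π b) + S.π b := by
      rw [hk, S.π_mul, S.π_inv, add_comm, S.π_act s b ⟨_, hm⟩ rfl]; rfl
    rw [← hπk, S.sq_one_iff]
    have hsi : s⁻¹ = s := inv_eq_of_mul_eq_one_right hs
    have hconj : s * k * s⁻¹ = (k : C)⁻¹ := by
      simp only [hk, Subgroup.coe_mul, Subgroup.coe_inv, hsi]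
      rw [show ((b : C)⁻¹ * (s * b * s))⁻¹ = s⁻¹ * (b : C)⁻¹ * s⁻¹ * b by group, hsi]
      calc s * ((b : C)⁻¹ * (s * b * s)) * s = s * (b : C)⁻¹ * s * b * (s * s) := by group
        _ = _ := by rw [hs, mul_one]
    constructor
    · rintro ⟨k', hk', e⟩
      have hc : s * k = k * s := by
        have h := (mem_centralizer_singleton_iff.1 (mem_inf.1 hk').2).symm
        rcases S.eq_of_π e with e | e <;> rw [e]
        · exact h
        · rw [← mul_assoc, h, mul_assoc, S.z_cen s, mul_assoc]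
      rw [hc, mul_inv_cancel_right] at hconj
      nth_rw 2 [hconj]
      exact mul_inv_cancel _
    · intro h
      refine ⟨k, mem_inf.2 ⟨k.2, mem_centralizer_singleton_iff.2 ?_⟩, rfl⟩
      rw [inv_eq_of_mul_eq_one_right h] at hconj
      exact (mul_inv_eq_iff_eq_mul.1 hconj).symm

/-- No such involution. -/
theorem false_of [Finite C] : False := by
  by_cases h : s ∈ J
  · exact S.false_of_mem hs hs1 hsz Y hsY hYs hY8 hYnc hYcen hYcomm hYn hYf h
  · exact S.false_of_notMem hs hs1 hsz Y hsY hYs hY8 hYnc hYcen hYcomm hYn hYf h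

end Setup

/-- In the split case `z` is the only one of its conjugates in its centraliser. -/
theorem isolated_of_split {G : Type*} [Group G] [Finite G] {z : G} (hz : orderOf z = 2)
    (J : Subgroup ↥(Cz z)) [J.Normal] (hJ : IsExtraspecial 2 J) (hJc : Nat.card J = 2 ^ 9)
    (hself : ∀ c : ↥(Cz z), (∀ x ∈ J, c * x = x * c) → c ∈ J) (ι : SU4 ≃* ↥(Cz z) ⧸ J)
    (hS : Module.SplitData J (⟨z, mem_centralizer_singleton_iff.2 rfl⟩ : ↥(Cz z))) :
    ∀ g : G, g * z * g⁻¹ ∈ Cz z → g * z * g⁻¹ = z := by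
  set zc : ↥(Cz z) := ⟨z, mem_centralizer_singleton_iff.2 rfl⟩ with hzc
  have hfix : ∀ c : ↥(Cz z), c * zc = zc * c := fun c => Subtype.ext (mem_centralizer_singleton_iff.1 c.2)
  have hzz : z * z = 1 := by rw [← pow_two, ← hz, pow_orderOf_eq_one]
  have hz1 : zc ≠ 1 := fun h => by
    rw [show z = 1 from congrArg Subtype.val h, orderOf_one] at hz; omega
  obtain ⟨V, _, _, _, q, ⟨S⟩⟩ :=
    exists_setup J hJ hJc (hself zc fun x _ => (hfix x).symm) hz1 hfix hself ι hS
  have hcz : ∀ c : ↥(Cz z), (c : G) * z = z * (c : G) := fun c => mem_centralizer_singleton_iff.1 c.2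
  -- conjugates in the centraliser centralise the small part
  have hA : ∀ g : G, g * z * g⁻¹ ∈ Cz z → ∀ x ∈ S.A, (x : G) * (g * z * g⁻¹) = g * z * g⁻¹ * x := by
    intro g hg x hx
    have hu : g⁻¹ * z * g ∈ Cz z := mem_centralizer_singleton_iff.2 (by
      calc g⁻¹ * z * g * z = g⁻¹ * (z * (g * z * g⁻¹)) * g := by group
        _ = g⁻¹ * (g * z * g⁻¹ * z) * g := by rw [mem_centralizer_singleton_iff.1 hg]
        _ = z * (g⁻¹ * z * g) := by group)
    obtain ⟨a, b, ha, hb, hab⟩ := S.exists_noncomm (u := ⟨_, hu⟩) (Subtype.ext (by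
      show g⁻¹ * z * g * (g⁻¹ * z * g) = 1
      rw [show g⁻¹ * z * g * (g⁻¹ * z * g) = g⁻¹ * (z * z) * g by group, hzz]; group))
    have hmv : ∀ a : ↥(Cz z), (⟨_, hu⟩ : ↥(Cz z)) * a = a * ⟨_, hu⟩ → g * (a : G) * g⁻¹ ∈ Cz z := fun a ha =>
      mem_centralizer_singleton_iff.2 (by
        have h : g⁻¹ * z * g * (a : G) = (a : G) * (g⁻¹ * z * g) := congrArg Subtype.val ha
        calc g * (a : G) * g⁻¹ * z = g * ((a : G) * (g⁻¹ * z * g)) * g⁻¹ := by group
          _ = g * (g⁻¹ * z * g * (a : G)) * g⁻¹ := by rw [h]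
          _ = z * (g * (a : G) * g⁻¹) := by group)
    set p : ↥(Cz z) := ⟨_, hmv a.1 ha⟩ with hp
    set r : ↥(Cz z) := ⟨_, hmv b.1 hb⟩ with hr
    have hs : p * r * p⁻¹ * r⁻¹ = (⟨g * z * g⁻¹, hg⟩ : ↥(Cz z)) := Subtype.ext (by
      have h : (a : G) * (b : G) * (a : G)⁻¹ * (b : G)⁻¹ = z := congrArg Subtype.val hab
      show g * (a : G) * g⁻¹ * (g * (b : G) * g⁻¹) * (g * (a : G) * g⁻¹)⁻¹ * (g * (b : G) * g⁻¹)⁻¹ = g * z * g⁻¹
      calc g * (a : G) * g⁻¹ * (g * (b : G) * g⁻¹) * (g * (a : G) * g⁻¹)⁻¹ * (g * (b : G) * g⁻¹)⁻¹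
          = g * ((a : G) * (b : G) * (a : G)⁻¹ * (b : G)⁻¹) * g⁻¹ := by group
        _ = _ := by rw [h])
    have key : p * r * x * (p * r)⁻¹ = r * p * x * (r * p)⁻¹ := by
      have e : ∀ c d : ↥(Cz z), c * d * x * (c * d)⁻¹ = c * (d * x * d⁻¹) * c⁻¹ := fun c d => by group
      have em : ∀ c : ↥(Cz z), c * (x * zc) * c⁻¹ = c * x * c⁻¹ * zc := fun c => by
        rw [← mul_assoc, mul_assoc (c * x), ← hfix c⁻¹]; group
      rw [e, e]
      rcases S.conjA p x hx with h1 | h1 <;> rcases S.conjA r x hx with h2 | h2 <;>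
        simp only [h1, h2, em]
    have key' : x * (p * r * p⁻¹ * r⁻¹) = p * r * p⁻¹ * r⁻¹ * x := by
      have h2 : ∀ y, p * r * y * (p * r)⁻¹ = r * p * y * (r * p)⁻¹ →
          (r * p)⁻¹ * (p * r) * y = y * ((r * p)⁻¹ * (p * r)) := fun y h => by
        calc (r * p)⁻¹ * (p * r) * y = (r * p)⁻¹ * (p * r * y * (p * r)⁻¹) * (p * r) := by group
          _ = y * ((r * p)⁻¹ * (p * r)) := by rw [h]; group
      have key2 : ∀ c : ↥(Cz z), c * x * c⁻¹ = x ∨ c * x * c⁻¹ = x * zc := fun c => S.conjA c x hx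
      have h5 := h2 x key
      have h6 : p * r * p⁻¹ * r⁻¹ = (r * p) * ((r * p)⁻¹ * (p * r)) * (r * p)⁻¹ := by group
      rw [h6]
      rcases key2 (r * p)⁻¹ with e | e
      · calc x * ((r * p) * ((r * p)⁻¹ * (p * r)) * (r * p)⁻¹)
            = (r * p) * ((r * p)⁻¹ * x * (r * p)⁻¹⁻¹) * ((r * p)⁻¹ * (p * r)) * (r * p)⁻¹ := by group
          _ = (r * p) * (x * ((r * p)⁻¹ * (p * r))) * (r * p)⁻¹ := by rw [e]; group
          _ = (r * p) * ((r * p)⁻¹ * (p * r) * ((r * p)⁻¹ * x * (r * p)⁻¹⁻¹)) * (r * p)⁻¹ := by rw [← h5, e]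
          _ = _ := by group
      · calc x * ((r * p) * ((r * p)⁻¹ * (p * r)) * (r * p)⁻¹)
            = (r * p) * ((r * p)⁻¹ * x * (r * p)⁻¹⁻¹) * ((r * p)⁻¹ * (p * r)) * (r * p)⁻¹ := by group
          _ = (r * p) * (x * ((zc : ↥(Cz z)) * ((r * p)⁻¹ * (p * r)))) * (r * p)⁻¹ := by rw [e]; group
          _ = (r * p) * (x * ((r * p)⁻¹ * (p * r)) * zc) * (r * p)⁻¹ := by rw [← hfix]; group
          _ = (r * p) * ((r * p)⁻¹ * (p * r) * ((r * p)⁻¹ * x * (r * p)⁻¹⁻¹)) * (r * p)⁻¹ := by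
              rw [← h5, e]; group
          _ = _ := by group
    rw [hs] at key'
    exact congrArg Subtype.val key'
  intro g hg
  by_contra hne
  have hu : g⁻¹ * z * g⁻¹⁻¹ ∈ Cz z := mem_centralizer_singleton_iff.2 (by
    calc g⁻¹ * z * g⁻¹⁻¹ * z = g⁻¹ * (z * (g * z * g⁻¹)) * g := by group
      _ = g⁻¹ * (g * z * g⁻¹ * z) * g := by rw [mem_centralizer_singleton_iff.1 hg]
      _ = z * (g⁻¹ * z * g⁻¹⁻¹) := by group)
  have hmemC : ∀ x : ↥S.A, g * ((x : ↥(Cz z)) : G) * g⁻¹ ∈ Cz z := fun x =>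
    mem_centralizer_singleton_iff.2 (by
      have h := hA g⁻¹ hu x x.2
      calc g * ((x : ↥(Cz z)) : G) * g⁻¹ * z = g * (((x : ↥(Cz z)) : G) * (g⁻¹ * z * g⁻¹⁻¹)) * g⁻¹ := by group
        _ = g * (g⁻¹ * z * g⁻¹⁻¹ * ((x : ↥(Cz z)) : G)) * g⁻¹ := by rw [h]
        _ = z * (g * ((x : ↥(Cz z)) : G) * g⁻¹) := by group)
  let φ : ↥S.A →* ↥(Cz z) := MonoidHom.mk' (fun x => ⟨_, hmemC x⟩) fun x y => Subtype.ext (by
    show g * (((x : ↥(Cz z)) : G) * ((y : ↥(Cz z)) : G)) * g⁻¹ = g * _ * g⁻¹ * (g * _ * g⁻¹)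
    group)
  have hφv : ∀ x, (φ x : G) = g * ((x : ↥(Cz z)) : G) * g⁻¹ := fun x => rfl
  have hφi : Function.Injective φ := fun x y h =>
    Subtype.ext (Subtype.ext (mul_left_cancel (mul_right_cancel ((hφv x).symm.trans ((congrArg Subtype.val h).trans (hφv y))))))
  set s : ↥(Cz z) := ⟨g * z * g⁻¹, hg⟩ with hsd
  have hφz : φ ⟨zc, S.zA⟩ = s := rfl
  -- elements commuting with `s` act on the group as on the small part
  have hact : ∀ c : ↥(Cz z), c * s = s * c → ∀ x : ↥S.A,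
      c * φ x * c⁻¹ = φ x ∨ c * φ x * c⁻¹ = φ x * s := by
    intro c hc x
    have hc' : g⁻¹ * (c : G) * g ∈ Cz z := mem_centralizer_singleton_iff.2 (by
      have h : (c : G) * (g * z * g⁻¹) = g * z * g⁻¹ * (c : G) := congrArg Subtype.val hc
      calc g⁻¹ * (c : G) * g * z = g⁻¹ * ((c : G) * (g * z * g⁻¹)) * g := by group
        _ = g⁻¹ * (g * z * g⁻¹ * (c : G)) * g := by rw [h]
        _ = z * (g⁻¹ * (c : G) * g) := by group)
    rcases S.conjA ⟨_, hc'⟩ x.1 x.2 with h | h <;> have h' := congrArg (fun t : ↥(Cz z) => g * (t : G) * g⁻¹) h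
    · left
      refine Subtype.ext ?_
      simp only [Subgroup.coe_mul, Subgroup.coe_inv] at h' ⊢
      rw [hφv]
      calc (c : G) * (g * ((x : ↥(Cz z)) : G) * g⁻¹) * (c : G)⁻¹
          = g * (g⁻¹ * (c : G) * g * ((x : ↥(Cz z)) : G) * (g⁻¹ * (c : G) * g)⁻¹) * g⁻¹ := by group
        _ = _ := h'
    · right
      refine Subtype.ext ?_
      simp only [Subgroup.coe_mul, Subgroup.coe_inv] at h' ⊢
      rw [hφv, show (s : G) = g * z * g⁻¹ from rfl]
      calc (c : G) * (g * ((x : ↥(Cz z)) : G) * g⁻¹) * (c : G)⁻¹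
          = g * (g⁻¹ * (c : G) * g * ((x : ↥(Cz z)) : G) * (g⁻¹ * (c : G) * g)⁻¹) * g⁻¹ := by group
        _ = g * (((x : ↥(Cz z)) : G) * z) * g⁻¹ := h'
        _ = g * ((x : ↥(Cz z)) : G) * g⁻¹ * (g * z * g⁻¹) := by group
  have hφs : ∀ x, φ x * s = s * φ x := fun x => by
    rw [← hφz, ← map_mul, ← map_mul]
    exact congrArg φ (Subtype.ext (hfix x.1))
  have hcenA : ∀ x : ↥S.A, (∀ y : ↥S.A, x * y = y * x) → x = 1 ∨ x = ⟨zc, S.zA⟩ := fun x hx => by
    have h0 : S.π ⟨x.1, S.A_le x.2⟩ = 0 := S.comm_all S.sup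
      (fun y hy => congrArg Subtype.val (hx ⟨y, hy⟩)) fun y hy => S.A_B _ x.2 y hy
    rcases (S.π_ker _).1 h0 with e | e
    · exact .inl (Subtype.ext e)
    · exact .inr (Subtype.ext e)
  obtain ⟨x₁, x₂, hx12⟩ : ∃ x₁ x₂ : ↥S.A, x₁ * x₂ ≠ x₂ * x₁ := by
    by_contra hc
    simp only [not_exists, not_not] at hc
    have hsub : (Set.univ : Set ↥S.A) ⊆ {1, ⟨zc, S.zA⟩} := fun x _ => hcenA x (hc x)
    have := (Set.ncard_le_ncard hsub (Set.toFinite _)).trans (Set.ncard_insert_le _ _)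
    rw [Set.ncard_univ, S.cardA, Set.ncard_singleton] at this
    omega
  have hs2 : s * s = 1 := by rw [← hφz, ← map_mul]; exact (congrArg φ (Subtype.ext S.z_sq)).trans (map_one φ)
  have hs1 : s ≠ 1 := fun h => S.z_ne (congrArg Subtype.val (hφi (hφz.trans (h.trans (map_one φ).symm))))
  refine S.false_of hs2 hs1 (fun h => hne (congrArg Subtype.val h)) φ.range ⟨_, hφz⟩ ?_ ?_ ?_ ?_ ?_ ?_ ?_
  · rintro _ ⟨x, rfl⟩
    exact hφs x
  · rw [← Nat.card_congr (MonoidHom.ofInjective hφi).toEquiv, S.cardA]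
  · exact ⟨_, ⟨x₁, rfl⟩, _, ⟨x₂, rfl⟩, fun h => hx12 (hφi (by rw [map_mul, map_mul]; exact h))⟩
  · rintro _ ⟨x, rfl⟩ h
    rcases hcenA x fun y => hφi (by rw [map_mul, map_mul]; exact h _ ⟨y, rfl⟩) with e | e <;> rw [e]
    · exact .inl (map_one φ)
    · exact .inr hφz
  · rintro _ ⟨x, rfl⟩ _ ⟨y, rfl⟩
    exact hact _ (hφs x) y
  · rintro c hc _ ⟨x, rfl⟩
    rcases hact c hc x with e | e <;> rw [e]
    · exact ⟨x, rfl⟩
    · exact ⟨x * ⟨zc, S.zA⟩, by rw [map_mul, hφz]⟩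
  · refine ⟨φ x₁, ⟨x₁, rfl⟩, fun h => hx12 ?_, fun h => hx12 ?_, fun c hc => hact c hc x₁⟩
    · rw [hφi (h.trans (map_one φ).symm), one_mul, mul_one]
    · rw [hφi (h.trans hφz.symm)]
      exact Subtype.ext (hfix x₂.1).symm

end CfsgLib.USixType
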