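import Cfsg.Agent.Lib.ThreeTransp.SURadical.Points

/-!
# A hyperbolic frame at an isotropic vector of the four-dimensional unitary space, and transvections at it
-/

set_option autoImplicit false
set_option linter.unusedSectionVars false

namespace CfsgLib.USixType

open Cfsg CfsgLib.SURadical
open CfsgLib.PSUAut (Isot act act_mul act_one act_form act_smul act_add act_ext exists_perp exists_partner
  exists_iso_shift eq_zero_of_perp)

variable {F : Type} [Field F] [Fintype F]

local notation "hh" => Cfsg.hermForm 4 F 2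

/-- Two isotropic vectors orthogonal to `v` with product one, with the coordinates they give on `v⊥`. -/
structure Flag (v p q : Fin 4 → F) : Prop where
  hvv : hh v v = 0
  hpp : hh p p = 0
  hqq : hh q q = 0
  hpv : hh p v = 0
  hqv : hh q v = 0
  hpq : hh p q = 1
  decomp : ∀ y, hh y v = 0 → ∃ γ : F, y = γ • v + hh y q • p + hh y p • q

variable (hF : Fintype.card F = 2 ^ 2)
include hF

theorem exists_flag {v : Fin 4 → F} (hv : Isot 2 v) : ∃ p q, Flag v p q := by
  obtain ⟨σ, hσ⟩ := exists_sigma hF
  obtain ⟨hv0, hvv⟩ := hv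
  obtain ⟨y₀, hy₀⟩ := exists_partner hF hσ hv0
  obtain ⟨a, hww, hwv, -⟩ := exists_iso_shift hF hσ hvv hy₀
  set w := y₀ + a • v with hw
  clear_value w
  have hvw : hh v w = 1 := comm_one hF hwv
  obtain ⟨p, hp0, hpp, hpv, hpw⟩ : ∃ p, p ≠ 0 ∧ hh p p = 0 ∧ hh p v = 0 ∧ hh p w = 0 := by
    obtain ⟨e, he0, he⟩ := exists_perp hF hσ ![v, w] (by norm_num)
    have hev : hh e v = 0 := he 0
    have hew : hh e w = 0 := he 1
    rcases norm_zero_or_one hF e with hee | hee
    · exact ⟨e, he0, hee, hev, hew⟩
    obtain ⟨f, hf0, hf⟩ := exists_perp hF hσ ![v, w, e] (by norm_num)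
    have hfv : hh f v = 0 := hf 0
    have hfw : hh f w = 0 := hf 1
    have hfe : hh f e = 0 := hf 2
    rcases norm_zero_or_one hF f with hff | hff
    · exact ⟨f, hf0, hff, hfv, hfw⟩
    refine ⟨e + f, fun h0 => ?_, ?_, by rw [add_left hF, hev, hfv, add_zero], by rw [add_left hF, hew, hfw, add_zero]⟩
    · have h1 : hh (e + f) e = 1 := by rw [add_left hF, hee, hfe, add_zero]
      rw [h0, zero_left hF] at h1
      exact zero_ne_one h1
    · rw [add_left hF, add_right hF, add_right hF, hee, hff, hfe, (comm_zero hF).1 hfe, add_zero, zero_add, add_self hF]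
  obtain ⟨q, hqq, hqp, hqv, hqw⟩ : ∃ q, hh q q = 0 ∧ hh q p = 1 ∧ hh q v = 0 ∧ hh q w = 0 := by
    obtain ⟨y, hy⟩ := exists_partner hF hσ hp0
    have h1 : hh (y + hh y w • v + hh y v • w) p = 1 := by
      rw [add_left hF, add_left hF, smul_left hF, smul_left hF, hy, (comm_zero hF).1 hpv, (comm_zero hF).1 hpw,
        mul_zero, mul_zero, add_zero, add_zero]
    obtain ⟨b, hb, hb1, -⟩ := exists_iso_shift hF hσ hpp h1
    refine ⟨_, hb, hb1, ?_, ?_⟩
    · rw [add_left hF, add_left hF, add_left hF, smul_left hF, smul_left hF, smul_left hF, hvv, hwv, hpv, mul_zero,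
        mul_zero, add_zero, mul_one, add_zero, add_self hF]
    · rw [add_left hF, add_left hF, add_left hF, smul_left hF, smul_left hF, smul_left hF, hvw, hww, hpw, mul_zero,
        mul_zero, add_zero, mul_one, add_zero, add_self hF]
  have hpq : hh p q = 1 := comm_one hF hqp
  refine ⟨p, q, hvv, hpp, hqq, hpv, hqv, hpq, fun y hy => ⟨hh y w, ?_⟩⟩
  have hli : LinearIndependent F ![v, w, p, q] := by
    rw [Fintype.linearIndependent_iff]
    intro c hc i
    simp only [Fin.sum_univ_four, Matrix.cons_val_zero, Matrix.cons_val_one, Matrix.cons_val_two,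
      Matrix.cons_val_three, Matrix.head_cons, Matrix.tail_cons] at hc
    have hpv' := (comm_zero hF).1 hpv
    have hpw' := (comm_zero hF).1 hpw
    have hqv' := (comm_zero hF).1 hqv
    have hqw' := (comm_zero hF).1 hqw
    have e0 := congrArg (fun x => hh x w) hc
    have e1 := congrArg (fun x => hh x v) hc
    have e2 := congrArg (fun x => hh x q) hc
    have e3 := congrArg (fun x => hh x p) hc
    simp only [add_left hF, smul_left hF, zero_left hF, hvv, hww, hvw, hwv, hpp, hpq, hqq, hqp, hpv, hpw, hqv, hqw,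
      hpv', hpw', hqv', hqw', mul_zero, mul_one, add_zero, zero_add] at e0 e1 e2 e3
    fin_cases i <;> assumption
  have htop := hli.span_eq_top_of_card_eq_finrank (by simp)
  rw [← sub_eq_zero]
  refine eq_zero_of_perp hF hσ fun x => ?_
  refine (comm_zero hF).1 ?_
  have key : ∀ x ∈ Submodule.span F (Set.range ![v, w, p, q]),
      hh (y - (hh y w • v + hh y q • p + hh y p • q)) x = 0 := by
    intro x hx
    induction hx using Submodule.span_induction with
    | mem x hx =>
      obtain ⟨i, rfl⟩ := hx
      rw [CfsgLib.PSUAut.hsub_left hF hσ, add_left hF, add_left hF, smul_left hF, smul_left hF, smul_left hF]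
      have hpv' := (comm_zero hF).1 hpv
      have hpw' := (comm_zero hF).1 hpw
      have hqv' := (comm_zero hF).1 hqv
      have hqw' := (comm_zero hF).1 hqw
      fin_cases i <;>
        simp [hvv, hww, hvw, hwv, hpp, hpq, hqq, hqp, hpv, hpw, hqv, hqw, hpv', hpw', hqv', hqw', hy]
    | zero => exact zero_right hF _
    | add a b _ _ ha hb => rw [add_right hF, ha, hb, add_zero]
    | smul c a _ ha => rw [smul_right hF, ha, mul_zero]
  exact key x (htop ▸ Submodule.mem_top)

namespace Flag

variable {v p q : Fin 4 → F} (f : Flag v p q)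
include f

theorem hqp : hh q p = 1 := comm_one hF f.hpq

theorem swap : Flag v q p :=
  ⟨f.hvv, f.hqq, f.hpp, f.hqv, f.hpv, comm_one hF f.hpq, fun y hy => by
    obtain ⟨γ, hγ⟩ := f.decomp y hy
    exact ⟨γ, hγ.trans (by abel)⟩⟩

/-- The isotropic vectors on a line through `v`. -/
theorem shift_isot (μ : F) (hp0 : p + μ • v ≠ 0) : Isot 2 (p + μ • v) := by
  refine ⟨hp0, ?_⟩
  rw [add_left hF, add_right hF, add_right hF, smul_left hF, smul_left hF, smul_right hF, smul_right hF, f.hpp,
    f.hpv, (comm_zero hF).1 f.hpv, f.hvv]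
  ring

theorem shift_ne (μ : F) : p + μ • v ≠ 0 := fun h => by
  have := congrArg (fun x => hh x q) h
  simp only [add_left hF, smul_left hF, zero_left hF, (comm_zero hF).1 f.hqv, f.hpq, mul_zero, add_zero] at this
  exact one_ne_zero this

theorem shift_perp (μ : F) : hh (p + μ • v) v = 0 := by
  rw [add_left hF, smul_left hF, f.hpv, f.hvv, mul_zero, add_zero]

/-- An element fixing `v⊥` is trivial or the transvection at `v`. -/
theorem eq_or_isPt (hv0 : v ≠ 0) {g : Cfsg.SU 4 F 2} (hg : ∀ y, hh y v = 0 → act g y = y) : g = 1 ∨ IsPt g v := by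
  obtain ⟨σ, hσ⟩ := exists_sigma hF
  obtain ⟨y₀, hy₀⟩ := exists_partner hF hσ hv0
  obtain ⟨a, hww, hwv, -⟩ := exists_iso_shift hF hσ f.hvv hy₀
  set w := y₀ + a • v with hw
  clear_value w
  set δ := act g w - w with hδ
  have hperp : ∀ y, hh y v = 0 → hh y δ = 0 := fun y hy => by
    rw [hδ, CfsgLib.PSUAut.hsub_right hF hσ]
    conv_lhs => arg 1; rw [← hg y hy, act_form]
    exact sub_self _
  obtain ⟨β, hβ⟩ := Submodule.mem_span_singleton.1 (CfsgLib.PSUAut.mem_span_single_of_perp hF hσ hperp)
  have hgw : act g w = w + β • v := by rw [hβ, hδ]; abel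
  have h1 : β + β ^ 2 = 0 := by
    have h := act_form g w w
    rw [hgw, add_left hF, add_right hF, add_right hF, smul_left hF, smul_left hF, smul_right hF, smul_right hF, hww,
      hwv, comm_one hF hwv, f.hvv] at h
    linear_combination h
  have hall : ∀ y, act g y = y + (hh y v * β) • v := fun y => by
    have h0 : hh (y + hh y v • w) v = 0 := by
      rw [add_left hF, smul_left hF, hwv, mul_one, add_self hF]
    have h2 := hg _ h0
    rw [act_add, act_smul, hgw, smul_add, smul_smul] at h2
    calc act g y = (act g y + (hh y v • w + (hh y v * β) • v)) + (hh y v • w + (hh y v * β) • v) := by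
          rw [add_assoc, CfsgLib.SURadical.vadd_self hF, add_zero]
      _ = y + (hh y v • w + hh y v • w) + (hh y v * β) • v := by rw [h2]; abel
      _ = _ := by rw [CfsgLib.SURadical.vadd_self hF, add_zero]
  rcases eq_or_ne β 0 with e | e
  · exact .inl (act_ext fun y => by rw [hall, e, mul_zero, zero_smul, add_zero, act_one])
  · refine .inr ⟨⟨hv0, f.hvv⟩, fun y => ?_⟩
    have e1 : β = 1 := by
      have h3 : β * (β + 1) = 0 := by linear_combination h1
      have h4 := (mul_eq_zero.1 h3).resolve_left e
      linear_combination h4 - add_self hF (1 : F)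
    rw [hall, e1, mul_one]

end Flag

end CfsgLib.USixType
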