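import Cfsg.Agent.Lib.USixType.Pt
import Cfsg.Agent.Lib.USixType.Frame
import Cfsg.Agent.Lib.LargeExtra.Automizer
import Cfsg.Agent.Lib.MonsterType.Perp

/-!
# `z` is weakly closed in `J`

Were `s = gzg⁻¹` another conjugate in `J`, a transvection at the point of `s` would be covered by an element of the
conjugate of `J` that centralises `z`; seen from `s` this element has no place.
-/

set_option autoImplicit false
set_option linter.unusedSectionVars false
set_option maxHeartbeats 1000000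

namespace CfsgLib.USixType

open Cfsg CfsgLib.SURadical CfsgLib.LargeExtra
open CfsgLib.PSUAut (Isot act act_mul act_one act_form act_smul act_add act_ext)

namespace Model

variable {G : Type*} [Group G] [Finite G] {F : Type} [Field F] [Fintype F] {z : G} (m : Model z F)

local notation "hh" => Cfsg.hermForm 4 F 2
set_option quotPrecheck false

include m

theorem sq_cases (a : ↥(MonoidHom.ker m.ρ)) : a * a = 1 ∨ ((a : ↥(Cz z)) : G) * (a : ↥(Cz z)) = z := by
  rcases (m.χ_ker (a * a)).1 (by rw [m.χ_mul, vadd_self m.hF]) with e | e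
  · exact .inl (Subtype.ext (Subtype.ext e))
  · exact .inr e

/-- Commuting elements lie over orthogonal vectors. -/
theorem tr_of_comm {a b : ↥(MonoidHom.ker m.ρ)} (h : a * b = b * a) : hh (m.χ a) (m.χ b) + hh (m.χ a) (m.χ b) ^ 2 = 0 := by
  have hab : hh (m.χ (a * b)) (m.χ (a * b)) = hh (m.χ a) (m.χ a) + hh (m.χ b) (m.χ b) +
      (hh (m.χ a) (m.χ b) + hh (m.χ a) (m.χ b) ^ 2) := by
    rw [m.χ_mul, add_left m.hF, add_right m.hF, add_right m.hF, conj_form m.hF (m.χ a) (m.χ b)]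
    ring
  have hsq : a * b * (a * b) = a * a * (b * b) := by rw [mul_assoc, ← mul_assoc b, ← h]; group
  have hval : ∀ c : ↥(MonoidHom.ker m.ρ), hh (m.χ c) (m.χ c) = 1 → ((c : ↥(Cz z)) : G) * (c : ↥(Cz z)) = z := fun c hc =>
    (m.sq_cases c).resolve_left fun e => by rw [(m.χ_sq c).2 e] at hc; exact zero_ne_one hc
  have h2 : (1 : F) + 1 = 0 := add_self m.hF 1
  set T := hh (m.χ a) (m.χ b) + hh (m.χ a) (m.χ b) ^ 2 with hT
  rcases norm_zero_or_one m.hF (m.χ a) with ea | ea <;> rcases norm_zero_or_one m.hF (m.χ b) with eb | eb <;>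
    rw [ea, eb] at hab
  · have : a * b * (a * b) = 1 := by rw [hsq, (m.χ_sq a).1 ea, (m.χ_sq b).1 eb, one_mul]
    rw [(m.χ_sq _).2 this] at hab
    linear_combination -hab
  · rcases norm_zero_or_one m.hF (m.χ (a * b)) with e | e
    · have h1 := congrArg (fun c : ↥(MonoidHom.ker m.ρ) => ((c : ↥(Cz z)) : G)) (hsq.symm.trans ((m.χ_sq _).1 e))
      simp only [(m.χ_sq a).1 ea, one_mul, Subgroup.coe_mul, Subgroup.coe_one, hval b eb] at h1
      exact absurd h1 m.z_ne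
    · rw [e] at hab; linear_combination -hab
  · rcases norm_zero_or_one m.hF (m.χ (a * b)) with e | e
    · have h1 := congrArg (fun c : ↥(MonoidHom.ker m.ρ) => ((c : ↥(Cz z)) : G)) (hsq.symm.trans ((m.χ_sq _).1 e))
      simp only [(m.χ_sq b).1 eb, mul_one, Subgroup.coe_mul, Subgroup.coe_one, hval a ea] at h1
      exact absurd h1 m.z_ne
    · rw [e] at hab; linear_combination -hab
  · rcases norm_zero_or_one m.hF (m.χ (a * b)) with e | e
    · rw [e] at hab; linear_combination -hab + h2 * 0 - h2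
    · have h1 := congrArg (fun c : ↥(MonoidHom.ker m.ρ) => ((c : ↥(Cz z)) : G)) hsq
      simp only [Subgroup.coe_mul] at h1
      have h3 := hval (a * b) e
      simp only [Subgroup.coe_mul] at h3
      rw [h3, hval a ea, hval b eb, m.zz] at h1
      exact absurd h1 m.z_ne

/-- `J` is extraspecial, with the hypotheses for pairs. -/
theorem pairHyp {g : G} (hs : g * z * g⁻¹ ∈ m.J) (hne : g * z * g⁻¹ ≠ z) : PairHyp m.J z g := by
  obtain ⟨zk, hzk⟩ := m.exists_z
  have hzJ : z ∈ m.J := ⟨_, zk.2, hzk⟩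
  have hmem : ∀ {y : G}, y ∈ m.J → ∃ a : ↥(MonoidHom.ker m.ρ), ((a : ↥(Cz z)) : G) = y := by
    rintro _ ⟨a, ha, rfl⟩
    exact ⟨⟨a, ha⟩, rfl⟩
  obtain ⟨σ, hσ⟩ := exists_sigma m.hF
  have hnd : ∀ a : ↥(MonoidHom.ker m.ρ), (∀ b : ↥(MonoidHom.ker m.ρ), b * a = a * b) → m.χ a = 0 := by
    intro a ha
    refine CfsgLib.PSUAut.eq_zero_of_perp m.hF hσ fun y => ?_
    by_contra hc
    obtain ⟨ω, hω⟩ : ∃ ω : F, ω + ω ^ 2 ≠ 0 := by
      by_contra h
      simp only [not_exists, not_not] at h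
      classical
      have : Fintype.card F ≤ 2 :=
        calc Fintype.card F ≤ ({0, 1} : Finset F).card := Finset.card_le_card fun x _ => by
              have h3 : x * (x + 1) = 0 := by linear_combination h x
              rcases mul_eq_zero.1 h3 with e | e
              · simp [e]
              · simp [show x = 1 by linear_combination e - add_self m.hF (1 : F)]
          _ ≤ 2 := Finset.card_le_two
      have := m.hF
      omega
    obtain ⟨b, hb⟩ := m.χ_surj ((ω * (hh y (m.χ a))⁻¹) • y)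
    have h := m.tr_of_comm (ha b)
    rw [hb, smul_left m.hF, mul_assoc, inv_mul_cancel₀ hc, mul_one] at h
    exact hω h
  have hcz : ∀ c ∈ Subgroup.center m.J, (c : G) = 1 ∨ (c : G) = z := by
    intro c hc
    obtain ⟨a, ha⟩ := hmem c.2
    rw [← ha]
    refine (m.χ_ker a).1 (hnd a fun b => Subtype.ext (Subtype.ext ?_))
    have h := congrArg Subtype.val (Subgroup.mem_center_iff.1 hc ⟨_, ⟨_, b.2, rfl⟩⟩)
    simp only [Subgroup.coe_mul, ← ha] at h ⊢
    exact h
  let zJ : ↥m.J := ⟨z, hzJ⟩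
  have hzc : zJ ∈ Subgroup.center m.J := Subgroup.mem_center_iff.2 fun y => Subtype.ext (by
    obtain ⟨a, ha⟩ := hmem y.2
    show (y : G) * z = z * y
    rw [← ha]
    exact m.z_comm a)
  have hcentre : (Subgroup.center m.J).map m.J.subtype = Subgroup.zpowers z := by
    refine le_antisymm ?_ (Subgroup.zpowers_le.2 ⟨zJ, hzc, rfl⟩)
    rintro _ ⟨c, hc, rfl⟩
    rcases hcz c hc with e | e <;> rw [Subgroup.subtype_apply, e]
    · exact one_mem _
    · exact Subgroup.mem_zpowers z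
  have hsqJ : ∀ y : ↥m.J, y * y = 1 ∨ y * y = zJ := fun y => by
    obtain ⟨a, ha⟩ := hmem y.2
    rcases m.sq_cases a with e | e
    · left
      refine Subtype.ext ?_
      show (y : G) * y = 1
      rw [← ha]
      exact congrArg (fun c : ↥(MonoidHom.ker m.ρ) => ((c : ↥(Cz z)) : G)) e
    · right
      refine Subtype.ext ?_
      show (y : G) * y = z
      rw [← ha, e]
  have hcomm : ∀ x y : ↥m.J, x * y * x⁻¹ * y⁻¹ = 1 ∨ x * y * x⁻¹ * y⁻¹ = zJ := fun x y => by
    obtain ⟨a, ha⟩ := hmem x.2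
    obtain ⟨b, hb⟩ := hmem y.2
    have h : m.χ (a * b * a⁻¹ * b⁻¹) = 0 := by
      rw [m.χ_mul, m.χ_mul, m.χ_mul, m.χ_inv, m.χ_inv]
      calc m.χ a + m.χ b + m.χ a + m.χ b = (m.χ a + m.χ a) + (m.χ b + m.χ b) := by abel
        _ = 0 := by rw [vadd_self m.hF, vadd_self m.hF, add_zero]
    rcases (m.χ_ker _).1 h with e | e <;> [left; right] <;> refine Subtype.ext ?_ <;>
      simpa [← ha, ← hb, zJ] using e
  have hna : ∃ x y : ↥m.J, x * y ≠ y * x := by
    by_contra h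
    simp only [not_exists, not_not] at h
    obtain ⟨a, ha⟩ := m.χ_surj (Pi.single 0 1)
    have h0 := hnd a fun b => Subtype.ext (Subtype.ext (by
      simp only [Subgroup.coe_mul]
      exact congrArg Subtype.val (h ⟨_, ⟨_, b.2, rfl⟩⟩ ⟨_, ⟨_, a.2, rfl⟩⟩)))
    rw [ha] at h0
    simpa using congrFun h0 0
  have hzJ1 : zJ ≠ 1 := fun e => m.z_ne (congrArg Subtype.val e)
  have hzzJ : zJ * zJ = 1 := Subtype.ext m.zz
  refine ⟨CfsgLib.MonsterType.isExtraspecial_of_center (fun y => ?_) zJ hzJ1 (fun c => ?_) hcomm hsqJ hna, hcentre,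
    m.ord, le_antisymm (fun x hx => ?_) ?_, fun c hc => ?_, hs, hne⟩
  · refine ⟨2, ?_⟩
    rw [show (2 : ℕ) ^ 2 = 2 * 2 from rfl, pow_mul, pow_two, pow_two]
    rcases hsqJ y with e | e <;> rw [e]
    · exact one_mul 1
    · exact hzzJ
  · refine ⟨fun hc => ?_, ?_⟩
    · rcases hcz c hc with e | e
      · exact .inl (Subtype.ext e)
      · exact .inr (Subtype.ext e)
    · rintro (rfl | rfl)
      · exact one_mem _
      · exact hzc
  · rw [Subgroup.mem_centralizer_iff] at hx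
    have hxC : x ∈ Cz z := Subgroup.mem_centralizer_singleton_iff.2 (hx z hzJ).symm
    have h1 : m.ρ ⟨x, hxC⟩ = 1 := act_ext fun y => by
      obtain ⟨b, rfl⟩ := m.χ_surj y
      rw [act_one, ← m.χ_equiv]
      refine congrArg m.χ (Subtype.ext (Subtype.ext ?_))
      simp only [MulAut.conjNormal_apply, Subgroup.coe_mul, Subgroup.coe_inv]
      have h2 : ((b : ↥(Cz z)) : G) * x = x * ((b : ↥(Cz z)) : G) := hx _ ⟨_, b.2, rfl⟩
      rw [← h2, mul_inv_cancel_right]
    exact ⟨⟨x, ⟨_, h1, rfl⟩⟩, Subgroup.mem_center_iff.2 fun y => Subtype.ext (hx y y.2), rfl⟩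
  · rintro _ ⟨c, hc, rfl⟩
    exact Subgroup.mem_centralizer_iff.2 fun y hy => congrArg Subtype.val (Subgroup.mem_center_iff.1 hc ⟨y, hy⟩)
  · rw [Subgroup.mem_normalizer_iff]
    intro y
    constructor
    · rintro ⟨a, ha, rfl⟩
      exact ⟨(⟨c, hc⟩ : ↥(Cz z)) * a * (⟨c, hc⟩ : ↥(Cz z))⁻¹,
        (inferInstance : (m.ρ.ker).Normal).conj_mem a ha _, rfl⟩
    · rintro ⟨a, ha, e⟩
      refine ⟨(⟨c, hc⟩ : ↥(Cz z))⁻¹ * a * (⟨c, hc⟩ : ↥(Cz z)),
        by simpa using (inferInstance : (m.ρ.ker).Normal).conj_mem a ha (⟨c, hc⟩ : ↥(Cz z))⁻¹, ?_⟩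
      simp only [Subgroup.subtype_apply, Subgroup.coe_mul, Subgroup.coe_inv] at e ⊢
      rw [e]; group

/-- The vectors under `J` and its conjugate. -/
def Meet (g : G) (d : Fin 4 → F) : Prop := ∃ k : ↥(MonoidHom.ker m.ρ), g⁻¹ * ((k : ↥(Cz z)) : G) * g ∈ m.J ∧ m.χ k = d

section

variable {g : G} {a₀ : ↥(MonoidHom.ker m.ρ)} (ha₀ : ((a₀ : ↥(Cz z)) : G) = g * z * g⁻¹) (hne : g * z * g⁻¹ ≠ z)
include ha₀ hne

theorem hyp : PairHyp m.J z g := m.pairHyp (ha₀ ▸ ⟨_, a₀.2, rfl⟩) hne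

theorem isot : Isot 2 (m.χ a₀) := by
  refine ⟨fun e => ?_, (m.χ_sq a₀).2 (Subtype.ext (Subtype.ext ?_))⟩
  · rcases (m.χ_ker a₀).1 e with e' | e' <;> rw [ha₀] at e'
    · exact (m.hyp ha₀ hne).x_ne_one e'
    · exact hne e'
  · simp only [Subgroup.coe_mul, Subgroup.coe_one, ha₀]
    exact (m.hyp ha₀ hne).xx

theorem fix_of_comm {c : ↥(Cz z)} (hc : (c : G) * (g * z * g⁻¹) = g * z * g⁻¹ * c) :
    act (m.ρ c) (m.χ a₀) = m.χ a₀ := by
  rw [← m.χ_equiv]
  refine congrArg m.χ (Subtype.ext (Subtype.ext ?_))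
  simp only [MulAut.conjNormal_apply, Subgroup.coe_mul, Subgroup.coe_inv, ha₀]
  rw [hc, mul_inv_cancel_right]

/-- Lifts centralising `s`. -/
theorem exists_lift {T : Cfsg.SU 4 F 2} (hT : act T (m.χ a₀) = m.χ a₀) :
    ∃ c : ↥(Cz z), m.ρ c = T ∧ (c : G) * (g * z * g⁻¹) = g * z * g⁻¹ * c := by
  obtain ⟨c, rfl⟩ := m.surj T
  rw [← m.χ_equiv] at hT
  rcases m.χ_eq hT with e | e <;>
    simp only [MulAut.conjNormal_apply, Subgroup.coe_mul, Subgroup.coe_inv, ha₀] at e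
  · exact ⟨c, rfl, mul_inv_eq_iff_eq_mul.1 e⟩
  · obtain ⟨⟨q₀, hq, hqx⟩, -⟩ := (m.hyp ha₀ hne).automizer
    obtain ⟨a, ha, rfl⟩ := hq
    refine ⟨a * c, by rw [map_mul, show m.ρ a = 1 from ha, one_mul], mul_inv_eq_iff_eq_mul.1 ?_⟩
    simp only [Subgroup.subtype_apply] at hqx
    simp only [Subgroup.coe_mul]
    calc (a : G) * (c : G) * (g * z * g⁻¹) * ((a : G) * (c : G))⁻¹
        = (a : G) * ((c : G) * (g * z * g⁻¹) * (c : G)⁻¹) * (a : G)⁻¹ := by group
      _ = ((a : G) * (g * z * g⁻¹) * (a : G)⁻¹) * ((a : G) * z * (a : G)⁻¹) := by rw [e]; group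
      _ = z * (g * z * g⁻¹) * z := by rw [hqx, m.z_comm a, mul_inv_cancel_right]
      _ = g * z * g⁻¹ := by rw [← (m.hyp ha₀ hne).xz, mul_assoc _ z z, m.zz, mul_one]

theorem conj_frame {c : ↥(Cz z)} (hc : (c : G) * (g * z * g⁻¹) = g * z * g⁻¹ * c) {y : G}
    (hy : g⁻¹ * y * g ∈ m.J) : g⁻¹ * ((c : G) * y * (c : G)⁻¹) * g ∈ m.J := by
  have hc' : (c : G) ∈ Subgroup.centralizer ({g * z * g⁻¹} : Set G) := Subgroup.mem_centralizer_singleton_iff.2 hc
  exact PairHyp.mem_map_iff.1 ((Subgroup.mem_normalizer_iff.1 ((m.hyp ha₀ hne).normalizer_map hc') y).1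
    (PairHyp.mem_map_iff.2 hy))

theorem meet_self : m.Meet g (m.χ a₀) := by
  obtain ⟨zk, hzk⟩ := m.exists_z
  exact ⟨a₀, ha₀ ▸ ⟨_, zk.2, by rw [Subgroup.subtype_apply, hzk]; group⟩, rfl⟩

theorem meet_add {d e : Fin 4 → F} (hd : m.Meet g d) (he : m.Meet g e) : m.Meet g (d + e) := by
  obtain ⟨a, ha, rfl⟩ := hd
  obtain ⟨b, hb, rfl⟩ := he
  refine ⟨a * b, ?_, m.χ_mul a b⟩
  have := mul_mem ha hb
  simp only [Subgroup.coe_mul]
  rwa [show g⁻¹ * (((a : ↥(Cz z)) : G) * ((b : ↥(Cz z)) : G)) * g =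
    g⁻¹ * ((a : ↥(Cz z)) : G) * g * (g⁻¹ * ((b : ↥(Cz z)) : G) * g) by group]

theorem meet_tr {d e : Fin 4 → F} (hd : m.Meet g d) (he : m.Meet g e) : hh d e + hh d e ^ 2 = 0 := by
  obtain ⟨a, ha, rfl⟩ := hd
  obtain ⟨b, hb, rfl⟩ := he
  refine m.tr_of_comm (Subtype.ext (Subtype.ext ?_))
  simp only [Subgroup.coe_mul]
  exact (m.hyp ha₀ hne).E_comm _ ⟨⟨_, a.2, rfl⟩, PairHyp.mem_map_iff.2 ha⟩ _ ⟨⟨_, b.2, rfl⟩, PairHyp.mem_map_iff.2 hb⟩

/-- Transvections at points orthogonal to the point of `s` move such vectors inside. -/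
theorem meet_move {d : Fin 4 → F} (hd : m.Meet g d) {p : Fin 4 → F} (hp : Isot 2 p) (hpv : hh p (m.χ a₀) = 0) :
    m.Meet g (hh d p • p) := by
  obtain ⟨t, ht⟩ := exists_pt m.hF hp
  obtain ⟨c, hc, hcs⟩ := m.exists_lift ha₀ hne (ht.act_of_perp ((comm_zero m.hF).1 hpv))
  obtain ⟨a, ha, rfl⟩ := hd
  have h1 : m.Meet g (m.χ (MulAut.conjNormal c a)) := ⟨_, by
    simp only [MulAut.conjNormal_apply, Subgroup.coe_mul, Subgroup.coe_inv]
    exact m.conj_frame ha₀ hne hcs ha, rfl⟩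
  have h2 := m.meet_add ha₀ hne h1 ⟨a, ha, rfl⟩
  rw [m.χ_equiv, hc, ht.2, add_comm, ← add_assoc, vadd_self m.hF, zero_add] at h2
  exact h2

/-- A vector all whose moves lie inside is orthogonal to the point of `s`. -/
theorem perp_of_moves {y : Fin 4 → F} (htr : hh y (m.χ a₀) + hh y (m.χ a₀) ^ 2 = 0)
    (hy : ∀ p, Isot 2 p → hh p (m.χ a₀) = 0 → m.Meet g (hh y p • p)) : hh y (m.χ a₀) = 0 := by
  set v := m.χ a₀ with hv
  by_contra hne0
  have h1 : hh y v = 1 := by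
    have h3 : hh y v * (hh y v + 1) = 0 := by linear_combination htr
    linear_combination (mul_eq_zero.1 h3).resolve_left hne0 - add_self m.hF (1 : F)
  obtain ⟨p, q, f⟩ := exists_flag m.hF (m.isot ha₀ hne)
  obtain ⟨ω, hω, hω'⟩ : ∃ ω : F, ω + ω ^ 2 + 1 = 0 ∧ ω ≠ 0 := by
    classical
    obtain ⟨w, hw0, hw1⟩ : ∃ w : F, w ≠ 0 ∧ w ≠ 1 := by
      by_contra h
      simp only [not_exists, not_and, not_not] at h
      have : Fintype.card F ≤ 2 :=
        calc Fintype.card F ≤ ({0, 1} : Finset F).card := Finset.card_le_card fun x _ => by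
              rcases eq_or_ne x 0 with e | e
              · simp [e]
              · simp [h x e]
          _ ≤ 2 := Finset.card_le_two
      have := m.hF
      omega
    exact ⟨w, (mul_eq_zero.1 (show (w - 1) * (w + w ^ 2 + 1) = 0 by linear_combination cube_eq_one m.hF hw0)).resolve_left
      (sub_ne_zero.2 hw1), hw0⟩
  -- shifts realising any coefficient
  have hval : ∀ (r : Fin 4 → F) (c μ : F), μ = (c + hh y r) ^ 2 → hh y (r + μ • v) = c := by
    intro r c μ hμ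
    rw [add_right m.hF, smul_right m.hF, h1, mul_one, hμ]
    have h4 : (c + hh y r) ^ 4 = c + hh y r := by
      rcases eq_or_ne (c + hh y r) 0 with e | e
      · rw [e]; simp
      · linear_combination (c + hh y r) * cube_eq_one m.hF e
    linear_combination h4 + add_self m.hF (hh y r)
  have m1 := hy _ (f.shift_isot m.hF ((1 + hh y p) ^ 2) (f.shift_ne m.hF _)) (f.shift_perp m.hF _)
  have f' := f.swap m.hF
  have m2 := hy _ (f'.shift_isot m.hF ((ω + hh y q) ^ 2) (f'.shift_ne m.hF _)) (f'.shift_perp m.hF _)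
  rw [hval p 1 _ rfl, one_smul] at m1
  rw [hval q ω _ rfl] at m2
  have h := m.meet_tr ha₀ hne m1 m2
  rw [smul_right m.hF, add_left m.hF, add_right m.hF, add_right m.hF, smul_left m.hF, smul_left m.hF,
    smul_right m.hF, smul_right m.hF, f.hpq, f.hpv, (comm_zero m.hF).1 f.hqv, f.hvv] at h
  have hω3 : ω ^ 3 = 1 := cube_eq_one m.hF hω'
  exact one_ne_zero (show (1 : F) = 0 by linear_combination hω - h + hω3 * ω)

/-- The line of the point of `s` lies inside. -/
theorem meet_line (l : F) : m.Meet g (l • m.χ a₀) := by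
  set v := m.χ a₀ with hv
  obtain ⟨p, q, f⟩ := exists_flag m.hF (m.isot ha₀ hne)
  have hperp : ∀ d, m.Meet g d → hh d v = 0 := fun d hd =>
    m.perp_of_moves ha₀ hne (m.meet_tr ha₀ hne hd (m.meet_self ha₀ hne)) fun r hr hr' => m.meet_move ha₀ hne hd hr hr'
  have hline : ∀ {r s : Fin 4 → F}, Flag v r s → ∀ d, m.Meet g d → hh d r ≠ 0 → m.Meet g (l • v) := by
    intro r s f d hd hdr
    have h1 := m.meet_move ha₀ hne hd (f.shift_isot m.hF (l * (hh d r)⁻¹) (f.shift_ne m.hF _)) (f.shift_perp m.hF _)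
    have h2 := m.meet_move ha₀ hne hd (f.shift_isot m.hF 0 (f.shift_ne m.hF _)) (f.shift_perp m.hF _)
    rw [zero_smul, add_zero] at h2
    rw [add_right m.hF, smul_right m.hF, hperp d hd, mul_zero, add_zero] at h1
    have h3 := m.meet_add ha₀ hne h1 h2
    rwa [smul_add, smul_smul, mul_left_comm, mul_inv_cancel₀ hdr, mul_one, add_comm (hh d r • r), add_assoc,
      vadd_self m.hF, add_zero] at h3
  by_cases hp : ∃ d, m.Meet g d ∧ hh d p ≠ 0
  · obtain ⟨d, hd, h⟩ := hp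
    exact hline f d hd h
  by_cases hq : ∃ d, m.Meet g d ∧ hh d q ≠ 0
  · obtain ⟨d, hd, h⟩ := hq
    exact hline (f.swap m.hF) d hd h
  simp only [not_exists, not_and, not_not] at hp hq
  -- so everything inside lies on the line
  have hmult : ∀ d, m.Meet g d → ∃ γ : F, d = γ • v := fun d hd => by
    obtain ⟨γ, hγ⟩ := f.decomp d (hperp d hd)
    exact ⟨γ, by rw [hγ, hp d hd, hq d hd, zero_smul, zero_smul, add_zero, add_zero]⟩
  by_cases hbig : ∃ γ : F, γ ≠ 0 ∧ γ ≠ 1 ∧ m.Meet g (γ • v)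
  · obtain ⟨γ, h0, h1, hγ⟩ := hbig
    have hself : m.Meet g ((1 : F) • v) := (one_smul F v).symm ▸ m.meet_self ha₀ hne
    have hsum := m.meet_add ha₀ hne hγ hself
    rw [← add_smul] at hsum
    have hzero : m.Meet g ((0 : F) • v) := by
      have := m.meet_add ha₀ hne hself hself
      rwa [← add_smul, add_self m.hF] at this
    have hl : l = 0 ∨ l = 1 ∨ l = γ ∨ l = γ + 1 := by
      classical
      have hne1 : γ + 1 ≠ γ := fun e => one_ne_zero (show (1 : F) = 0 by linear_combination e)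
      have hne2 : γ + 1 ≠ 1 := fun e => h0 (by linear_combination e)
      have hne3 : γ + 1 ≠ 0 := fun e => h1 (by linear_combination e - add_self m.hF (1 : F))
      have huniv : ({0, 1, γ, γ + 1} : Finset F) = Finset.univ := Finset.eq_univ_of_card _ (by
        rw [Finset.card_insert_of_notMem (by simp [Ne.symm h0, Ne.symm hne3]),
          Finset.card_insert_of_notMem (by simp [Ne.symm h1, h0]), Finset.card_insert_of_notMem (by simp),
          Finset.card_singleton, m.hF]; norm_num)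
      have hmem := Finset.mem_univ l
      rw [← huniv] at hmem
      simpa using hmem
    rcases hl with e | e | e | e <;> rw [e] <;> assumption
  exfalso
  simp only [not_exists, not_and] at hbig
  have hsmall : ∀ d, m.Meet g d → d = 0 ∨ d = v := fun d hd => by
    obtain ⟨γ, rfl⟩ := hmult d hd
    rcases eq_or_ne γ 0 with e | e
    · exact .inl (by rw [e, zero_smul])
    rcases eq_or_ne γ 1 with e' | e'
    · exact .inr (by rw [e', one_smul])
    exact absurd hd (hbig γ e e')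
  -- the part of the other frame centralising `z` is too small
  obtain ⟨zk, hzk⟩ := m.exists_z
  obtain ⟨b₀, hb₀⟩ : ∃ b : ↥(MonoidHom.ker m.ρ), ((b : ↥(Cz z)) : G) = g⁻¹ * z * g := by
    obtain ⟨b, hb, e⟩ := PairHyp.mem_map_iff.1 (m.hyp ha₀ hne).automizer.2
    exact ⟨⟨b, hb⟩, e⟩
  set v' := m.χ b₀ with hv'
  have hne' : g⁻¹ * z * g⁻¹⁻¹ ≠ z := fun e => hne (by
    rw [inv_inv] at e
    calc g * z * g⁻¹ = g * (g⁻¹ * z * g) * g⁻¹ := by rw [e]
      _ = z := by group)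
  obtain ⟨p', q', f'⟩ := exists_flag m.hF (m.isot (g := g⁻¹) (by rw [hb₀, inv_inv]) hne')
  choose lift hlift using m.χ_surj
  let y : F × F × F → (Fin 4 → F) := fun c => c.1 • v' + c.2.1 • p' + c.2.2 • q'
  have hvv' : hh v' v' = 0 := f'.hvv
  have hpv' : hh p' v' = 0 := f'.hpv
  have hqv' : hh q' v' = 0 := f'.hqv
  have hvp' : hh v' p' = 0 := (comm_zero m.hF).1 hpv'
  have hvq' : hh v' q' = 0 := (comm_zero m.hF).1 hqv'
  have hy : ∀ c, hh (y c) v' = 0 := fun c => by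
    simp only [y, add_left m.hF, smul_left m.hF, hvv', hpv', hqv', mul_zero, add_zero]
  have hinR : ∀ c, g * ((lift (y c) : ↥(Cz z)) : G) * g⁻¹ ∈ Cz z := fun c => by
    have h1 : lift (y c) * b₀ = b₀ * lift (y c) := m.comm_of_tr (by rw [hlift, ← hv', hy c]; simp)
    have h2 := congrArg (fun k : ↥(MonoidHom.ker m.ρ) => ((k : ↥(Cz z)) : G)) h1
    simp only [Subgroup.coe_mul, hb₀] at h2
    refine Subgroup.mem_centralizer_singleton_iff.2 ?_
    calc g * ((lift (y c) : ↥(Cz z)) : G) * g⁻¹ * z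
        = g * (((lift (y c) : ↥(Cz z)) : G) * (g⁻¹ * z * g)) * g⁻¹ := by group
      _ = _ := by rw [h2]; group
  have hfix : ∀ c (x : Fin 4 → F), hh x v = 0 → act (m.ρ ⟨_, hinR c⟩) x = x := by
    intro c x hx
    set r : ↥(Cz z) := ⟨_, hinR c⟩ with hr
    have hrJ : g⁻¹ * (r : G) * g ∈ m.J := by
      refine ⟨_, (lift (y c)).2, ?_⟩
      show ((lift (y c) : ↥(Cz z)) : G) = g⁻¹ * (g * _ * g⁻¹) * g
      group
    have hrs : (r : G) * (g * z * g⁻¹) = g * z * g⁻¹ * r :=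
      (m.hyp ha₀ hne).map_comm (PairHyp.mem_map_iff.2 hrJ)
    have hin : ∀ x : Fin 4 → F, hh x v = 0 → m.Meet g (act (m.ρ r) x + x) := by
      intro x hx
      obtain ⟨a, rfl⟩ := m.χ_surj x
      have hac : a * a₀ = a₀ * a := m.comm_of_tr (by rw [← hv, hx]; simp)
      have has := congrArg (fun k : ↥(MonoidHom.ker m.ρ) => ((k : ↥(Cz z)) : G)) hac
      simp only [Subgroup.coe_mul, ha₀] at has
      refine ⟨MulAut.conjNormal r a * a⁻¹, ?_, by rw [m.χ_mul, m.χ_equiv, m.χ_inv]⟩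
      simp only [MulAut.conjNormal_apply, Subgroup.coe_mul, Subgroup.coe_inv]
      have hconj := m.conj_frame ha₀ hne (c := (a : ↥(Cz z))) has
        (y := (r : G)⁻¹) (by rw [show g⁻¹ * (r : G)⁻¹ * g = (g⁻¹ * (r : G) * g)⁻¹ by group]; exact inv_mem hrJ)
      rw [show g⁻¹ * ((r : G) * ((a : ↥(Cz z)) : G) * (r : G)⁻¹ * ((a : ↥(Cz z)) : G)⁻¹) * g =
        (g⁻¹ * (r : G) * g) * (g⁻¹ * (((a : ↥(Cz z)) : G) * (r : G)⁻¹ * ((a : ↥(Cz z)) : G)⁻¹) * g) by group]
      exact mul_mem hrJ hconj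
    obtain ⟨ω, hω0, hω1⟩ : ∃ w : F, w ≠ 0 ∧ w ≠ 1 := by
      classical
      by_contra h
      simp only [not_exists, not_and, not_not] at h
      have : Fintype.card F ≤ 2 :=
        calc Fintype.card F ≤ ({0, 1} : Finset F).card := Finset.card_le_card fun x _ => by
              rcases eq_or_ne x 0 with e | e
              · simp [e]
              · simp [h x e]
          _ ≤ 2 := Finset.card_le_two
      have := m.hF
      omega
    rcases hsmall _ (hin x hx) with e | e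
    · calc act (m.ρ r) x = act (m.ρ r) x + x + x := by rw [add_assoc, vadd_self m.hF, add_zero]
        _ = x := by rw [e, zero_add]
    · exfalso
      have h2 := hsmall _ (hin (ω • x) (by rw [smul_left m.hF, hx, mul_zero]))
      rw [act_smul, ← smul_add, e] at h2
      rcases h2 with e' | e'
      · exact (m.isot ha₀ hne).1 ((smul_eq_zero.1 e').resolve_left hω0)
      · exact hω1 (by
          have h3 : (ω - 1) • v = 0 := by rw [sub_smul, one_smul, e', sub_self]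
          exact sub_eq_zero.1 ((smul_eq_zero.1 h3).resolve_right (m.isot ha₀ hne).1))
  have hker : ∀ c, m.ρ ⟨_, hinR c⟩ = 1 → y c = 0 ∨ y c = v' := fun c e => by
    obtain ⟨k, hk⟩ : ∃ k : ↥(MonoidHom.ker m.ρ), k = ⟨⟨_, hinR c⟩, e⟩ := ⟨_, rfl⟩
    have hkJ : g⁻¹ * ((k : ↥(Cz z)) : G) * g ∈ m.J :=
      ⟨_, (lift (y c)).2, by rw [hk]; show _ = g⁻¹ * (g * _ * g⁻¹) * g; group; rfl⟩
    have hval : ∀ u : ↥(MonoidHom.ker m.ρ), ((k : ↥(Cz z)) : G) = g * ((u : ↥(Cz z)) : G) * g⁻¹ → y c = m.χ u := fun u hu => by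
      rw [← hlift (y c)]
      refine congrArg m.χ (Subtype.ext (Subtype.ext ?_))
      rw [hk] at hu
      exact mul_left_cancel (mul_right_cancel hu)
    have hs : g * ((zk : ↥(Cz z)) : G) * g⁻¹ = ((a₀ : ↥(Cz z)) : G) := by rw [hzk, ha₀]
    rcases hsmall _ ⟨k, hkJ, rfl⟩ with e1 | e1
    · rcases (m.χ_ker k).1 e1 with e2 | e2
      · exact .inl ((hval 1 (by rw [e2]; simp)).trans m.χ_one)
      · exact .inr (hval b₀ (by rw [e2, hb₀]; group))
    · rcases m.χ_eq (e1.trans hv) with e2 | e2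
      · exact .inl ((hval zk (by rw [e2, hs])).trans ((m.χ_ker zk).2 (.inr hzk)))
      · refine .inr ((hval (zk * b₀) (by
          rw [e2, ha₀, Subgroup.coe_mul, Subgroup.coe_mul, hzk, hb₀]; group)).trans ?_)
        rw [m.χ_mul, (m.χ_ker zk).2 (.inr hzk), zero_add]
  -- three elements over the basis would meet the transvection at most twice
  have hcoord : ∀ c, y c = 0 ∨ y c = v' → c.2 = (0, 0) := by
    intro c hc
    have e1 : hh (y c) q' = c.2.1 := by
      simp only [y, add_left m.hF, smul_left m.hF, hvq', f'.hpq, f'.hqq, mul_zero, mul_one, add_zero, zero_add]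
    have e2 : hh (y c) p' = c.2.2 := by
      simp only [y, add_left m.hF, smul_left m.hF, hvp', f'.hpp, f'.hqp m.hF, mul_zero, mul_one, add_zero, zero_add]
    rcases hc with e | e <;> rw [e] at e1 e2 <;>
      simp only [zero_left m.hF, hvq', hvp'] at e1 e2 <;>
      exact Prod.ext e1.symm e2.symm
  have hcases : ∀ c, m.ρ ⟨_, hinR c⟩ = 1 ∨ IsPt (m.ρ ⟨_, hinR c⟩) v := fun c =>
    f.eq_or_isPt m.hF (m.isot ha₀ hne).1 (hfix c)
  have hne1 : ∀ b : F × F, b ≠ (0, 0) → IsPt (m.ρ ⟨_, hinR (0, b)⟩) v := fun b hb =>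
    (hcases (0, b)).resolve_left fun e => hb (hcoord _ (hker _ e))
  have t1 := hne1 (1, 0) (by simp)
  have t2 := hne1 (0, 1) (by simp)
  have t3 := hne1 (1, 1) (by simp)
  have hprod : m.ρ ⟨_, hinR (0, (1, 1))⟩ = m.ρ ⟨_, hinR (0, (1, 0))⟩ * m.ρ ⟨_, hinR (0, (0, 1))⟩ := by
    have hyy : y (0, (1, 1)) = y (0, (1, 0)) + y (0, (0, 1)) := by simp [y]
    have h1 : m.χ (lift (y (0, (1, 1)))) = m.χ (lift (y (0, (1, 0))) * lift (y (0, (0, 1)))) := by
      rw [m.χ_mul, hlift, hlift, hlift, hyy]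
    have hs : (g * z * g⁻¹) ∈ Cz z := ha₀ ▸ (a₀ : ↥(Cz z)).2
    have hρs : m.ρ ⟨_, hs⟩ = 1 := by
      rw [show (⟨_, hs⟩ : ↥(Cz z)) = a₀ from Subtype.ext ha₀.symm]
      exact a₀.2
    rcases m.χ_eq h1 with e | e <;> simp only [Subgroup.coe_mul] at e
    · rw [← map_mul]
      refine congrArg m.ρ (Subtype.ext ?_)
      simp only [Subgroup.coe_mul, e]
      group
    · rw [← mul_one (_ * m.ρ _), ← hρs, ← map_mul, ← map_mul]
      refine congrArg m.ρ (Subtype.ext ?_)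
      simp only [Subgroup.coe_mul, e]
      group
  rw [t1.unique m.hF t2] at hprod
  rw [← t2.unique m.hF t3] at hprod
  have h1 : m.ρ ⟨_, hinR (0, (0, 1))⟩ = 1 := mul_eq_left.1 hprod.symm
  exact absurd (hcoord _ (hker _ h1)) (by simp)

/-- The transvection at the point of `s` is covered by the other frame. -/
theorem exists_cover : ∃ r : ↥(Cz z), g⁻¹ * (r : G) * g ∈ m.J ∧ IsPt (m.ρ r) (m.χ a₀) := by
  set v := m.χ a₀ with hv
  have hh' := m.hyp ha₀ hne
  obtain ⟨hv0, hvv⟩ := m.isot ha₀ hne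
  obtain ⟨p, q, f⟩ := exists_flag m.hF (m.isot ha₀ hne)
  -- squares act trivially
  have hinv : ∀ r : ↥(Cz z), g⁻¹ * (r : G) * g ∈ m.J → m.ρ r * m.ρ r = 1 := fun r hr => by
    rw [← map_mul]
    rcases hh'.map_sq_cases (PairHyp.mem_map_iff.2 hr) with e | e
    · rw [show r * r = 1 from Subtype.ext e, map_one]
    · rw [show r * r = a₀ from Subtype.ext (e.trans ha₀.symm)]
      exact a₀.2
  have hcomm : ∀ r : ↥(Cz z), g⁻¹ * (r : G) * g ∈ m.J → ∀ x, Isot 2 x → hh x v = 0 →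
      ∀ t t' : Cfsg.SU 4 F 2, IsPt t x → IsPt t' (act (m.ρ r) x) →
        ∃ r' : ↥(Cz z), g⁻¹ * (r' : G) * g ∈ m.J ∧ m.ρ r' = t' * t := by
    intro r hr x hx hxv t t' ht ht'
    obtain ⟨c, hc, hcs⟩ := m.exists_lift ha₀ hne (ht.act_of_perp ((comm_zero m.hF).1 hxv))
    refine ⟨r * c * r⁻¹ * c⁻¹, ?_, ?_⟩
    · simp only [Subgroup.coe_mul, Subgroup.coe_inv]
      rw [show g⁻¹ * ((r : G) * (c : G) * (r : G)⁻¹ * (c : G)⁻¹) * g =
        (g⁻¹ * (r : G) * g) * (g⁻¹ * ((c : G) * (r : G)⁻¹ * (c : G)⁻¹) * g) by group]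
      refine mul_mem hr (m.conj_frame ha₀ hne hcs ?_)
      rw [show g⁻¹ * (r : G)⁻¹ * g = (g⁻¹ * (r : G) * g)⁻¹ by group]
      exact inv_mem hr
    · have ht2 : t * t = 1 := act_ext fun w => by
        rw [act_mul, ht.2, ht.2, add_left m.hF, smul_left m.hF, hx.2, mul_zero, add_zero, add_assoc,
          vadd_self m.hF, add_zero, act_one]
      have e1 : m.ρ r * t * (m.ρ r)⁻¹ = t' := by
        refine IsPt.unique m.hF ⟨ht'.1, fun w => ?_⟩ ht'
        rw [act_mul, act_mul, ht.2, act_add, act_smul]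
        rw [show act (m.ρ r) (act (m.ρ r)⁻¹ w) = w by rw [← act_mul, mul_inv_cancel, act_one]]
        congr 2
        rw [← act_form (m.ρ r), ← act_mul, mul_inv_cancel, act_one]
      rw [map_mul, map_mul, map_mul, map_inv, map_inv, hc, e1, inv_eq_of_mul_eq_one_right ht2]
  by_cases hfixall : ∀ r : ↥(Cz z), g⁻¹ * (r : G) * g ∈ m.J → ∀ y, hh y v = 0 → act (m.ρ r) y = y
  · -- all fix the hyperplane; not all act trivially
    by_contra hcov
    simp only [not_exists, not_and] at hcov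
    have htriv : ∀ r : ↥(Cz z), g⁻¹ * (r : G) * g ∈ m.J → m.ρ r = 1 := fun r hr =>
      (f.eq_or_isPt m.hF hv0 (hfixall r hr)).resolve_right (hcov r hr)
    obtain ⟨b₀, hb₀⟩ : ∃ b : ↥(MonoidHom.ker m.ρ), ((b : ↥(Cz z)) : G) = g⁻¹ * z * g := by
      obtain ⟨b, hb, e⟩ := PairHyp.mem_map_iff.1 hh'.automizer.2
      exact ⟨⟨b, hb⟩, e⟩
    have hne' : g⁻¹ * z * g⁻¹⁻¹ ≠ z := fun e => hne (by
      rw [inv_inv] at e
      calc g * z * g⁻¹ = g * (g⁻¹ * z * g) * g⁻¹ := by rw [e]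
        _ = z := by group)
    obtain ⟨p', q', f'⟩ := exists_flag m.hF (m.isot (g := g⁻¹) (by rw [hb₀, inv_inv]) hne')
    have key : ∀ x, hh x (m.χ b₀) = 0 → ∃ a : ↥(MonoidHom.ker m.ρ), m.χ a = x ∧ g * ((a : ↥(Cz z)) : G) * g⁻¹ ∈ m.J ∧
        g⁻¹ * (g * ((a : ↥(Cz z)) : G) * g⁻¹) * g ∈ m.J := by
      intro x hx
      obtain ⟨a, rfl⟩ := m.χ_surj x
      have hab := congrArg (fun k : ↥(MonoidHom.ker m.ρ) => ((k : ↥(Cz z)) : G))
        (m.comm_of_tr (a := a) (b := b₀) (by rw [hx]; simp))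
      simp only [Subgroup.coe_mul, hb₀] at hab
      have hC : g * ((a : ↥(Cz z)) : G) * g⁻¹ ∈ Cz z := Subgroup.mem_centralizer_singleton_iff.2 (by
        calc g * ((a : ↥(Cz z)) : G) * g⁻¹ * z = g * (((a : ↥(Cz z)) : G) * (g⁻¹ * z * g)) * g⁻¹ := by group
          _ = _ := by rw [hab]; group)
      have hJ : g⁻¹ * (g * ((a : ↥(Cz z)) : G) * g⁻¹) * g ∈ m.J := ⟨_, a.2, by simp [mul_assoc]⟩
      exact ⟨a, rfl, ⟨_, htriv ⟨_, hC⟩ hJ, rfl⟩, hJ⟩
    obtain ⟨ω, hω0, hω1⟩ : ∃ w : F, w ≠ 0 ∧ w ≠ 1 := by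
      classical
      by_contra h
      simp only [not_exists, not_and, not_not] at h
      have : Fintype.card F ≤ 2 :=
        calc Fintype.card F ≤ ({0, 1} : Finset F).card := Finset.card_le_card fun x _ => by
              rcases eq_or_ne x 0 with e | e
              · simp [e]
              · simp [h x e]
          _ ≤ 2 := Finset.card_le_two
      have := m.hF
      omega
    obtain ⟨a, ha, ha', ha''⟩ := key p' f'.hpv
    obtain ⟨b, hb, hb', hb''⟩ := key (ω • q') (by rw [smul_left m.hF, f'.hqv, mul_zero])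
    have hab : a * b = b * a := Subtype.ext (Subtype.ext (by
      have h := hh'.E_comm _ ⟨ha', PairHyp.mem_map_iff.2 ha''⟩ _ ⟨hb', PairHyp.mem_map_iff.2 hb''⟩
      simp only [Subgroup.coe_mul]
      calc ((a : ↥(Cz z)) : G) * ((b : ↥(Cz z)) : G)
          = g⁻¹ * ((g * ((a : ↥(Cz z)) : G) * g⁻¹) * (g * ((b : ↥(Cz z)) : G) * g⁻¹)) * g := by group
        _ = _ := by rw [h]; group))
    have h := m.tr_of_comm hab
    rw [ha, hb, smul_right m.hF, f'.hpq, mul_one] at h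
    have h4 : ω ^ 4 = ω := by linear_combination ω * cube_eq_one m.hF hω0
    have h5 : ω * (ω + 1) = 0 := by linear_combination h - h4
    exact hω1 (by linear_combination (mul_eq_zero.1 h5).resolve_left hω0 - add_self m.hF (1 : F))
  -- some element moves a point along the line
  simp only [not_forall] at hfixall
  obtain ⟨r, hr, y, hy, hmove⟩ := hfixall
  set T := m.ρ r with hT
  have hTT := hinv r hr
  have hTv : act T v = v := m.fix_of_comm ha₀ hne (hh'.map_comm (PairHyp.mem_map_iff.2 hr))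
  obtain ⟨x, x', fx, hx⟩ : ∃ x x', Flag v x x' ∧ act T x ≠ x := by
    by_cases hp : act T p = p
    · refine ⟨q, p, f.swap m.hF, fun hq => hmove ?_⟩
      obtain ⟨γ, hγ⟩ := f.decomp y hy
      rw [hγ, act_add, act_add, act_smul, act_smul, act_smul, hTv, hp, hq]
    · exact ⟨p, q, f, hp⟩
  have hisx : Isot 2 x := by
    have := fx.shift_isot m.hF 0 (fx.shift_ne m.hF 0)
    simpa using this
  have hisTx : ∀ w, Isot 2 w → Isot 2 (act T w) := fun w hw =>
    ⟨fun e => hw.1 (by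
      rw [show w = act T (act T w) by rw [← act_mul, hTT, act_one], e]
      exact Matrix.mulVec_zero _), by rw [act_form]; exact hw.2⟩
  have hTxv : hh (act T x) v = 0 := by rw [← hTv, act_form, fx.hpv]
  obtain ⟨t, ht⟩ := exists_pt m.hF hisx
  obtain ⟨t', ht'⟩ := exists_pt m.hF (hisTx x hisx)
  have hperp : hh (act T x) x = 0 := by
    obtain ⟨r', hr', hρ'⟩ := hcomm r hr x hisx fx.hpv t t' ht ht'
    have h2 := hinv r' hr'
    rw [hρ'] at h2
    have hti : t * t = 1 := act_ext fun w => by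
      rw [act_mul, ht.2, ht.2, add_left m.hF, smul_left m.hF, hisx.2, mul_zero, add_zero, add_assoc,
        vadd_self m.hF, add_zero, act_one]
    have hti' : t' * t' = 1 := act_ext fun w => by
      rw [act_mul, ht'.2, ht'.2, add_left m.hF, smul_left m.hF, (hisTx x hisx).2, mul_zero, add_zero, add_assoc,
        vadd_self m.hF, add_zero, act_one]
    have hc : t' * t = t * t' := by
      calc t' * t = (t' * t * (t' * t)) * (t * t')  * 1 := by
            rw [show t' * t * (t' * t) * (t * t') * 1 = t' * t * t' * (t * t) * t' by group, hti, mul_one,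
              show t' * t * t' * t' = t' * t * (t' * t') by group, hti', mul_one]
        _ = t * t' := by rw [h2, one_mul, mul_one]
    have h3 : act t' (act t x) = act t (act t' x) := by rw [← act_mul, ← act_mul, hc]
    rw [ht.act_self, ht'.2, ht.2 (x + _ • _), add_left m.hF, smul_left m.hF, hisx.2, zero_add] at h3
    have h4 : (hh x (act T x) * hh (act T x) x) • x = 0 := left_eq_add.1 h3
    rcases smul_eq_zero.1 h4 with e | e
    · rcases mul_eq_zero.1 e with e' | e'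
      · exact (comm_zero m.hF).1 e'
      · exact e'
    · exact absurd e hisx.1
  obtain ⟨γ, hγ⟩ := fx.decomp _ hTxv
  rw [hperp, zero_smul, add_zero] at hγ
  set c := hh (act T x) x' with hc
  have hc1 : c = 1 := by
    have h2 := congrArg (act T) hγ
    rw [← act_mul, hTT, act_one, act_add, act_smul, act_smul, hTv, hγ] at h2
    have h3 := congrArg (fun w => hh w x') h2
    simp only [add_left m.hF, smul_left m.hF, (comm_zero m.hF).1 fx.hqv, fx.hpq, mul_zero, zero_add, mul_one] at h3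
    have h4 : (c - 1) * (c + 1) = 0 := by linear_combination -h3
    rcases mul_eq_zero.1 h4 with e | e
    · exact sub_eq_zero.1 e
    · linear_combination e - add_self m.hF (1 : F)
  rw [hc1, one_smul] at hγ
  have hγ0 : γ ≠ 0 := fun e => hx (by rw [hγ, e, zero_smul, zero_add])
  obtain ⟨ω, hω0, hω1⟩ : ∃ w : F, w ≠ 0 ∧ w ≠ 1 := by
    classical
    by_contra h
    simp only [not_exists, not_and, not_not] at h
    have : Fintype.card F ≤ 2 :=
      calc Fintype.card F ≤ ({0, 1} : Finset F).card := Finset.card_le_card fun x _ => by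
            rcases eq_or_ne x 0 with e | e
            · simp [e]
            · simp [h x e]
        _ ≤ 2 := Finset.card_le_two
    have := m.hF
    omega
  set w := x + (ω * γ) • v with hw
  have hisw : Isot 2 w := fx.shift_isot m.hF _ (fx.shift_ne m.hF _)
  obtain ⟨u, hu⟩ := exists_pt m.hF hisw
  obtain ⟨u', hu'⟩ := exists_pt m.hF (hisTx w hisw)
  obtain ⟨r₁, hr₁, hρ₁⟩ := hcomm r hr x hisx fx.hpv t t' ht ht'
  obtain ⟨r₂, hr₂, hρ₂⟩ := hcomm r hr w hisw (fx.shift_perp m.hF _) u u' hu hu'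
  refine ⟨r₁ * r₂, ?_, ⟨hv0, hvv⟩, fun a => ?_⟩
  · simp only [Subgroup.coe_mul]
    rw [show g⁻¹ * ((r₁ : G) * (r₂ : G)) * g = (g⁻¹ * (r₁ : G) * g) * (g⁻¹ * (r₂ : G) * g) by group]
    exact mul_mem hr₁ hr₂
  have hTw : act T w = γ • v + x + (ω * γ) • v := by rw [hw, act_add, act_smul, hTv, hγ]
  have hpts : ∀ α β : F, hh (α • v + x) (β • v + x) = 0 := fun α β => by
    rw [add_left m.hF, add_right m.hF, add_right m.hF, smul_left m.hF, smul_left m.hF, smul_right m.hF,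
      smul_right m.hF, fx.hpp, fx.hpv, (comm_zero m.hF).1 fx.hpv, hvv]
    ring
  have e1 : w = (ω * γ) • v + x := by rw [hw, add_comm]
  have e2 : act T w = (γ + ω * γ) • v + x := by rw [hTw, add_smul]; abel
  rw [map_mul, hρ₁, hρ₂, act_mul, act_mul, act_mul, hu.2, hu'.2, ht.2, ht'.2, e2, e1, hγ]
  have hvx : hh v x = 0 := (comm_zero m.hF).1 fx.hpv
  have hvv2 : hh v v = 0 := hvv
  simp only [add_left m.hF, smul_left m.hF, add_right m.hF, smul_right m.hF, fx.hpp, fx.hpv, hvx, hvv2, mul_zero,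
    add_zero]
  funext i
  simp only [Pi.add_apply, Pi.smul_apply, smul_eq_mul]
  have hω3 := cube_eq_one m.hF hω0
  have hγ3 := cube_eq_one m.hF hγ0
  have hωω : ω + ω ^ 2 + 1 = 0 :=
    (mul_eq_zero.1 (show (ω - 1) * (ω + ω ^ 2 + 1) = 0 by linear_combination hω3)).resolve_left (sub_ne_zero.2 hω1)
  have h2 : (2 : F) = 0 := by linear_combination add_self m.hF (1 : F)
  linear_combination (hh a v * v i * (2 + 3 * ω + 3 * ω ^ 2 + 2 * ω ^ 3)) * hγ3 + (2 * hh a v * v i) * hω3 +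
    (3 * hh a v * v i) * hωω + (hh a x * v i * (γ + ω * γ)) * h2 +
    (2 * γ ^ 2 * hh a v * x i) * hωω + (2 * hh a x * x i) * h2

end

/-- `z` is weakly closed in `J`. -/
theorem weak : m.Weak := by
  intro a₀ hconj
  by_contra hne
  obtain ⟨g, ha₀⟩ := isConj_iff.1 hconj
  have ha₀' : ((a₀ : ↥(Cz z)) : G) = g * z * g⁻¹ := ha₀.symm
  have hne1 : g * z * g⁻¹ ≠ z := fun e => hne (ha₀'.trans e)
  have hh' := m.hyp ha₀' hne1
  obtain ⟨b₀, hb₀⟩ : ∃ b : ↥(MonoidHom.ker m.ρ), ((b : ↥(Cz z)) : G) = g⁻¹ * z * g⁻¹⁻¹ := by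
    obtain ⟨b, hb, e⟩ := PairHyp.mem_map_iff.1 hh'.automizer.2
    exact ⟨⟨b, hb⟩, by rw [inv_inv]; exact e⟩
  have hne' : g⁻¹ * z * g⁻¹⁻¹ ≠ z := fun e => hne1 (by
    rw [inv_inv] at e
    calc g * z * g⁻¹ = g * (g⁻¹ * z * g) * g⁻¹ := by rw [e]
      _ = z := by group)
  obtain ⟨r, hr, hpt⟩ := m.exists_cover ha₀' hne1
  obtain ⟨k, hk⟩ : ∃ k : ↥(MonoidHom.ker m.ρ), ((k : ↥(Cz z)) : G) = g⁻¹ * (r : G) * g := by
    obtain ⟨k, hk, e⟩ := hr
    exact ⟨⟨k, hk⟩, e⟩
  have hkc : k * b₀ = b₀ * k := Subtype.ext (Subtype.ext (by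
    simp only [Subgroup.coe_mul, hk, hb₀, inv_inv]
    calc g⁻¹ * (r : G) * g * (g⁻¹ * z * g) = g⁻¹ * ((r : G) * z) * g := by group
      _ = _ := by rw [m.z_comm r]; group))
  -- the moves from the other side
  have hmoves : ∀ p, Isot 2 p → hh p (m.χ b₀) = 0 → m.Meet g⁻¹ (hh (m.χ k) p • p) := by
    intro p hp hpv
    obtain ⟨t, ht⟩ := exists_pt m.hF hp
    obtain ⟨c', hc', hcs'⟩ := m.exists_lift hb₀ hne' (ht.act_of_perp ((comm_zero m.hF).1 hpv))
    have hC : g * (c' : G) * g⁻¹ ∈ Cz z := Subgroup.mem_centralizer_singleton_iff.2 (by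
      calc g * (c' : G) * g⁻¹ * z = g * ((c' : G) * (g⁻¹ * z * g⁻¹⁻¹)) * g⁻¹ := by group
        _ = _ := by rw [hcs']; group)
    set c : ↥(Cz z) := ⟨_, hC⟩ with hc
    have hcs : (c : G) * (g * z * g⁻¹) = g * z * g⁻¹ * c := by
      show g * (c' : G) * g⁻¹ * (g * z * g⁻¹) = _
      calc g * (c' : G) * g⁻¹ * (g * z * g⁻¹) = g * ((c' : G) * z) * g⁻¹ := by group
        _ = _ := by rw [m.z_comm c']; show _ = g * z * g⁻¹ * (g * (c' : G) * g⁻¹); group
    have hfix := m.fix_of_comm ha₀' hne1 hcs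
    have hker : m.ρ (c * r * c⁻¹ * r⁻¹) = 1 := by
      have e : m.ρ c * m.ρ r * (m.ρ c)⁻¹ = m.ρ r := IsPt.unique m.hF ⟨hpt.1, fun w => by
        rw [act_mul, act_mul, hpt.2, act_add, act_smul, hfix,
          show act (m.ρ c) (act (m.ρ c)⁻¹ w) = w by rw [← act_mul, mul_inv_cancel, act_one]]
        congr 2
        conv_lhs => rw [← act_form (m.ρ c), ← act_mul, mul_inv_cancel, act_one, hfix]⟩ hpt
      rw [map_mul, map_mul, map_mul, map_inv, map_inv, e, mul_inv_cancel]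
    refine ⟨MulAut.conjNormal c' k * k⁻¹, ?_, ?_⟩
    · refine ⟨_, hker, ?_⟩
      simp only [Subgroup.subtype_apply, MulAut.conjNormal_apply, Subgroup.coe_mul, Subgroup.coe_inv, hk, inv_inv, hc]
      group
    · rw [m.χ_mul, m.χ_equiv, hc', m.χ_inv, ht.2, add_comm, ← add_assoc, vadd_self m.hF, zero_add]
  have hperp := m.perp_of_moves hb₀ hne' (m.tr_of_comm hkc) hmoves
  obtain ⟨p, q, f⟩ := exists_flag m.hF (m.isot hb₀ hne')
  obtain ⟨γ, hγ⟩ := f.decomp _ hperp
  have hpq : Isot 2 (p + q) := by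
    refine ⟨fun e => ?_, by rw [add_left m.hF, add_right m.hF, add_right m.hF, f.hpp, f.hqq, f.hpq, f.hqp m.hF,
      zero_add, add_zero, add_self m.hF]⟩
    have := congrArg (fun w => hh w q) e
    simp only [add_left m.hF, zero_left m.hF, f.hpq, f.hqq, add_zero] at this
    exact one_ne_zero this
  have f' := f.swap m.hF
  have hp : Isot 2 p := by have := f.shift_isot m.hF 0 (f.shift_ne m.hF 0); simpa using this
  have hq : Isot 2 q := by have := f'.shift_isot m.hF 0 (f'.shift_ne m.hF 0); simpa using this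
  have hin := m.meet_add hb₀ hne' (m.meet_add hb₀ hne' (m.meet_line hb₀ hne' γ) (hmoves p hp f.hpv))
    (m.meet_add hb₀ hne' (hmoves q hq f.hqv) (hmoves (p + q) hpq (by rw [add_left m.hF, f.hpv, f.hqv, add_zero])))
  have hsum : γ • m.χ b₀ + hh (m.χ k) p • p + (hh (m.χ k) q • q + hh (m.χ k) (p + q) • (p + q)) = m.χ k := by
    conv_rhs => rw [hγ]
    rw [add_right m.hF]
    funext i
    simp only [Pi.add_apply, Pi.smul_apply, smul_eq_mul]
    linear_combination add_self m.hF (hh (m.χ k) p * p i) + add_self m.hF (hh (m.χ k) q * q i)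
  rw [hsum] at hin
  obtain ⟨k₀, hk₀, hχ⟩ := hin
  rw [inv_inv] at hk₀
  have hzJ : g * z * g⁻¹ ∈ m.J := ha₀' ▸ ⟨_, a₀.2, rfl⟩
  have hrJ : (r : G) ∈ m.J := by
    have e : (r : G) = g * ((k : ↥(Cz z)) : G) * g⁻¹ := by rw [hk]; group
    rw [e]
    rcases m.χ_eq hχ.symm with e' | e' <;> rw [e']
    · exact hk₀
    · rw [show g * (((k₀ : ↥(Cz z)) : G) * z) * g⁻¹ = (g * ((k₀ : ↥(Cz z)) : G) * g⁻¹) * (g * z * g⁻¹) by group]
      exact mul_mem hk₀ hzJ
  obtain ⟨b, hb, eb⟩ := hrJ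
  have h1 : m.ρ r = 1 := by rw [← show b = r from Subtype.ext eb]; exact hb
  rw [h1] at hpt
  obtain ⟨σ, hσ⟩ := exists_sigma m.hF
  obtain ⟨w, hw⟩ := CfsgLib.PSUAut.exists_partner m.hF hσ hpt.1.1
  have := hpt.2 w
  rw [act_one, hw, one_smul] at this
  exact hpt.1.1 (left_eq_add.1 this)

end Model

end CfsgLib.USixType
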