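import Cfsg.Agent.Lib.USixType.Fields
import Cfsg.Agent.Lib.USixType.Weak
import Cfsg.Agent.Lib.USixType.FieldCongr
import Cfsg.Agent.Lib.USixType.Module.Exists
import Cfsg.Agent.Lib.U6Central.Model6

/-!
# An involution with centraliser `2^(1+8).U₄(2)`: `U₆(2)`, or isolated
-/

set_option autoImplicit false

namespace CfsgLib.USixType

open Subgroup
open CfsgLib.ThreeTransp (link)

variable {G : Type*} [Group G] [Finite G] {z : G}

/-- The dichotomy, given that centralisers of involutions keep the component. -/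
theorem main_of_cent {F : Type} [Field F] [Fintype F] (m : Model z F)
    (hcent : (∃ x, x ∈ link (conjugatesOf z) z) → Cent z) {K : Type*} [Field K] [Fintype K]
    (hK : Fintype.card K = 4) :
    Nonempty (G ≃* Cfsg.PSU 6 K 2) ∨ centralizer ({z} : Set G) ⊔ Cfsg.oddCore G = ⊤ := by
  by_cases h : ∃ x, x ∈ link (conjugatesOf z) z
  · obtain ⟨e⟩ := CfsgLib.U6Central.iso ((m.fused m.weak (m.pt m.weak) h).central (hcent h))
    let τ : F ≃+* K := FiniteField.ringEquivOfCardEq (by rw [m.hF, hK]; norm_num)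
    exact .inl ⟨e.trans (psuCongr τ)⟩
  · refine .inr (Module.top_of_isolated m.ord fun g hg => ?_)
    by_contra hne
    exact h ⟨_, isConj_iff.2 ⟨g, rfl⟩, hne, (mem_centralizer_singleton_iff.1 hg).symm⟩

/-- The whole statement, given the condition on centralisers of involutions. -/
theorem main_of_cent' (z : G) (hz : orderOf z = 2) {L : Type*} [Field L] [Fintype L] (hL : Fintype.card L = 3)
    [hJn : (Cfsg.pCore 2 ↥(Cz z)).Normal] (hJ : Cfsg.IsExtraspecial 2 ↥(Cfsg.pCore 2 ↥(Cz z)))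
    (hJc : Nat.card ↥(Cfsg.pCore 2 ↥(Cz z)) = 2 ^ 9)
    (hCJ : centralizer ((Cfsg.pCore 2 ↥(Cz z)) : Set ↥(Cz z)) ≤ Cfsg.pCore 2 ↥(Cz z))
    (e : ↥(Cz z) ⧸ Cfsg.pCore 2 ↥(Cz z) ≃* Cfsg.PSp 2 L)
    (hcent : ∀ {F : Type} [Field F] [Fintype F] (_ : Model z F), (∃ x, x ∈ link (conjugatesOf z) z) → Cent z)
    {K : Type*} [Field K] [Fintype K] (hK : Fintype.card K = 4) :
    Nonempty (G ≃* Cfsg.PSU 6 K 2) ∨ centralizer ({z} : Set G) ⊔ Cfsg.oddCore G = ⊤ := by
  rcases exists_model z hz hL hJ hJc hCJ e with ⟨F, _, _, ⟨m⟩⟩ | h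
  · exact main_of_cent m (hcent m) hK
  · exact .inr h

end CfsgLib.USixType
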