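import Cfsg.Agent.Lib.USixType.Shape
import Cfsg.Agent.Lib.USixType.Main
import Cfsg.Agent.Lib.U6Central.PairCent

/-!
# One component, and the dichotomy
-/

set_option autoImplicit false

namespace CfsgLib.USixType

open Subgroup
open CfsgLib.ThreeTransp (link)

variable {G : Type*} [Group G] [Finite G] {z : G} {F : Type} [Field F] [Fintype F]

/-- All conjugates are in one component. -/
theorem Model.cent_of_link (m : Model z F) (hne : ∃ x, x ∈ link (conjugatesOf z) z) : Cent z := by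
  have hw := m.weak
  have hp := m.pt hw
  set c := (m.fused hw hp hne).base
  have himg : ∀ {x : G} (hx : x ∈ link (conjugatesOf z) z),
      c.img x = m.ρ ⟨x, mem_centralizer_singleton_iff.2 hx.2.2.eq.symm⟩ := fun hx => c.img_eq _
  have hline : ∀ a ∈ link (conjugatesOf z) z, ∀ b ∈ link (conjugatesOf z) z, ∀ e ∈ link (conjugatesOf z) z,
      ∀ f ∈ link (conjugatesOf z) z, [a, b, e, f].Nodup → c.img a = c.img b → c.img a = c.img e →
        c.img a = c.img f → a * b * e * f = z := by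
    intro a ha b hb e he f hf hnd h1 h2 h3
    rw [himg ha, himg hb] at h1
    rw [himg ha, himg he] at h2
    rw [himg ha, himg hf] at h3
    refine m.line_of hw hp (a := ⟨a, _⟩) (b := ⟨b, _⟩) (e := ⟨e, _⟩) (f := ⟨f, _⟩) ha hb he hf ?_ h1 h2 h3
    simpa [Subtype.ext_iff] using hnd
  have hcore : ∀ v, (v ∈ link (conjugatesOf z) z ∨ ∃ a b, a ∈ link (conjugatesOf z) z ∧
      b ∈ link (conjugatesOf z) z ∧ a ≠ b ∧ c.img a = c.img b ∧ v = a * b) →
      Cfsg.oddCore ↥(centralizer ({z} : Set G) ⊓ centralizer ({v} : Set G)) = ⊥ := by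
    intro v hv
    refine m.core_of hw hp (hv.imp id ?_)
    rintro ⟨a, b, ha, hb, -, hab, rfl⟩
    rw [himg ha, himg hb] at hab
    exact ⟨_, _, ha, hb, hab, rfl⟩
  intro v _ _ _ g _
  exact c.connected hline (c.pairFix hline hcore) (m.shape hw hp hne)
    (isConj_iff.2 ⟨g, rfl⟩)

/-- The dichotomy for a group with the centraliser of the printed shape. -/
theorem main (z : G) (hz : orderOf z = 2) {L : Type*} [Field L] [Fintype L] (hL : Fintype.card L = 3)
    [hJn : (Cfsg.pCore 2 ↥(Cz z)).Normal] (hJ : Cfsg.IsExtraspecial 2 ↥(Cfsg.pCore 2 ↥(Cz z)))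
    (hJc : Nat.card ↥(Cfsg.pCore 2 ↥(Cz z)) = 2 ^ 9)
    (hCJ : centralizer ((Cfsg.pCore 2 ↥(Cz z)) : Set ↥(Cz z)) ≤ Cfsg.pCore 2 ↥(Cz z))
    (e : ↥(Cz z) ⧸ Cfsg.pCore 2 ↥(Cz z) ≃* Cfsg.PSp 2 L) {K : Type*} [Field K] [Fintype K]
    (hK : Fintype.card K = 4) :
    Nonempty (G ≃* Cfsg.PSU 6 K 2) ∨ centralizer ({z} : Set G) ⊔ Cfsg.oddCore G = ⊤ :=
  main_of_cent' z hz hL hJ hJc hCJ e (fun m hne => m.cent_of_link hne) hK

end CfsgLib.USixType
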