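import Cfsg.Agent.Lib.USixType.Rank

/-!
# A deep involution of `SU₄(2)` is the product of two commuting transvections
-/

set_option autoImplicit false
set_option linter.unusedSectionVars false

namespace CfsgLib.USixType

open Cfsg CfsgLib.SURadical
open CfsgLib.PSUAut (Isot act act_mul act_one act_form act_smul act_add act_ext eq_zero_of_perp)

variable {F : Type} [Field F] [Fintype F]

local notation "V4" => Fin 4 → F
local notation "hh" => Cfsg.hermForm 4 F 2
local notation "SU4" => (Cfsg.SU 4 F 2)

namespace Deep

variable (hF : Fintype.card F = 2 ^ 2) {g : Cfsg.SU 4 F 2} (d : Deep g)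
include hF d

/-- A vector that `g` moves not orthogonally to itself. -/
theorem exists_diag : ∃ b : V4, hh b (nmap g b) = 1 := by
  obtain ⟨σ, hσ⟩ := exists_sigma hF
  have hadj := nmap_adj hF d.mul_self
  have hsq : ∀ v, hh v (nmap g v) = 0 ∨ hh v (nmap g v) = 1 := fun v => by
    have h2 : hh v (nmap g v) = hh v (nmap g v) ^ 2 := by
      conv_lhs => rw [← hadj]
      exact conj_form hF v (nmap g v)
    rcases eq_or_ne (hh v (nmap g v)) 0 with h | h
    · exact .inl h
    · exact .inr (mul_left_cancel₀ h (by rw [mul_one, ← pow_two]; exact h2.symm))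
  by_contra hc
  simp only [not_exists] at hc
  have h0 : ∀ v, hh v (nmap g v) = 0 := fun v => (hsq v).resolve_right (hc v)
  have hsum : ∀ v w, hh v (nmap g w) + hh v (nmap g w) ^ 2 = 0 := fun v w => by
    have e := h0 (v + w)
    rw [map_add, add_left hF, add_right hF, add_right hF, h0, h0, zero_add, add_zero, ← hadj w v] at e
    rwa [← conj_form hF v (nmap g w)]
  obtain ⟨a, ha0, ha1⟩ : ∃ a : F, a ≠ 0 ∧ a ≠ 1 := by
    by_contra hc
    simp only [not_exists, not_and, not_not] at hc
    classical
    have : Fintype.card F ≤ 2 :=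
      (Finset.card_le_card fun x _ => by
        rcases eq_or_ne x 0 with h | h
        · simp [h]
        · simp [hc x h] : _ ≤ ({0, 1} : Finset F).card).trans Finset.card_le_two
    omega
  have h := d.rank
  rw [show nmap g = 0 from LinearMap.ext fun w => eq_zero_of_perp hF hσ fun v => (by
    have e1 := hsum v w
    have e2 := hsum (a • v) w
    rw [smul_left hF] at e2
    have e3 : (hh v (nmap g w)) * (a * (1 - a)) = 0 := by linear_combination e2 - a ^ 2 * e1
    exact (mul_eq_zero.1 e3).resolve_right (mul_ne_zero ha0 (sub_ne_zero.2 ha1.symm))),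
    LinearMap.range_zero, finrank_bot] at h
  omega

/-- Two commuting transvections. -/
theorem exists_split : ∃ (t q : SU4) (p w : V4), IsPt t p ∧ IsPt q w ∧ Commute t q ∧ t ≠ q ∧ g = t * q := by
  obtain ⟨b, hb⟩ := d.exists_diag hF
  set p := nmap g b with hpd
  have hgp : act g p = p := (nmap_eq_zero hF).1 (nmap_nmap hF d.mul_self b)
  have hp0 : p ≠ 0 := fun h => by rw [h, zero_right hF] at hb; exact zero_ne_one hb
  obtain ⟨t, ht⟩ := exists_pt hF (v := p) ⟨hp0, range_perp hF d.mul_self b b⟩
  have hgt : Commute g t := act_ext fun x => by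
    rw [act_mul, act_mul, ht.2, ht.2, act_add, act_smul, hgp, adj hF d.mul_self, hgp]
  have htt := IsPt.mul_self hF ht
  have hq1 : g * t ≠ 1 := fun h => by
    have hgt' : g = t := by
      calc g = g * (t * t) := by rw [htt, mul_one]
        _ = t := by rw [← mul_assoc, h, one_mul]
    have hle : LinearMap.range (nmap g) ≤ Submodule.span F {p} := by
      rintro _ ⟨x, rfl⟩
      rw [nmap_apply, hgt', ht.2, add_right_comm, vadd_self hF, zero_add]
      exact Submodule.smul_mem _ _ (Submodule.mem_span_singleton_self p)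
    have h1 := Submodule.finrank_mono hle
    rw [d.rank, finrank_span_singleton hp0] at h1
    omega
  rcases isPt_or_deep hF (g := g * t)
    (by rw [hgt.symm.mul_mul_mul_comm, d.mul_self, htt, one_mul]) hq1 with ⟨w, hw⟩ | dq
  · refine ⟨t, g * t, p, w, ht, hw, hgt.symm.mul_right (Commute.refl t), fun e => ?_, ?_⟩
    · have hg1 : g = 1 := mul_eq_right.1 e.symm
      have h := d.rank
      rw [show nmap g = 0 from LinearMap.ext fun x => by rw [hg1, nmap_apply, act_one, vadd_self hF]; rfl,
        LinearMap.range_zero, finrank_bot] at h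
      omega
    · rw [← mul_assoc, hgt.symm.eq, mul_assoc, htt, mul_one]
  · exfalso
    have hfix : ∀ x, act g x + hh x p • p = x → x ∈ LinearMap.ker (nmap (g * t)) := fun x hx => by
      rw [LinearMap.mem_ker, nmap_eq_zero hF, act_mul, ht.2, act_add, act_smul, hgp, hx]
    have hle : LinearMap.ker (nmap g) ≤ LinearMap.ker (nmap (g * t)) := fun x hx => by
      have hx' := (nmap_eq_zero hF).1 (LinearMap.mem_ker.1 hx)
      exact hfix x (by rw [d.perp_fixed hF hx' hgp, zero_smul, add_zero, hx'])
    have hbq : b ∈ LinearMap.ker (nmap (g * t)) := hfix b (by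
      rw [hb, one_smul, act_eq hF, ← hpd, add_comm p b, add_assoc, vadd_self hF, add_zero])
    rw [← Submodule.eq_of_le_of_finrank_eq hle (by
      rw [d.ker_eq_range hF, dq.ker_eq_range hF, d.rank, dq.rank]), LinearMap.mem_ker, ← hpd] at hbq
    exact hp0 hbq

end Deep

end CfsgLib.USixType
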