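import Cfsg.Agent.Lib.USixType.Pair
import Cfsg.Agent.Lib.Cores.Basic

/-!
# The conjugates commuting with `z`: four over each transvection, commuting as their images do

The four over one transvection multiply to `z`, and the odd core of the centraliser of `z` and one of them, or of
the product of two of them, is trivial.
-/

set_option autoImplicit false
set_option linter.unusedSectionVars false
set_option maxHeartbeats 800000

namespace CfsgLib.USixType.Model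

open CfsgLib.PSUAut (Isot act act_mul act_one)
open CfsgLib.SURadical (IsPt)
open CfsgLib.ThreeTransp (link)
open Subgroup

variable {G : Type*} [Group G] [Finite G] {z : G} {F : Type} [Field F] [Fintype F] (m : Model z F)
  (hw : m.Weak) (hp : m.Pt)

local notation "H4" => Cfsg.hermForm 4 F 2

include hw hp

theorem exists_point_lift (hne : ∃ x, x ∈ link (conjugatesOf z) z) {t : ↥(Cfsg.SU 4 F 2)} {w : Fin 4 → F}
    (ht : IsPt t w) : ∃ u : ↥(Cz z), (u : G) ∈ link (conjugatesOf z) z ∧ m.ρ u = t := by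
  obtain ⟨x, hx⟩ := hne
  set xc : ↥(Cz z) := ⟨x, mem_centralizer_singleton_iff.2 hx.2.2.eq.symm⟩
  obtain ⟨w₀, hw₀⟩ := hp xc hx
  obtain ⟨k, hk⟩ := hw₀.exists_conj m.hF ht
  obtain ⟨c, rfl⟩ := m.surj k
  exact ⟨c * xc * c⁻¹, conj_link hx c, by rw [map_mul, map_mul, map_inv, hk]⟩

theorem lifts_of (hne : ∃ x, x ∈ link (conjugatesOf z) z) (t : ↥(Cfsg.SU 4 F 2)) (w : Fin 4 → F)
    (ht : IsPt t w) : {x : ↥(Cz z) | (x : G) ∈ link (conjugatesOf z) z ∧ m.ρ x = t}.ncard = 4 := by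
  obtain ⟨u, hu, rfl⟩ := m.exists_point_lift hw hp hne ht
  obtain ⟨σ, hσ⟩ := CfsgLib.SURadical.exists_sigma m.hF
  obtain ⟨y₀, hy₀⟩ := CfsgLib.PSUAut.exists_partner m.hF hσ ht.1.1
  choose a ha using fun c : F => m.χ_surj (c • y₀)
  have hc : ∀ c : F, H4 (m.χ (a c)) w = c := fun c => by
    rw [ha, CfsgLib.SURadical.smul_left m.hF, hy₀, mul_one]
  have heq : {x : ↥(Cz z) | (x : G) ∈ link (conjugatesOf z) z ∧ m.ρ x = m.ρ u} =
      Set.range fun c : F => u * (m.cu u (a c) : ↥(Cz z)) := by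
    ext x
    constructor
    · rintro ⟨hx, he⟩
      obtain ⟨b, rfl⟩ := m.exists_cu hu ht hw hp hx he
      refine ⟨H4 (m.χ b) w, ?_⟩
      show u * _ = u * _
      rw [m.cu_congr hu ht hw hp (hc (H4 (m.χ b) w))]
    · rintro ⟨c, rfl⟩
      refine ⟨m.cu_link hu _, ?_⟩
      rw [map_mul, show m.ρ (m.cu u (a c) : ↥(Cz z)) = 1 from (m.cu u (a c)).2, mul_one]
  rw [heq, Set.ncard_range_of_injective, Nat.card_eq_fintype_card, m.hF]
  · norm_num
  · intro c d e
    have e1 : m.cu u (a c) = m.cu u (a d) := Subtype.ext (mul_left_cancel e)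
    have e2 := congrArg m.χ e1
    rw [m.chi_cu ht, m.chi_cu ht, hc, hc] at e2
    exact smul_left_injective F ht.1.1 e2

theorem mul_notMem_of : ∀ x ∈ link (conjugatesOf z) z, x * z ∉ conjugatesOf z := by
  intro x hx
  obtain ⟨w, ht⟩ := hp ⟨x, mem_centralizer_singleton_iff.2 hx.2.2.eq.symm⟩ hx
  exact m.mul_z_notConj (u := ⟨x, _⟩) hx ht hw hp

theorem comm_of (x y : ↥(Cz z)) (hx : (x : G) ∈ link (conjugatesOf z) z)
    (hy : (y : G) ∈ link (conjugatesOf z) z) (hc : Commute (m.ρ x) (m.ρ y)) : Commute (x : G) (y : G) := by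
  obtain ⟨p, hxp⟩ := hp x hx
  obtain ⟨q, hyq⟩ := hp y hy
  by_cases hsame : m.ρ y = m.ρ x
  · obtain ⟨a, rfl⟩ := m.exists_cu hx hxp hw hp hy hsame
    exact (Commute.refl (x : G)).mul_right (m.cu_comm hx hxp a)
  obtain ⟨a, ha⟩ := m.exists_cu hx hxp hw hp (conj_link hx y)
    (v := y * x * y⁻¹) (by rw [map_mul, map_mul, map_inv, ← hc.eq, mul_inv_cancel_right])
  obtain ⟨b, hb⟩ := m.exists_cu hy hyq hw hp (conj_link hy x)
    (v := x * y * x⁻¹) (by rw [map_mul, map_mul, map_inv, hc.eq, mul_inv_cancel_right])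
  have hxi : x⁻¹ = x := inv_eq_of_mul_eq_one_right (Subtype.ext (m.uu hx))
  have hyi : y⁻¹ = y := inv_eq_of_mul_eq_one_right (Subtype.ext (m.uu hy))
  have hab : m.cu y b = (m.cu x a)⁻¹ := by
    refine Subtype.ext ?_
    rw [Subgroup.coe_inv, ← inv_mul_eq_iff_eq_mul.2 hb, ← inv_mul_eq_iff_eq_mul.2 ha]
    simp only [mul_inv_rev, hxi, hyi]
    simp only [mul_assoc]
  have h2 := congrArg m.χ hab
  rw [m.chi_inv, m.chi_cu hxp, m.chi_cu hyq] at h2
  have h0 : H4 (m.χ a) p = 0 := by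
    by_contra hne
    refine hsame ?_
    have hb0 : H4 (m.χ b) q ≠ 0 := fun h => hne (by
      rw [h, zero_smul, eq_comm, smul_eq_zero] at h2
      exact h2.resolve_right hxp.1.1)
    have hq : q = ((H4 (m.χ b) q)⁻¹ * H4 (m.χ a) p) • p := by
      rw [← smul_smul, ← h2, smul_smul, inv_mul_cancel₀ hb0, one_smul]
    exact hyq.unique m.hF (hq ▸ hxp.smul m.hF (mul_ne_zero (inv_ne_zero hb0) hne))
  have h1 : y * x * y⁻¹ = x := Subtype.ext (by
    rw [ha, Subgroup.coe_mul, m.cu_eq_one hx hxp hw hp h0, mul_one])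
  exact congrArg Subtype.val (mul_inv_eq_iff_eq_mul.1 h1).symm

theorem faithful_of (hne : ∃ x, x ∈ link (conjugatesOf z) z) (g : G) (hgz : Commute g z)
    (hg : ∀ x ∈ link (conjugatesOf z) z, Commute g x) : g = 1 ∨ g = z := by
  set gc : ↥(Cz z) := ⟨g, mem_centralizer_singleton_iff.2 hgz.eq⟩
  have h1 : m.ρ gc = 1 := center_eq_one m.hF fun t ht => by
    obtain ⟨v, hv⟩ := ht
    obtain ⟨u, hu, rfl⟩ := m.exists_point_lift hw hp hne hv
    exact (show Commute gc u from Subtype.ext (hg _ hu).eq).map m.ρ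
  obtain ⟨x, hx⟩ := hne
  obtain ⟨w₀, hw₀⟩ := hp ⟨x, mem_centralizer_singleton_iff.2 hx.2.2.eq.symm⟩ hx
  refine (m.χ_ker ⟨gc, h1⟩).1 (eq_zero_of_pts m.hF hw₀.1 fun v hv => ?_)
  obtain ⟨t, ht⟩ := CfsgLib.SURadical.exists_pt m.hF hv
  obtain ⟨u, hu, rfl⟩ := m.exists_point_lift hw hp ⟨x, hx⟩ ht
  exact m.perp_of_comm ht (hg _ hu).symm

theorem fused (hne : ∃ x, x ∈ link (conjugatesOf z) z) : Fused m where
  weak := hw
  pt := hp
  lifts := m.lifts_of hw hp hne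
  comm := m.comm_of hw hp
  mul_notMem := m.mul_notMem_of hw hp
  faithful := m.faithful_of hw hp hne
  nonempty := hne

theorem line_of {a b e f : ↥(Cz z)} (ha : (a : G) ∈ link (conjugatesOf z) z)
    (hb : (b : G) ∈ link (conjugatesOf z) z) (he : (e : G) ∈ link (conjugatesOf z) z)
    (hf : (f : G) ∈ link (conjugatesOf z) z) (hnd : [a, b, e, f].Nodup) (h1 : m.ρ a = m.ρ b)
    (h2 : m.ρ a = m.ρ e) (h3 : m.ρ a = m.ρ f) : (a : G) * b * e * f = z := by
  classical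
  obtain ⟨w, ht⟩ := hp a ha
  obtain ⟨x, rfl⟩ := m.exists_cu ha ht hw hp hb h1.symm
  obtain ⟨y, rfl⟩ := m.exists_cu ha ht hw hp he h2.symm
  obtain ⟨v, rfl⟩ := m.exists_cu ha ht hw hp hf h3.symm
  simp only [List.nodup_cons, List.mem_cons, List.not_mem_nil, or_false, not_or, List.nodup_nil, and_true,
    not_false_eq_true] at hnd
  obtain ⟨⟨hax, hay, hav⟩, ⟨hxy, hxv⟩, hyv⟩ := hnd
  have hz0 : ∀ c : ↥m.ρ.ker, a ≠ a * (m.cu a c : ↥(Cz z)) → H4 (m.χ c) w ≠ 0 := fun c hne hc =>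
    hne (Subtype.ext (by rw [Subgroup.coe_mul, m.cu_eq_one ha ht hw hp hc, mul_one]))
  have hd : ∀ c d : ↥m.ρ.ker, a * (m.cu a c : ↥(Cz z)) ≠ a * (m.cu a d : ↥(Cz z)) →
      H4 (m.χ c) w ≠ H4 (m.χ d) w := fun c d hne hcd => hne (by rw [m.cu_congr ha ht hw hp hcd])
  set cx := H4 (m.χ x) w
  set cy := H4 (m.χ y) w
  set cv := H4 (m.χ v) w
  have hsum : cx + cy + cv = 0 := by
    have h0 : ({0, cx, cy, cv} : Finset F) = Finset.univ := by
      refine Finset.eq_univ_of_card _ ?_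
      rw [m.hF, Finset.card_insert_of_notMem (by
          simp only [Finset.mem_insert, Finset.mem_singleton, not_or]
          exact ⟨(hz0 _ hax).symm, (hz0 _ hay).symm, (hz0 _ hav).symm⟩),
        Finset.card_insert_of_notMem (by
          simp only [Finset.mem_insert, Finset.mem_singleton, not_or]
          exact ⟨hd _ _ hxy, hd _ _ hxv⟩),
        Finset.card_insert_of_notMem (by
          simp only [Finset.mem_singleton]
          exact hd _ _ hyv), Finset.card_singleton]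
      norm_num
    have hm : cx + cy ∈ ({0, cx, cy, cv} : Finset F) := h0 ▸ Finset.mem_univ _
    simp only [Finset.mem_insert, Finset.mem_singleton] at hm
    rcases hm with h | h | h | h
    · refine absurd ?_ (hd _ _ hxy)
      linear_combination h - CfsgLib.SURadical.add_self m.hF cy
    · exact absurd (add_eq_left.1 h) (hz0 _ hay)
    · exact absurd (add_eq_right.1 h) (hz0 _ hax)
    · rw [h]; exact CfsgLib.SURadical.add_self m.hF cv
  set P := m.cu a x * m.cu a y * m.cu a v with hP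
  have hχP : m.χ P = 0 := by
    rw [hP, m.χ_mul, m.χ_mul, m.chi_cu ht, m.chi_cu ht, m.chi_cu ht, ← add_smul, ← add_smul, hsum, zero_smul]
  have hcomm : ∀ c : ↥m.ρ.ker, Commute (a : G) ((m.cu a c : ↥(Cz z)) : G) := m.cu_comm ha ht
  have hne1 : ((P : ↥(Cz z)) : G) ≠ 1 := fun h => by
    obtain ⟨g, hg⟩ := isConj_iff.1 ha.1
    set zu : ↥(Cz (a : G)) := ⟨z, z_mem ha⟩
    set au : ↥(Cz (a : G)) := ⟨a, mem_centralizer_singleton_iff.2 rfl⟩
    obtain ⟨q, hzq⟩ := m.ku_pt hg hp zu (IsConj.refl z) fun e => ha.2.1 e.symm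
    have hk : ∀ c : ↥m.ρ.ker, a ≠ a * (m.cu a c : ↥(Cz z)) →
        m.ku hg (m.incl a ⟨m.cu a c, m.mem_Pu.2 (hcomm c).symm⟩) = m.ku hg zu := fun c hne => by
      refine m.ku_eq_of_pt ha ht hw hp hg ?_
      obtain ⟨p, h⟩ := m.ku_pt hg hp (au * m.incl a ⟨m.cu a c, m.mem_Pu.2 (hcomm c).symm⟩) (m.cu_link ha c).1
        fun e => hne (Subtype.ext e).symm
      rw [map_mul, m.ku_self hg, one_mul] at h
      exact ⟨p, h⟩
    have e := congrArg (m.ku hg) (show m.incl a ⟨m.cu a x, m.mem_Pu.2 (hcomm x).symm⟩ *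
        m.incl a ⟨m.cu a y, m.mem_Pu.2 (hcomm y).symm⟩ * m.incl a ⟨m.cu a v, m.mem_Pu.2 (hcomm v).symm⟩ = 1
      from Subtype.ext h)
    rw [map_mul, map_mul, map_one, hk x hax, hk y hay, hk v hav, hzq.mul_self m.hF, one_mul] at e
    exact hzq.ne_one m.hF e
  have hPz := ((m.χ_ker P).1 hχP).resolve_left hne1
  refine Eq.trans ?_ hPz
  rw [hP]
  simp only [Subgroup.coe_mul]
  have e1 := (hcomm x).eq
  have e2 := (hcomm y).eq
  have ea : (a : G) * a = 1 := m.uu ha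
  set X := ((m.cu a x : ↥(Cz z)) : G)
  set Y := ((m.cu a y : ↥(Cz z)) : G)
  set W := ((m.cu a v : ↥(Cz z)) : G)
  calc (a : G) * (a * X) * (a * Y) * (a * W) = (a * a) * X * (a * (Y * a)) * W := by group
    _ = X * (a * (a * Y)) * W := by rw [ea, one_mul, ← e2]
    _ = X * Y * W := by rw [← mul_assoc (a : G) (a : G) Y, ea, one_mul]

omit hp hw in
/-- An element of odd order centralising a hyperplane of the kernel is trivial on it. -/
theorem sq_of_centralizes {u : ↥(Cz z)} {w : Fin 4 → F} (hpt : IsPt (m.ρ u) w) (g : ↥(Cz z))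
    (hg : ∀ p : ↥m.ρ.ker, H4 (m.χ p) w = 0 → Commute (g : G) ((p : ↥(Cz z)) : G)) : m.ρ g * m.ρ g = 1 := by
  refine sq_eq_one_of_fix m.hF hpt.1 fun y hy => ?_
  obtain ⟨p, rfl⟩ := m.χ_surj y
  have he : MulAut.conjNormal g p = p := Subtype.ext (Subtype.ext (by
    simp only [MulAut.conjNormal_apply, Subgroup.coe_mul, Subgroup.coe_inv]
    rw [(hg p hy).eq, mul_inv_cancel_right]))
  have h1 := m.χ_equiv g p
  rw [he] at h1
  exact h1.symm

theorem core_of {v : G}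
    (hv : v ∈ link (conjugatesOf z) z ∨ ∃ a b : ↥(Cz z), (a : G) ∈ link (conjugatesOf z) z ∧
      (b : G) ∈ link (conjugatesOf z) z ∧ m.ρ a = m.ρ b ∧ v = (a : G) * b) :
    Cfsg.oddCore ↥(centralizer ({z} : Set G) ⊓ centralizer ({v} : Set G)) = ⊥ := by
  obtain ⟨u, w, hu, hpt, huP⟩ : ∃ (u : ↥(Cz z)) (w : Fin 4 → F), (u : G) ∈ link (conjugatesOf z) z ∧
      IsPt (m.ρ u) w ∧ ∀ p : ↥m.ρ.ker, H4 (m.χ p) w = 0 → Commute ((p : ↥(Cz z)) : G) v := by
    rcases hv with h | ⟨a, b, ha, hb, he, rfl⟩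
    · obtain ⟨w, ht⟩ := hp ⟨v, mem_centralizer_singleton_iff.2 h.2.2.eq.symm⟩ h
      exact ⟨_, w, h, ht, fun p hp' => m.comm_of_perp h ht hw hp hp'⟩
    · obtain ⟨w, ht⟩ := hp a ha
      obtain ⟨x, rfl⟩ := m.exists_cu ha ht hw hp hb he.symm
      refine ⟨a, w, ha, ht, fun p hp' => ?_⟩
      have hc := m.comm_of_perp ha ht hw hp hp'
      exact hc.mul_right (hc.mul_right (m.cu_comm_Pu ha ht x hc))
  set H : Subgroup G := centralizer ({z} : Set G) ⊓ centralizer ({v} : Set G)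
  let ι : ↥H →* ↥(Cz z) := Subgroup.inclusion inf_le_left
  let Q : Subgroup ↥H := (m.ρ.comp ι).ker
  have hQ : IsPGroup 2 ↥Q := fun x => by
    obtain ⟨k, hk⟩ := m.isPGroup_ker ⟨ι x.1, x.2⟩
    exact ⟨k, Subtype.ext (Subtype.ext (congrArg (fun t : ↥m.ρ.ker => ((t : ↥(Cz z)) : G)) hk))⟩
  have hodd := CfsgLib.Cores.odd_card_oddCore (G := ↥H)
  have hdis : ∀ x ∈ Cfsg.oddCore ↥H, ∀ k : ℕ, x ^ 2 ^ k = 1 → x = 1 := by
    intro x hx k hk
    have h1 : orderOf x ∣ Nat.card ↥(Cfsg.oddCore ↥H) := by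
      have := orderOf_dvd_natCard (⟨x, hx⟩ : ↥(Cfsg.oddCore ↥H))
      rwa [← Subgroup.orderOf_coe] at this
    have h2 := Nat.dvd_gcd (orderOf_dvd_of_pow_eq_one hk) h1
    rw [Nat.Coprime.gcd_eq_one (Nat.Coprime.pow_left _ (Nat.coprime_two_left.2 hodd))] at h2
    exact orderOf_eq_one_iff.1 (Nat.dvd_one.1 h2)
  have hdisQ : Disjoint (Cfsg.oddCore ↥H) Q := by
    rw [Subgroup.disjoint_def]
    intro x hx hxQ
    obtain ⟨k, hk⟩ := hQ ⟨x, hxQ⟩
    exact hdis x hx k (congrArg Subtype.val hk)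
  rw [Subgroup.eq_bot_iff_forall]
  intro x hx
  have hsq : m.ρ (ι x) * m.ρ (ι x) = 1 := by
    refine m.sq_of_centralizes hpt (ι x) fun p hp' => ?_
    have hpH : ((p : ↥(Cz z)) : G) ∈ H :=
      ⟨(p : ↥(Cz z)).2, mem_centralizer_singleton_iff.2 (huP p hp').eq⟩
    have hpQ : (⟨_, hpH⟩ : ↥H) ∈ Q := MonoidHom.mem_ker.2 (show m.ρ _ = 1 from p.2)
    exact congrArg Subtype.val (Subgroup.commute_of_normal_of_disjoint _ _ inferInstance inferInstance hdisQ x
      ⟨_, hpH⟩ hx hpQ).eq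
  have hx2 : x ^ 2 ∈ Q := by
    rw [MonoidHom.mem_ker, MonoidHom.comp_apply, map_pow, map_pow, pow_two]
    exact hsq
  have hxx : x ^ 2 = 1 := Subgroup.disjoint_def.1 hdisQ (pow_mem hx 2) hx2
  exact hdis x hx 1 (by rwa [pow_one])

end CfsgLib.USixType.Model
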