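import Cfsg.Agent.Lib.USixType.Basic
import Cfsg.Agent.Lib.USixType.Geom

/-!
# A second conjugate of `z` in its centraliser

`u` lies over a transvection with centre `w`.  Its centraliser in the kernel lies over the hyperplane orthogonal
to `w`, and the conjugates over the same transvection are the four conjugates of `u` under the kernel.
-/

set_option autoImplicit false
set_option linter.unusedSectionVars false
set_option maxHeartbeats 800000

namespace CfsgLib.USixType.Model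

open CfsgLib.PSUAut (Isot act act_mul act_one)
open CfsgLib.SURadical (IsPt)
open CfsgLib.ThreeTransp (link)
open Subgroup

variable {G : Type*} [Group G] {z : G} {F : Type} [Field F] [Fintype F] (m : Model z F)

local notation "H4" => Cfsg.hermForm 4 F 2

include m in
theorem z_sq : z * z = 1 := by
  have := pow_orderOf_eq_one z
  rwa [m.ord, pow_two] at this

include m in
theorem z_ne_one : z ≠ 1 := fun e => by have := m.ord; rw [e, orderOf_one] at this; omega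

/-- `z` in its centraliser. -/
def zc (z : G) : ↥(Cz z) := ⟨z, mem_centralizer_singleton_iff.2 rfl⟩

theorem comm_z (c : ↥(Cz z)) : Commute (c : G) z := mem_centralizer_singleton_iff.1 c.2

theorem rho_zc : m.ρ (zc z) = 1 := by
  refine center_eq_one m.hF fun t _ => ?_
  obtain ⟨c, rfl⟩ := m.surj t
  have hc : Commute (zc z) c := Subtype.ext (comm_z c).eq.symm
  exact hc.map m.ρ

/-- `z` in the kernel. -/
def zk : ↥m.ρ.ker := ⟨zc z, m.rho_zc⟩

theorem chi_one : m.χ 1 = 0 := (m.χ_ker 1).2 (.inl rfl)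

theorem chi_zk : m.χ m.zk = 0 := (m.χ_ker _).2 (.inr rfl)

theorem chi_inv (a : ↥m.ρ.ker) : m.χ a⁻¹ = m.χ a := by
  have h := m.χ_mul a⁻¹ a
  rw [inv_mul_cancel, m.chi_one] at h
  have := eq_neg_of_add_eq_zero_left h.symm
  rwa [neg_eq_of_add_eq_zero_left (CfsgLib.SURadical.vadd_self m.hF _)] at this

theorem eq_of_chi {a b : ↥m.ρ.ker} (h : m.χ a = m.χ b) :
    ((b : ↥(Cz z)) : G) = ((a : ↥(Cz z)) : G) ∨ ((b : ↥(Cz z)) : G) = ((a : ↥(Cz z)) : G) * z := by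
  have h0 : m.χ (a⁻¹ * b) = 0 := by rw [m.χ_mul, m.chi_inv, h, CfsgLib.SURadical.vadd_self m.hF]
  rcases (m.χ_ker _).1 h0 with e | e
  · left
    simp only [Subgroup.coe_mul, Subgroup.coe_inv] at e
    exact (inv_mul_eq_one.1 e).symm
  · right
    simp only [Subgroup.coe_mul, Subgroup.coe_inv] at e
    exact inv_mul_eq_iff_eq_mul.1 e

theorem comm_mem (a b : ↥m.ρ.ker) :
    Commute ((a : ↥(Cz z)) : G) ((b : ↥(Cz z)) : G) ∨
      ((a : ↥(Cz z)) : G) * ((b : ↥(Cz z)) : G) * ((a : ↥(Cz z)) : G)⁻¹ = ((b : ↥(Cz z)) : G) * z := by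
  have h : m.χ b = m.χ (a * b * a⁻¹) := by
    rw [m.χ_mul, m.χ_mul, m.chi_inv, add_comm (m.χ a), add_assoc, CfsgLib.SURadical.vadd_self m.hF, add_zero]
  rcases m.eq_of_chi h with e | e <;> simp only [Subgroup.coe_mul, Subgroup.coe_inv] at e
  · exact .inl (mul_inv_eq_iff_eq_mul.1 e)
  · exact .inr e

theorem sq_mem (a : ↥m.ρ.ker) :
    ((a : ↥(Cz z)) : G) * ((a : ↥(Cz z)) : G) = 1 ∨ ((a : ↥(Cz z)) : G) * ((a : ↥(Cz z)) : G) = z := by
  have h : m.χ (a * a) = 0 := by rw [m.χ_mul, CfsgLib.SURadical.vadd_self m.hF]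
  simpa using (m.χ_ker _).1 h

theorem sq_val_iff (a : ↥m.ρ.ker) :
    H4 (m.χ a) (m.χ a) = 0 ↔ ((a : ↥(Cz z)) : G) * ((a : ↥(Cz z)) : G) = 1 := by
  rw [m.χ_sq]
  exact ⟨fun h => congrArg (fun t : ↥m.ρ.ker => ((t : ↥(Cz z)) : G)) h, fun h => Subtype.ext (Subtype.ext h)⟩

theorem isPGroup_ker : IsPGroup 2 ↥m.ρ.ker := by
  intro a
  refine ⟨2, Subtype.ext (Subtype.ext ?_)⟩
  show ((((a ^ 2 ^ 2 : ↥m.ρ.ker)) : ↥(Cz z)) : G) = 1
  rw [show (2 : ℕ) ^ 2 = 2 + 2 from rfl, pow_add, pow_two]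
  simp only [Subgroup.coe_mul]
  rcases m.sq_mem a with e | e <;> rw [e]
  · rw [one_mul]
  · exact m.z_sq

/-- Commuting elements are orthogonal for the trace of the form. -/
theorem form_of_comm {a b : ↥m.ρ.ker} (h : Commute ((a : ↥(Cz z)) : G) ((b : ↥(Cz z)) : G)) :
    H4 (m.χ a) (m.χ b) + H4 (m.χ a) (m.χ b) ^ 2 = 0 := by
  have hab : H4 (m.χ (a * b)) (m.χ (a * b)) =
      H4 (m.χ a) (m.χ a) + H4 (m.χ b) (m.χ b) + (H4 (m.χ a) (m.χ b) + H4 (m.χ a) (m.χ b) ^ 2) := by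
    rw [m.χ_mul]
    simp only [CfsgLib.SURadical.add_left m.hF, CfsgLib.SURadical.add_right m.hF]
    rw [CfsgLib.SURadical.conj_form m.hF (m.χ a) (m.χ b)]
    ring
  have hsq : ((((a * b : ↥m.ρ.ker)) : ↥(Cz z)) : G) * (((a * b : ↥m.ρ.ker) : ↥(Cz z)) : G) =
      (((a : ↥(Cz z)) : G) * ((a : ↥(Cz z)) : G)) * (((b : ↥(Cz z)) : G) * ((b : ↥(Cz z)) : G)) := by
    simp only [Subgroup.coe_mul]
    rw [mul_assoc, ← mul_assoc ((b : ↥(Cz z)) : G) ((a : ↥(Cz z)) : G), ← h.eq]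
    group
  have one_iff : ∀ x : ↥m.ρ.ker, H4 (m.χ x) (m.χ x) = 1 →
      ((x : ↥(Cz z)) : G) * ((x : ↥(Cz z)) : G) = z := fun x hx =>
    (m.sq_mem x).resolve_left fun e => one_ne_zero (α := F) (hx.symm.trans ((m.sq_val_iff x).2 e))
  have h11 : (1 : F) + 1 = 0 := CfsgLib.SURadical.add_self m.hF 1
  rcases CfsgLib.SURadical.norm_zero_or_one m.hF (m.χ a) with ha | ha <;>
    rcases CfsgLib.SURadical.norm_zero_or_one m.hF (m.χ b) with hb | hb <;>
    rw [ha, hb] at hab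
  · rw [(m.sq_val_iff a).1 ha, (m.sq_val_iff b).1 hb, one_mul] at hsq
    rw [(m.sq_val_iff _).2 hsq] at hab
    linear_combination -hab
  · rw [(m.sq_val_iff a).1 ha, one_iff b hb, one_mul] at hsq
    rw [(CfsgLib.SURadical.norm_zero_or_one m.hF _).resolve_left fun e =>
      m.z_ne_one (hsq.symm.trans ((m.sq_val_iff _).1 e))] at hab
    linear_combination -hab
  · rw [(m.sq_val_iff b).1 hb, one_iff a ha, mul_one] at hsq
    rw [(CfsgLib.SURadical.norm_zero_or_one m.hF _).resolve_left fun e =>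
      m.z_ne_one (hsq.symm.trans ((m.sq_val_iff _).1 e))] at hab
    linear_combination -hab
  · rw [one_iff a ha, one_iff b hb, m.z_sq] at hsq
    rw [(m.sq_val_iff _).2 hsq] at hab
    linear_combination -hab - h11

/-! ### The conjugate `u` -/

theorem conj_link {x : G} (hx : x ∈ link (conjugatesOf z) z) (c : ↥(Cz z)) :
    (c : G) * x * (c : G)⁻¹ ∈ link (conjugatesOf z) z := by
  refine ⟨hx.1.trans (isConj_iff.2 ⟨c, rfl⟩), fun e => hx.2.1 ?_, ?_⟩
  · have := congrArg (fun t => (c : G)⁻¹ * t * (c : G)) e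
    simp only [mul_assoc, inv_mul_cancel_left, inv_mul_cancel, mul_one] at this
    rw [this, ← (comm_z c).eq, inv_mul_cancel_left]
  · have h := comm_z c
    exact ((h.symm.mul_right hx.2.2).mul_right h.symm.inv_right)

variable {u : ↥(Cz z)} (hu : (u : G) ∈ link (conjugatesOf z) z)

include m hu in
theorem uu : (u : G) * (u : G) = 1 := by
  obtain ⟨g, hg⟩ := isConj_iff.1 hu.1
  calc (u : G) * u = g * (z * z) * g⁻¹ := by rw [← hg]; group
    _ = 1 := by rw [m.z_sq]; group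

/-- The commutator of `u` with an element of the kernel. -/
def cu (u : ↥(Cz z)) (a : ↥m.ρ.ker) : ↥m.ρ.ker := MulAut.conjNormal u a * a⁻¹

theorem cu_coe (a : ↥m.ρ.ker) :
    ((m.cu u a : ↥(Cz z)) : G) = (u : G) * ((a : ↥(Cz z)) : G) * (u : G)⁻¹ * ((a : ↥(Cz z)) : G)⁻¹ := by
  simp [cu, MulAut.conjNormal_apply]

include hu in
theorem u_mul_cu (a : ↥m.ρ.ker) :
    (u : G) * ((m.cu u a : ↥(Cz z)) : G) = ((a : ↥(Cz z)) : G) * (u : G) * ((a : ↥(Cz z)) : G)⁻¹ := by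
  rw [m.cu_coe, inv_eq_of_mul_eq_one_right (m.uu hu)]
  simp only [← mul_assoc, m.uu hu, one_mul]

include hu in
theorem cu_link (a : ↥m.ρ.ker) : (((u * (m.cu u a : ↥(Cz z)) : ↥(Cz z))) : G) ∈ link (conjugatesOf z) z := by
  rw [Subgroup.coe_mul, m.u_mul_cu hu]
  exact conj_link hu _

variable {w : Fin 4 → F} (hpt : IsPt (m.ρ u) w)

include hpt in
theorem chi_cu (a : ↥m.ρ.ker) : m.χ (m.cu u a) = H4 (m.χ a) w • w := by
  rw [cu, m.χ_mul, m.χ_equiv, hpt.2, m.chi_inv, add_comm (m.χ a), add_assoc, CfsgLib.SURadical.vadd_self m.hF,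
    add_zero]

include hu hpt in
theorem cu_comm (a : ↥m.ρ.ker) : Commute (u : G) ((m.cu u a : ↥(Cz z)) : G) := by
  have hd : ((m.cu u a : ↥(Cz z)) : G) * ((m.cu u a : ↥(Cz z)) : G) = 1 := (m.sq_val_iff _).1 (by
    rw [m.chi_cu hpt, CfsgLib.SURadical.smul_left m.hF, CfsgLib.SURadical.smul_right m.hF, hpt.1.2, mul_zero,
      mul_zero])
  have hinv : ((m.cu u a : ↥(Cz z)) : G) * (u : G) * ((m.cu u a : ↥(Cz z)) : G) = u := by
    rw [mul_assoc, m.u_mul_cu hu, m.cu_coe, inv_eq_of_mul_eq_one_right (m.uu hu)]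
    simp only [mul_assoc, inv_mul_cancel_left]
    rw [← mul_assoc (u : G) u, m.uu hu, one_mul, mul_inv_cancel, mul_one]
  calc (u : G) * ((m.cu u a : ↥(Cz z)) : G)
      = (((m.cu u a : ↥(Cz z)) : G) * ((m.cu u a : ↥(Cz z)) : G)) * (u : G) * ((m.cu u a : ↥(Cz z)) : G) := by
        rw [hd, one_mul]
    _ = ((m.cu u a : ↥(Cz z)) : G) * (((m.cu u a : ↥(Cz z)) : G) * (u : G) * ((m.cu u a : ↥(Cz z)) : G)) := by
        group
    _ = _ := by rw [hinv]

include hpt in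
theorem perp_of_comm {a : ↥m.ρ.ker} (h : Commute (u : G) ((a : ↥(Cz z)) : G)) : H4 (m.χ a) w = 0 := by
  have he : MulAut.conjNormal u a = a := Subtype.ext (Subtype.ext (by
    simp only [MulAut.conjNormal_apply, Subgroup.coe_mul, Subgroup.coe_inv]
    rw [h.eq, mul_inv_cancel_right]))
  have h1 := m.χ_equiv u a
  rw [he, hpt.2] at h1
  exact (smul_eq_zero.1 (add_eq_left.1 h1.symm)).resolve_right hpt.1.1

/-! ### Seen from `u` -/

/-- Back from the centraliser of `u`. -/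
def back {v g : G} (hg : g * z * g⁻¹ = v) : ↥(Cz v) →* ↥(Cz z) where
  toFun y := ⟨g⁻¹ * (y : G) * g, mem_centralizer_singleton_iff.2 (by
    subst hg
    have h := mem_centralizer_singleton_iff.1 y.2
    calc g⁻¹ * (y : G) * g * z = g⁻¹ * ((y : G) * (g * z * g⁻¹)) * g := by group
      _ = g⁻¹ * (g * z * g⁻¹ * (y : G)) * g := by rw [h]
      _ = z * (g⁻¹ * (y : G) * g) := by group)⟩
  map_one' := Subtype.ext (by simp)
  map_mul' a b := Subtype.ext (by simp [mul_assoc])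

/-- The action of the centraliser of `u` in its coordinates. -/
def ku {v g : G} (hg : g * z * g⁻¹ = v) : ↥(Cz v) →* ↥(Cfsg.SU 4 F 2) := m.ρ.comp (back hg)

section

variable {v g : G} (hg : g * z * g⁻¹ = v)

theorem ku_self : m.ku hg ⟨v, mem_centralizer_singleton_iff.2 rfl⟩ = 1 := by
  have : back hg (⟨v, mem_centralizer_singleton_iff.2 rfl⟩ : ↥(Cz v)) = zc z :=
    Subtype.ext (show g⁻¹ * v * g = z by rw [← hg]; group)
  show m.ρ _ = 1
  rw [this, m.rho_zc]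

theorem ku_pt (hp : m.Pt) (x : ↥(Cz v)) (hx : IsConj z (x : G)) (hne : (x : G) ≠ v) :
    ∃ p, IsPt (m.ku hg x) p := by
  refine hp (back hg x) ⟨hx.trans (isConj_iff.2 ⟨g⁻¹, by show g⁻¹ * (x : G) * (g⁻¹)⁻¹ = g⁻¹ * (x : G) * g
                                                         rw [inv_inv]⟩), fun e => hne ?_, ?_⟩
  · have e' : g⁻¹ * (x : G) * g = z := e
    calc (x : G) = g * (g⁻¹ * (x : G) * g) * g⁻¹ := by group
      _ = v := by rw [e', hg]
  · exact (comm_z (back hg x)).symm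

theorem ku_eq_one (hw : m.Weak) (x : ↥(Cz v)) (hx : IsConj z (x : G)) (h : m.ku hg x = 1) : (x : G) = v := by
  have e : g⁻¹ * (x : G) * g = z := hw ⟨back hg x, h⟩ (hx.trans (isConj_iff.2 ⟨g⁻¹, by
    show g⁻¹ * (x : G) * (g⁻¹)⁻¹ = g⁻¹ * (x : G) * g
    rw [inv_inv]⟩))
  calc (x : G) = g * (g⁻¹ * (x : G) * g) * g⁻¹ := by group
    _ = v := by rw [e, hg]

end

/-- The part of the kernel centralising `u`. -/
def Pu (u : ↥(Cz z)) : Subgroup ↥m.ρ.ker :=
  (Cz (u : G)).comap ((Cz z).subtype.comp m.ρ.ker.subtype)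

theorem mem_Pu {a : ↥m.ρ.ker} : a ∈ m.Pu u ↔ Commute ((a : ↥(Cz z)) : G) (u : G) :=
  mem_centralizer_singleton_iff

/-- The inclusion into the centraliser of `u`. -/
def incl (u : ↥(Cz z)) : ↥(m.Pu u) →* ↥(Cz (u : G)) where
  toFun a := ⟨(((a : ↥m.ρ.ker) : ↥(Cz z)) : G), a.2⟩
  map_one' := rfl
  map_mul' _ _ := rfl

variable (hw : m.Weak) (hp : m.Pt)

include hu in
/-- `z` in the centraliser of `u`. -/
theorem z_mem : z ∈ Cz (u : G) := mem_centralizer_singleton_iff.2 hu.2.2.eq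

include hu hw in
theorem ku_z_ne {g : G} (hg : g * z * g⁻¹ = (u : G)) : m.ku hg ⟨z, z_mem hu⟩ ≠ 1 := fun h =>
  hu.2.1 (m.ku_eq_one hg hw _ (IsConj.refl z) h).symm

include hu hw hp hpt

/-- The orthogonal hyperplane centralises `u`. -/
theorem comm_of_perp {a : ↥m.ρ.ker} (h : H4 (m.χ a) w = 0) : Commute ((a : ↥(Cz z)) : G) (u : G) := by
  by_contra hna
  have h0 : m.χ (m.cu u a) = 0 := by rw [m.chi_cu hpt, h, zero_smul]
  have he : ((a : ↥(Cz z)) : G) * (u : G) * ((a : ↥(Cz z)) : G)⁻¹ = (u : G) * z := by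
    rcases (m.χ_ker _).1 h0 with e | e
    · refine absurd ?_ hna
      have := m.u_mul_cu hu a
      rw [e, mul_one, eq_mul_inv_iff_mul_eq] at this
      exact this.symm
    · rw [← m.u_mul_cu hu, e]
  obtain ⟨σ, hσ⟩ := CfsgLib.SURadical.exists_sigma m.hF
  obtain ⟨y₀, hy₀⟩ := CfsgLib.PSUAut.exists_partner m.hF hσ hpt.1.1
  obtain ⟨b, rfl⟩ := m.χ_surj y₀
  have hd0 : m.χ (m.cu u b) ≠ 0 := by rw [m.chi_cu hpt, hy₀, one_smul]; exact hpt.1.1
  have hd1 : ((m.cu u b : ↥(Cz z)) : G) ≠ 1 := fun e => hd0 ((m.χ_ker _).2 (.inl e))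
  have hdz : ((m.cu u b : ↥(Cz z)) : G) * z ≠ 1 := fun e => hd0 ((m.χ_ker _).2 (.inr (by
    rw [eq_inv_of_mul_eq_one_left e, inv_eq_of_mul_eq_one_right m.z_sq])))
  obtain ⟨g, hg⟩ := isConj_iff.1 hu.1
  have h1 : (u : G) * ((m.cu u b : ↥(Cz z)) : G) ∈ Cz (u : G) :=
    mem_centralizer_singleton_iff.2 (((Commute.refl (u : G)).mul_right (m.cu_comm hu hpt b)).eq.symm)
  set v : ↥(Cz (u : G)) := ⟨_, h1⟩
  set zu : ↥(Cz (u : G)) := ⟨z, z_mem hu⟩
  obtain ⟨p₁, hv⟩ := m.ku_pt hg hp v (by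
    show IsConj z ((u : G) * _)
    rw [m.u_mul_cu hu]
    exact (conj_link hu _).1) fun e => hd1 (mul_eq_left.1 e)
  obtain ⟨p₂, hvz⟩ := m.ku_pt hg hp (v * zu) (by
    show IsConj z ((u : G) * _ * z)
    rw [m.u_mul_cu hu, mul_assoc, (comm_z (b : ↥(Cz z))).inv_left.eq, ← mul_assoc, mul_assoc _ (u : G), ← he]
    exact (conj_link (conj_link hu _) _).1) fun e => hdz (by
      have e' : (u : G) * ((m.cu u b : ↥(Cz z)) : G) * z = u := e
      rwa [mul_assoc, mul_eq_left] at e')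
  obtain ⟨p₃, hz'⟩ := m.ku_pt hg hp zu (IsConj.refl z) fun e => hu.2.1 e.symm
  rw [map_mul] at hvz
  have hc : Commute v zu := Subtype.ext (comm_z (u * (m.cu u b : ↥(Cz z)))).eq
  exact not_pt_mul m.hF hv hz' (hc.map _) hvz

theorem cu_eq_one {a : ↥m.ρ.ker} (h : H4 (m.χ a) w = 0) : ((m.cu u a : ↥(Cz z)) : G) = 1 := by
  have := m.u_mul_cu hu a
  rwa [(m.comm_of_perp hu hpt hw hp h).eq, mul_inv_cancel_right, mul_eq_left] at this

theorem cu_congr {a b : ↥m.ρ.ker} (h : H4 (m.χ a) w = H4 (m.χ b) w) : m.cu u a = m.cu u b := by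
  have hc := m.comm_of_perp hu hpt hw hp (a := b⁻¹ * a) (by
    rw [m.χ_mul, m.chi_inv, CfsgLib.SURadical.add_left m.hF, h, CfsgLib.SURadical.add_self m.hF])
  refine Subtype.ext (Subtype.ext (mul_left_cancel (a := (u : G)) ?_))
  rw [m.u_mul_cu hu, m.u_mul_cu hu]
  have e := hc.eq
  simp only [Subgroup.coe_mul, Subgroup.coe_inv] at e
  calc ((a : ↥(Cz z)) : G) * (u : G) * ((a : ↥(Cz z)) : G)⁻¹
      = ((b : ↥(Cz z)) : G) * (((b : ↥(Cz z)) : G)⁻¹ * ((a : ↥(Cz z)) : G) * (u : G)) * ((a : ↥(Cz z)) : G)⁻¹ := by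
        group
    _ = _ := by rw [e]; group

omit hw hp in
/-- The commutators centralise the part centralising `u`. -/
theorem cu_comm_Pu (a : ↥m.ρ.ker) {p : ↥m.ρ.ker} (hpP : Commute ((p : ↥(Cz z)) : G) (u : G)) :
    Commute ((p : ↥(Cz z)) : G) ((m.cu u a : ↥(Cz z)) : G) := by
  have he : ((m.cu u a : ↥(Cz z)) : G) = (u : G) * (((a : ↥(Cz z)) : G) * (u : G) * ((a : ↥(Cz z)) : G)⁻¹) := by
    rw [← m.u_mul_cu hu, ← mul_assoc, m.uu hu, one_mul]
  rw [he]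
  refine hpP.mul_right ?_
  have h2 : Commute (((a : ↥(Cz z)) : G)⁻¹ * ((p : ↥(Cz z)) : G) * ((a : ↥(Cz z)) : G)) (u : G) := by
    rcases m.comm_mem a⁻¹ p with e | e <;> simp only [Subgroup.coe_inv, inv_inv] at e
    · rw [e.eq, inv_mul_cancel_right]; exact hpP
    · rw [e]; exact hpP.mul_left hu.2.2
  have := h2.map (MulAut.conj ((a : ↥(Cz z)) : G)).toMonoidHom
  simpa [mul_assoc] using this

theorem card_Pu : Nat.card ↥(m.Pu u) = 128 := by
  let f : ↥(m.Pu u) →* Multiplicative (Fin 4 → F) :=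
    MonoidHom.mk' (fun a => Multiplicative.ofAdd (m.χ a.1)) fun a b => by
      rw [Subgroup.coe_mul, m.χ_mul, ofAdd_add]
  have hz : m.zk ∈ m.Pu u := m.mem_Pu.2 hu.2.2
  have hk : Nat.card ↥f.ker = 2 := by
    refine Nat.card_eq_two_iff.2 ⟨1, ⟨⟨m.zk, hz⟩, MonoidHom.mem_ker.2 ?_⟩, fun e => m.z_ne_one ?_, ?_⟩
    · exact congrArg Multiplicative.ofAdd m.chi_zk
    · exact (congrArg (fun t : ↥f.ker => ((((t : ↥(m.Pu u)) : ↥m.ρ.ker) : ↥(Cz z)) : G)) e).symm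
    · refine Set.eq_univ_of_forall fun a => ?_
      have ha : m.χ ((a : ↥(m.Pu u)) : ↥m.ρ.ker) = 0 := Multiplicative.ofAdd.injective (MonoidHom.mem_ker.1 a.2)
      rcases (m.χ_ker _).1 ha with e | e
      · left; exact Subtype.ext (Subtype.ext (Subtype.ext (Subtype.ext e)))
      · right; exact Subtype.ext (Subtype.ext (Subtype.ext (Subtype.ext e)))
  have hr : Nat.card ↥f.range = 64 := by
    rw [← card_perp m.hF hpt.1.1]
    refine Nat.card_congr (Multiplicative.toAdd.subtypeEquiv fun x => ?_)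
    constructor
    · rintro ⟨a, rfl⟩
      exact m.perp_of_comm hpt (m.mem_Pu.1 a.2).symm
    · intro hx
      obtain ⟨a, ha⟩ := m.χ_surj x.toAdd
      exact ⟨⟨a, m.mem_Pu.2 (m.comm_of_perp hu hpt hw hp (ha.symm ▸ hx))⟩, congrArg Multiplicative.ofAdd ha⟩
  have h := f.ker.card_mul_index
  rw [index_ker, hk, hr] at h
  omega

variable {g : G} (hg : g * z * g⁻¹ = (u : G))
include hg

/-- The kernel seen from `u` is carried by the point of `u`. -/
theorem span_of_ku_eq_one (a : ↥(m.Pu u)) (ha : m.ku hg (m.incl u a) = 1) :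
    ∃ c : F, m.χ (a : ↥m.ρ.ker) = c • w := by
  refine mem_span_of_trace m.hF fun y hy => ?_
  obtain ⟨p, rfl⟩ := m.χ_surj y
  have hpP := m.comm_of_perp hu hpt hw hp hy
  refine m.form_of_comm ?_
  rcases m.comm_mem p a with e | e
  · exact e.symm
  · exfalso
    refine m.ku_z_ne hu hw hg ?_
    have e' : m.incl u ⟨p, m.mem_Pu.2 hpP⟩ * m.incl u a * (m.incl u ⟨p, m.mem_Pu.2 hpP⟩)⁻¹ =
        m.incl u a * (⟨z, z_mem hu⟩ : ↥(Cz (u : G))) := Subtype.ext e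
    have e2 := congrArg (m.ku hg) e'
    rwa [map_mul, map_mul, map_mul, ha, mul_one, map_inv, mul_inv_cancel, one_mul, eq_comm] at e2

theorem card_range_ku : 32 ≤ Nat.card ↥((m.ku hg).comp (m.incl u)).range := by
  obtain ⟨σ, hσ⟩ := CfsgLib.SURadical.exists_sigma m.hF
  obtain ⟨y₀, hy₀⟩ := CfsgLib.PSUAut.exists_partner m.hF hσ hpt.1.1
  set f := (m.ku hg).comp (m.incl u)
  have hk : Nat.card ↥f.ker ≤ 4 := by
    refine (Nat.card_le_card_of_injective (fun a : ↥f.ker => H4 (m.χ ((a : ↥(m.Pu u)) : ↥m.ρ.ker)) y₀) ?_).trans_eq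
      (by rw [Nat.card_eq_fintype_card, m.hF]; norm_num)
    intro a b e
    obtain ⟨c, hc⟩ := m.span_of_ku_eq_one hu hpt hw hp hg a a.2
    obtain ⟨d, hd⟩ := m.span_of_ku_eq_one hu hpt hw hp hg b b.2
    simp only [hc, hd, CfsgLib.SURadical.smul_left m.hF, CfsgLib.SURadical.comm_one m.hF hy₀, mul_one] at e
    subst e
    rcases m.eq_of_chi (hc.trans hd.symm) with e' | e'
    · exact Subtype.ext (Subtype.ext (Subtype.ext (Subtype.ext e'.symm)))
    · exfalso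
      refine m.ku_z_ne hu hw hg ?_
      have e2 : m.incl u b = m.incl u a * (⟨z, z_mem hu⟩ : ↥(Cz (u : G))) := Subtype.ext e'
      have e3 := congrArg (m.ku hg) e2
      rwa [map_mul, show m.ku hg (m.incl u a) = 1 from a.2, show m.ku hg (m.incl u b) = 1 from b.2, one_mul,
        eq_comm] at e3
  have h := f.ker.card_mul_index
  rw [index_ker, m.card_Pu hu hpt hw hp] at h
  nlinarith [Nat.mul_le_mul_right (Nat.card ↥f.range) hk]

/-- A transvection coming from the part centralising `u` is that of `z`. -/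
theorem ku_eq_of_pt {x : ↥(m.Pu u)} (hx : ∃ p, IsPt (m.ku hg (m.incl u x)) p) :
    m.ku hg (m.incl u x) = m.ku hg ⟨z, z_mem hu⟩ := by
  obtain ⟨p, hxp⟩ := hx
  set zu : ↥(Cz (u : G)) := ⟨z, z_mem hu⟩
  obtain ⟨q, hzq⟩ := m.ku_pt hg hp zu (IsConj.refl z) fun e => hu.2.1 e.symm
  have hzc : ∀ a : ↥(m.Pu u), Commute (m.incl u a) zu := fun a => Subtype.ext (comm_z ((a : ↥m.ρ.ker) : ↥(Cz z))).eq
  by_contra hne
  have h2 : IsPGroup 2 ↥((m.ku hg).comp (m.incl u)).range :=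
    (m.isPGroup_ker.to_subgroup _).of_surjective _ ((m.ku hg).comp (m.incl u)).rangeRestrict_surjective
  have h16 := card_le_sixteen m.hF hxp hzq ((hzc x).map _) hne _ h2 (by
    rintro _ ⟨a, rfl⟩
    rw [MonoidHom.comp_apply]
    refine ⟨?_, (hzc a).map (m.ku hg)⟩
    rcases m.comm_mem (a : ↥m.ρ.ker) x with e | e
    · exact ((show Commute (m.incl u a) (m.incl u x) from Subtype.ext e.eq)).map (m.ku hg)
    · exfalso
      have e' : m.incl u a * m.incl u x * (m.incl u a)⁻¹ = m.incl u x * zu := Subtype.ext e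
      have e2 := hxp.conj (m.ku hg (m.incl u a))
      rw [← map_inv, ← map_mul, ← map_mul, e', map_mul] at e2
      exact not_pt_mul m.hF hxp hzq ((hzc x).map _) e2)
  have h32 := m.card_range_ku hu hpt hw hp hg
  omega

omit hg

theorem mul_z_notConj : ¬ IsConj z ((u : G) * z) := by
  intro hconj
  obtain ⟨g, hg⟩ := isConj_iff.1 hu.1
  obtain ⟨σ, hσ⟩ := CfsgLib.SURadical.exists_sigma m.hF
  obtain ⟨y₀, hy₀⟩ := CfsgLib.PSUAut.exists_partner m.hF hσ hpt.1.1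
  obtain ⟨a, rfl⟩ := m.χ_surj y₀
  have hd0 : m.χ (m.cu u a) ≠ 0 := by rw [m.chi_cu hpt, hy₀, one_smul]; exact hpt.1.1
  have hd1 : ((m.cu u a : ↥(Cz z)) : G) ≠ 1 := fun e => hd0 ((m.χ_ker _).2 (.inl e))
  set zu : ↥(Cz (u : G)) := ⟨z, z_mem hu⟩
  set d : ↥(m.Pu u) := ⟨m.cu u a, m.mem_Pu.2 (m.cu_comm hu hpt a).symm⟩
  set uu' : ↥(Cz (u : G)) := ⟨u, mem_centralizer_singleton_iff.2 rfl⟩
  have hv : m.ku hg (m.incl u d) = m.ku hg zu := by
    refine m.ku_eq_of_pt hu hpt hw hp hg ?_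
    obtain ⟨p, h⟩ := m.ku_pt hg hp (uu' * m.incl u d) (by
      show IsConj z ((u : G) * _)
      exact (m.cu_link hu a).1) fun e => hd1 (mul_eq_left.1 e)
    rw [map_mul, m.ku_self hg, one_mul] at h
    exact ⟨p, h⟩
  obtain ⟨q, hzq⟩ := m.ku_pt hg hp zu (IsConj.refl z) fun e => hu.2.1 e.symm
  have h1 := m.ku_eq_one hg hw (uu' * m.incl u d * zu) (hconj.trans (isConj_iff.2 ⟨((a : ↥(Cz z)) : G), by
      show _ = (u : G) * ((m.cu u a : ↥(Cz z)) : G) * z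
      rw [m.u_mul_cu hu, mul_assoc _ _ z, (comm_z (a : ↥(Cz z))).inv_left.eq]
      group⟩)) (by rw [map_mul, map_mul, m.ku_self hg, one_mul, hv, hzq.mul_self m.hF])
  have h1' : (u : G) * ((m.cu u a : ↥(Cz z)) : G) * z = u := h1
  rw [mul_assoc, mul_eq_left] at h1'
  exact hd0 ((m.χ_ker _).2 (.inr (by rw [eq_inv_of_mul_eq_one_left h1', inv_eq_of_mul_eq_one_right m.z_sq])))

/-- The conjugates over the transvection of `u`. -/
theorem exists_cu {v : ↥(Cz z)} (hv : (v : G) ∈ link (conjugatesOf z) z) (he : m.ρ v = m.ρ u) :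
    ∃ a : ↥m.ρ.ker, v = u * (m.cu u a : ↥(Cz z)) := by
  obtain ⟨g, hg⟩ := isConj_iff.1 hu.1
  obtain ⟨σ, hσ⟩ := CfsgLib.SURadical.exists_sigma m.hF
  obtain ⟨y₀, hy₀⟩ := CfsgLib.PSUAut.exists_partner m.hF hσ hpt.1.1
  let x : ↥m.ρ.ker := ⟨u⁻¹ * v, by rw [MonoidHom.mem_ker, map_mul, map_inv, he, inv_mul_cancel]⟩
  have huv : (v : G) = (u : G) * ((x : ↥(Cz z)) : G) :=
    (mul_inv_cancel_left (u : G) (v : G)).symm
  have hxP : Commute ((x : ↥(Cz z)) : G) (u : G) := by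
    refine m.comm_of_perp hu hpt hw hp ?_
    have hinv : MulAut.conjNormal u x = x⁻¹ := Subtype.ext (Subtype.ext (by
      simp only [MulAut.conjNormal_apply, Subgroup.coe_mul, Subgroup.coe_inv, x]
      rw [inv_eq_of_mul_eq_one_right (m.uu hu), mul_inv_rev, inv_eq_of_mul_eq_one_right (m.uu hv),
        inv_eq_of_mul_eq_one_right (m.uu hu), ← mul_assoc, m.uu hu, one_mul]))
    have h1 := m.χ_equiv u x
    rw [hinv, m.chi_inv, hpt.2] at h1
    exact (smul_eq_zero.1 (add_eq_left.1 h1.symm)).resolve_right hpt.1.1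
  by_cases hx1 : ((x : ↥(Cz z)) : G) = 1
  · refine ⟨1, Subtype.ext ?_⟩
    rw [huv, hx1, Subgroup.coe_mul, m.cu_eq_one hu hpt hw hp (by rw [m.chi_one, CfsgLib.SURadical.zero_left m.hF])]
  set zu : ↥(Cz (u : G)) := ⟨z, z_mem hu⟩
  set uu' : ↥(Cz (u : G)) := ⟨u, mem_centralizer_singleton_iff.2 rfl⟩
  set xP : ↥(m.Pu u) := ⟨x, m.mem_Pu.2 hxP⟩
  obtain ⟨q, hzq⟩ := m.ku_pt hg hp zu (IsConj.refl z) fun e => hu.2.1 e.symm
  have hcj : IsConj z ((uu' * m.incl u xP : ↥(Cz (u : G))) : G) := by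
    have h := hv.1
    rw [huv] at h
    exact h
  have hkx : m.ku hg (m.incl u xP) = m.ku hg zu := by
    refine m.ku_eq_of_pt hu hpt hw hp hg ?_
    obtain ⟨p, h⟩ := m.ku_pt hg hp (uu' * m.incl u xP) hcj fun e => hx1 (mul_eq_left.1 e)
    rw [map_mul, m.ku_self hg, one_mul] at h
    exact ⟨p, h⟩
  obtain ⟨c, hc⟩ := m.span_of_ku_eq_one hu hpt hw hp hg (xP * ⟨m.zk, m.mem_Pu.2 hu.2.2⟩) (by
    rw [map_mul, map_mul, hkx]
    exact hzq.mul_self m.hF)
  rw [Subgroup.coe_mul, m.χ_mul, m.chi_zk, add_zero] at hc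
  obtain ⟨a, ha⟩ := m.χ_surj (c • y₀)
  have hda : m.χ (m.cu u a) = m.χ x := by
    rw [m.chi_cu hpt, ha, CfsgLib.SURadical.smul_left m.hF, hy₀, mul_one, hc]
  refine ⟨a, Subtype.ext ?_⟩
  rcases m.eq_of_chi hda with e | e
  · rw [huv, e, Subgroup.coe_mul]
  exfalso
  by_cases hd : ((m.cu u a : ↥(Cz z)) : G) = 1
  · refine m.mul_z_notConj hu hpt hw hp ?_
    have := hv.1
    rwa [huv, e, hd, one_mul] at this
  set dP : ↥(m.Pu u) := ⟨m.cu u a, m.mem_Pu.2 (m.cu_comm hu hpt a).symm⟩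
  have hkd : m.ku hg (m.incl u dP) = m.ku hg zu := by
    refine m.ku_eq_of_pt hu hpt hw hp hg ?_
    obtain ⟨p, h⟩ := m.ku_pt hg hp (uu' * m.incl u dP) (by
      show IsConj z ((u : G) * _)
      exact (m.cu_link hu a).1) fun e => hd (mul_eq_left.1 e)
    rw [map_mul, m.ku_self hg, one_mul] at h
    exact ⟨p, h⟩
  have hxd : m.incl u xP = m.incl u dP * zu := Subtype.ext e
  have h1 := m.ku_eq_one hg hw (uu' * m.incl u xP) hcj (by
    rw [hxd, map_mul, map_mul, m.ku_self hg, one_mul, hkd, hzq.mul_self m.hF])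
  exact hx1 (mul_eq_left.1 h1)

end CfsgLib.USixType.Model
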