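import Cfsg.Agent.Lib.ThreeTransp.SURadical.Points

/-!
# Involutions of `SU₄(2)` that are no transvections

Such an involution `g` moves the space onto the totally isotropic line that it fixes.
-/

set_option autoImplicit false
set_option linter.unusedSectionVars false

namespace CfsgLib.USixType

open Cfsg CfsgLib.SURadical
open CfsgLib.PSUAut (Isot act act_mul act_one act_form act_smul act_add act_ext exists_perp eq_zero_of_perp)

variable {F : Type} [Field F] [Fintype F]

local notation "V4" => Fin 4 → F
local notation "hh" => Cfsg.hermForm 4 F 2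
local notation "SU4" => (Cfsg.SU 4 F 2)

/-- `y ↦ g y + y`. -/
def nmap (g : SU4) : V4 →ₗ[F] V4 where
  toFun y := act g y + y
  map_add' x y := by simp only [act_add]; abel
  map_smul' a y := by simp only [act_smul, smul_add, RingHom.id_apply]

theorem nmap_apply (g : SU4) (y : V4) : nmap g y = act g y + y := rfl

variable (hF : Fintype.card F = 2 ^ 2)
include hF

theorem act_eq (g : SU4) (y : V4) : act g y = nmap g y + y := by
  rw [nmap_apply, add_assoc, vadd_self hF, add_zero]

theorem nmap_eq_zero {g : SU4} {y : V4} : nmap g y = 0 ↔ act g y = y := by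
  rw [nmap_apply]
  exact ⟨fun h => by rw [← add_zero (act g y), ← vadd_self hF y, ← add_assoc, h, zero_add],
    fun h => by rw [h, vadd_self hF]⟩

/-- An involution moving onto a two-dimensional space. -/
structure Deep (g : SU4) : Prop where
  mul_self : g * g = 1
  rank : Module.finrank F (LinearMap.range (nmap g)) = 2

section

variable {g : Cfsg.SU 4 F 2} (hg : g * g = 1)
include hg

theorem act_act (y : V4) : act g (act g y) = y := by rw [← act_mul, hg, act_one]

theorem adj (x y : V4) : hh (act g x) y = hh x (act g y) := by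
  conv_lhs => rw [← act_act hF hg y, act_form]

theorem nmap_adj (x y : V4) : hh (nmap g x) y = hh x (nmap g y) := by
  rw [nmap_apply, nmap_apply, add_left hF, add_right hF, adj hF hg]

theorem nmap_nmap (y : V4) : nmap g (nmap g y) = 0 := by
  rw [nmap_apply g (nmap g y), nmap_apply, act_add, act_act hF hg, add_comm y, vadd_self hF]

theorem range_perp (x y : V4) : hh (nmap g x) (nmap g y) = 0 := by
  rw [nmap_adj hF hg, nmap_nmap hF hg, zero_right hF]

/-- An involution is a transvection or moves onto a line. -/
theorem isPt_or_deep (hg1 : g ≠ 1) : (∃ w, IsPt g w) ∨ Deep g := by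
  obtain ⟨σ, hσ⟩ := exists_sigma hF
  set N := nmap g with hN
  have hle : LinearMap.range N ≤ LinearMap.ker N := by
    rintro _ ⟨y, rfl⟩
    exact LinearMap.mem_ker.2 (nmap_nmap hF hg y)
  have hsum := N.finrank_range_add_finrank_ker
  rw [Module.finrank_fin_fun] at hsum
  have hmono := Submodule.finrank_mono hle
  have hne : Module.finrank F (LinearMap.range N) ≠ 0 := fun h => hg1 (act_ext fun y => by
    rw [Submodule.finrank_eq_zero, LinearMap.range_eq_bot] at h
    rw [act_one]
    exact (nmap_eq_zero hF).1 (LinearMap.congr_fun h y))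
  rcases (show Module.finrank F (LinearMap.range N) = 1 ∨ Module.finrank F (LinearMap.range N) = 2 by omega)
    with h1 | h2
  swap
  · exact .inr ⟨hg, h2⟩
  left
  obtain ⟨⟨v, hv⟩, hv0, hspan⟩ := finrank_eq_one_iff'.1 h1
  have hv0' : v ≠ 0 := fun h => hv0 (Subtype.ext h)
  obtain ⟨y₀, hy₀⟩ := CfsgLib.PSUAut.exists_partner hF hσ hv0'
  have hrep : ∀ y, ∃ c : F, N y = c • v := fun y => by
    obtain ⟨c, hc⟩ := hspan ⟨N y, LinearMap.mem_range_self N y⟩
    exact ⟨c, (congrArg Subtype.val hc).symm⟩
  choose f hf using hrep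
  have hvv : hh v v = 0 := by
    obtain ⟨a, rfl⟩ := hv
    exact range_perp hF hg a a
  have key : ∀ y, f y = hh y v * f y₀ ^ 2 := fun y => by
    have h := nmap_adj hF hg y y₀
    rw [← hN, hf, hf, smul_left hF, smul_right hF, comm_one hF hy₀, mul_one] at h
    rw [h]; ring
  have h0 := key y₀
  rw [hy₀, one_mul] at h0
  refine ⟨v, ⟨hv0', hvv⟩, fun y => ?_⟩
  rw [act_eq hF, ← hN, hf, add_comm, key]
  rcases eq_or_ne (f y₀) 0 with e | e
  · exfalso
    obtain ⟨a, ha⟩ := hv
    rw [hf, key, e] at ha
    simp only [ne_eq, OfNat.ofNat_ne_zero, not_false_eq_true, zero_pow, mul_zero, zero_smul] at ha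
    exact hv0' ha.symm
  · have e1 : f y₀ = 1 := by
      have h1 : f y₀ * 1 = f y₀ * f y₀ := by rw [mul_one, ← pow_two]; exact h0
      exact (mul_left_cancel₀ e h1).symm
    rw [e1, one_pow, mul_one]

end

namespace Deep

variable {g : Cfsg.SU 4 F 2} (d : Deep g)
include d

theorem ker_eq_range : LinearMap.ker (nmap g) = LinearMap.range (nmap g) := by
  refine (Submodule.eq_of_le_of_finrank_eq ?_ ?_).symm
  · rintro _ ⟨y, rfl⟩
    exact LinearMap.mem_ker.2 (nmap_nmap hF d.mul_self y)
  · have h := (nmap g).finrank_range_add_finrank_ker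
    have h2 := d.rank
    rw [Module.finrank_fin_fun] at h
    omega

theorem exists_pre {l : V4} (hl : act g l = l) : ∃ y, nmap g y = l := by
  have h : l ∈ LinearMap.ker (nmap g) := LinearMap.mem_ker.2 ((nmap_eq_zero hF).2 hl)
  rwa [d.ker_eq_range hF] at h

theorem perp_fixed {l m : V4} (hl : act g l = l) (hm : act g m = m) : hh l m = 0 := by
  obtain ⟨a, rfl⟩ := d.exists_pre hF hl
  obtain ⟨b, rfl⟩ := d.exists_pre hF hm
  exact range_perp hF d.mul_self a b

/-- The line of fixed vectors has sixteen points. -/
theorem card_fixed : Nat.card {y : V4 // act g y = y} = 16 := by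
  have h1 : Nat.card {y : V4 // act g y = y} = Nat.card ↥(LinearMap.ker (nmap g)) :=
    Nat.card_congr (Equiv.subtypeEquivRight fun y => (LinearMap.mem_ker.trans (nmap_eq_zero hF)).symm)
  rw [h1, Module.natCard_eq_pow_finrank (K := F), Nat.card_eq_fintype_card, hF, d.ker_eq_range hF, d.rank]
  norm_num

/-- A vector outside the fixed line, orthogonal to a given fixed one. -/
theorem exists_out {l : V4} (hl : act g l = l) : ∃ k, hh k l = 0 ∧ nmap g k ≠ 0 := by
  by_contra hc
  simp only [not_exists, not_and, not_not] at hc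
  obtain ⟨σ, hσ⟩ := exists_sigma hF
  have hle : LinearMap.ker (CfsgLib.PSUAut.lin hF hσ l) ≤ LinearMap.ker (nmap g) := fun k hk =>
    LinearMap.mem_ker.2 (hc k (LinearMap.mem_ker.1 hk))
  have h1 := Submodule.finrank_mono hle
  have h2 := (CfsgLib.PSUAut.lin hF hσ l).finrank_range_add_finrank_ker
  have h3 := Submodule.finrank_le (LinearMap.range (CfsgLib.PSUAut.lin hF hσ l))
  have h4 : Module.finrank F (LinearMap.ker (nmap g)) = 2 := by rw [d.ker_eq_range hF, d.rank]
  rw [Module.finrank_fin_fun] at h2
  rw [Module.finrank_self] at h3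
  omega

/-- Every vector is a combination of two given ones modulo the fixed line. -/
theorem decompose {b k : V4} (hind : ∀ x y : F, x • nmap g b + y • nmap g k = 0 → x = 0 ∧ y = 0) (v : V4) :
    ∃ x y : F, act g (v + (x • b + y • k)) = v + (x • b + y • k) := by
  let w : Fin 2 → ↥(LinearMap.range (nmap g)) :=
    ![⟨nmap g b, LinearMap.mem_range_self _ b⟩, ⟨nmap g k, LinearMap.mem_range_self _ k⟩]
  have hli : LinearIndependent F w := LinearIndependent.pair_iff.2 fun x y h =>
    hind x y (congrArg Subtype.val h)
  have htop := hli.span_eq_top_of_card_eq_finrank (by rw [Fintype.card_fin, d.rank])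
  have hmem : (⟨nmap g v, LinearMap.mem_range_self _ v⟩ : ↥(LinearMap.range (nmap g))) ∈
      Submodule.span F (Set.range w) := htop ▸ Submodule.mem_top
  simp only [w, Matrix.range_cons, Matrix.range_empty, Set.union_empty, Set.singleton_union,
    Submodule.mem_span_pair] at hmem
  obtain ⟨x, y, h⟩ := hmem
  refine ⟨x, y, (nmap_eq_zero hF).1 ?_⟩
  have h' : x • nmap g b + y • nmap g k = nmap g v := congrArg Subtype.val h
  rw [map_add, map_add, map_smul, map_smul, h', vadd_self hF]

/-- Two transvections exchanged by `g` move a given fixed vector. -/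
theorem exists_move {l : V4} (hl : act g l = l) (hl0 : l ≠ 0) :
    ∃ (T : SU4) (b : V4), T * g = g * T ∧ act T l = l + nmap g b ∧ hh l b = 1 := by
  obtain ⟨σ, hσ⟩ := exists_sigma hF
  set N := nmap g with hN
  have hadj := nmap_adj hF d.mul_self
  have hll : hh l l = 0 := d.perp_fixed hF hl hl
  have hNl : N l = 0 := (nmap_eq_zero hF).2 hl
  -- isotropy for the form on the line
  obtain ⟨p₁, hp₁, hlp₁⟩ : ∃ p₁, hh p₁ (N p₁) = 0 ∧ hh l p₁ ≠ 0 := by
    obtain ⟨y, hy⟩ := CfsgLib.PSUAut.exists_partner hF hσ hl0
    by_cases hc0 : hh y (N y) = 0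
    · exact ⟨y, hc0, fun e => by rw [comm_one hF hy] at e; exact one_ne_zero e⟩
    obtain ⟨b, hb⟩ := d.exists_pre hF hl
    rw [← hN] at hb
    have hsq : ∀ v, hh v (N v) = 0 ∨ hh v (N v) = 1 := fun v => by
      have h2 : hh v (N v) = hh v (N v) ^ 2 := by
        conv_lhs => rw [← hadj]
        exact conj_form hF v (N v)
      have h3 : hh v (N v) * (hh v (N v) - 1) = 0 := by linear_combination -h2
      rcases mul_eq_zero.1 h3 with h | h
      · exact .inl h
      · exact .inr (sub_eq_zero.1 h)
    have hc1 : hh y (N y) = 1 := (hsq y).resolve_left hc0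
    rcases hsq b with he | he
    · obtain ⟨w, hw, hw1⟩ : ∃ w : F, w + w ^ 2 + 1 = 0 ∧ w ≠ 0 := by
        obtain ⟨w, hw⟩ : ∃ w : F, w ≠ 0 ∧ w ≠ 1 := by
          by_contra hc
          simp only [not_exists, not_and, not_not] at hc
          have : Fintype.card F ≤ 2 := by
            classical
            calc Fintype.card F ≤ ({0, 1} : Finset F).card :=
                  Finset.card_le_card fun x _ => by
                    rcases eq_or_ne x 0 with h | h
                    · simp [h]
                    · simp [hc x h]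
              _ ≤ 2 := Finset.card_le_two
          omega
        refine ⟨w, ?_, hw.1⟩
        have h3 := cube_eq_one hF hw.1
        have : (w - 1) * (w + w ^ 2 + 1) = 0 := by linear_combination h3
        exact (mul_eq_zero.1 this).resolve_left (sub_ne_zero.2 hw.2)
      refine ⟨y + w • b, ?_, ?_⟩
      · have h1 : hh b (N y) = 1 := by rw [← hadj, hb, comm_one hF hy]
        have h2 : hh y (N b) = 1 := by rw [hb, hy]
        rw [map_add, map_smul, add_left hF, add_right hF, add_right hF, smul_left hF, smul_left hF, smul_right hF,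
          smul_right hF, he, hc1, h1, h2]
        linear_combination hw
      · have hlb : hh l b = 0 := by rw [← hb, hadj, he]
        rw [add_right hF, smul_right hF, comm_one hF hy, hlb, mul_zero, add_zero]
        exact one_ne_zero
    · -- the orthogonal direction
      obtain ⟨k, hkl, hk⟩ := d.exists_out hF hl
      rw [← hN] at hk
      have hbk : hh b (N k) = 0 := by rw [← hadj, hb]; exact (comm_zero hF).1 hkl
      have hkb : hh k (N b) = 0 := by rw [hb, hkl]
      have hk1 : hh k (N k) = 1 := by
        refine (hsq k).resolve_left fun h0 => hk (eq_zero_of_perp hF hσ fun v => ?_)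
        have hind : ∀ x y : F, x • N b + y • N k = 0 → x = 0 ∧ y = 0 := by
          intro x y h
          have hx : x = 0 := by
            have h1 := congrArg (fun v => hh v b) h
            simp only [add_left hF, smul_left hF, zero_left hF] at h1
            rw [hadj b b, he, mul_one, (comm_zero hF).1 hbk, mul_zero, add_zero] at h1
            exact h1
          rw [hx, zero_smul, zero_add] at h
          exact ⟨hx, (smul_eq_zero.1 h).resolve_right hk⟩
        obtain ⟨x, y', h⟩ := d.decompose hF hind v
        have h1 := d.perp_fixed hF h ((nmap_eq_zero hF).1 (nmap_nmap hF d.mul_self k))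
        rw [← hN, add_left hF, add_left hF, smul_left hF, smul_left hF, hbk, h0] at h1
        simpa using h1
      refine ⟨b + k, ?_, ?_⟩
      · rw [map_add, add_left hF, add_right hF, add_right hF, he, hbk, hkb, hk1]
        linear_combination add_self hF (1 : F)
      · have hlb : hh l b = 1 := by rw [← hb, hadj, he]
        rw [add_right hF, hlb, (comm_zero hF).1 hkl, add_zero]
        exact one_ne_zero
  -- make it isotropic
  obtain ⟨p, hp, hpN, hlp⟩ : ∃ p, hh p p = 0 ∧ hh p (N p) = 0 ∧ hh l p ≠ 0 := by
    obtain ⟨a, ha, -, -⟩ := CfsgLib.PSUAut.exists_iso_shift hF hσ hll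
      (y := (hh p₁ l)⁻¹ • p₁) (by
        rw [smul_left hF, inv_mul_cancel₀ fun e => hlp₁ ((comm_zero hF).1 e)])
    refine ⟨_, ha, ?_, ?_⟩
    · have h1 : hh l (N p₁) = 0 := by rw [← hadj, hNl, zero_left hF]
      rw [map_add, map_smul, map_smul, hNl, smul_zero, add_zero, add_left hF, smul_left hF, smul_left hF,
        smul_right hF, smul_right hF, hp₁, h1]
      simp
    · rw [add_right hF, smul_right hF, smul_right hF, hll, mul_zero, add_zero]
      exact mul_ne_zero (pow_ne_zero _ (inv_ne_zero fun e => hlp₁ ((comm_zero hF).1 e))) hlp₁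
  have hgp : act g p = N p + p := act_eq hF g p
  have hp0 : p ≠ 0 := fun e => hlp (by rw [e, zero_right hF])
  obtain ⟨t₁, ht₁⟩ := exists_pt hF (v := p) ⟨hp0, hp⟩
  obtain ⟨t₂, ht₂⟩ := exists_pt hF (v := act g p) ⟨fun e => hp0 (by rw [← act_act hF d.mul_self p, e]; exact Matrix.mulVec_zero _),
    by rw [act_form, hp]⟩
  have hperp : hh (act g p) p = 0 := by
    rw [hgp, add_left hF, (comm_zero hF).1 hpN, hp, add_zero]
  have hT : ∀ x, act (t₁ * t₂) x = x + hh x (act g p) • act g p + hh x p • p := fun x => by
    rw [act_mul, ht₂.2, ht₁.2, add_left hF, smul_left hF, hperp, mul_zero, add_zero]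
  set c := hh l p with hcd
  refine ⟨t₁ * t₂, c • p, act_ext fun x => ?_, ?_, ?_⟩
  · rw [act_mul (t₁ * t₂) g, act_mul g (t₁ * t₂), hT, hT, act_add, act_add, act_smul, act_smul, act_act hF d.mul_self,
      adj hF d.mul_self x p, adj hF d.mul_self x (act g p), act_act hF d.mul_self]
    abel
  · rw [hT, hgp, add_right hF, ← hadj l p, hNl, zero_left hF, zero_add, ← hcd, map_smul, smul_add, add_assoc,
      add_assoc, vadd_self hF, add_zero]
  · rw [smul_right hF, ← hcd]
    linear_combination cube_eq_one hF hlp

/-- At most sixteen elements fix the line pointwise. -/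
theorem card_stab_le : Nat.card {x : SU4 // ∀ l, act g l = l → act x l = l} ≤ 16 := by
  classical
  obtain ⟨b, hb⟩ : ∃ b, nmap g b ≠ 0 := by
    by_contra hc
    simp only [not_exists, not_not] at hc
    have h := d.rank
    rw [show nmap g = 0 from LinearMap.ext hc, LinearMap.range_zero, finrank_bot] at h
    omega
  obtain ⟨k, hind⟩ : ∃ k, ∀ x y : F, x • nmap g b + y • nmap g k = 0 → x = 0 ∧ y = 0 := by
    obtain ⟨⟨w, k, rfl⟩, hw⟩ := exists_linearIndependent_pair_of_one_lt_finrank
      (R := F) (M := ↥(LinearMap.range (nmap g))) (by rw [d.rank]; norm_num)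
      (x := ⟨nmap g b, LinearMap.mem_range_self _ b⟩) (fun e => hb (congrArg Subtype.val e))
    exact ⟨k, fun x y h => LinearIndependent.pair_iff.1 hw x y (Subtype.ext h)⟩
  have hsplit := d.decompose hF hind
  have hmove : ∀ x : {x : SU4 // ∀ l, act g l = l → act x l = l}, ∀ v l, act g l = l →
      hh (act x.1 v + v) l = 0 := fun x v l hl => by
    rw [add_left hF]
    conv_lhs => arg 1; rw [← x.2 l hl, act_form]
    exact add_self hF _
  have hskew : ∀ (x : {x : SU4 // ∀ l, act g l = l → act x l = l}) (v w : V4),
      hh v (act x.1 w + w) = hh (act x.1 v + v) w := fun x v w => by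
    have hfix : act g (act x.1 v + v) = act x.1 v + v := by
      refine (nmap_eq_zero hF).1 (eq_zero_of_perp hF (exists_sigma hF).choose_spec fun y => ?_)
      rw [← nmap_adj hF d.mul_self]
      exact (comm_zero hF).1 (hmove x v _ ((nmap_eq_zero hF).1 (nmap_nmap hF d.mul_self y)))
    have h0 : hh (act x.1 v + v) (act x.1 w + w) = 0 := by
      refine (comm_zero hF).1 (hmove x w _ hfix)
    rw [add_left hF, add_right hF, add_right hF, act_form] at h0
    rw [add_right hF, add_left hF]
    linear_combination h0 - add_self hF (hh v w) - add_self hF (hh (act x.1 v) w)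
  have hdiag : ∀ (x : {x : SU4 // ∀ l, act g l = l → act x l = l}) (v : V4),
      hh (act x.1 v + v) v = 0 ∨ hh (act x.1 v + v) v = 1 := fun x v => by
    have h2 : hh (act x.1 v + v) v = hh (act x.1 v + v) v ^ 2 := by
      conv_lhs => rw [← hskew]
      exact conj_form hF (act x.1 v + v) v
    have h3 : hh (act x.1 v + v) v * (hh (act x.1 v + v) v - 1) = 0 := by linear_combination -h2
    rcases mul_eq_zero.1 h3 with h | h
    · exact .inl h
    · exact .inr (sub_eq_zero.1 h)
  let f : {x : SU4 // ∀ l, act g l = l → act x l = l} → {e : F // e = 0 ∨ e = 1} × {e : F // e = 0 ∨ e = 1} × F :=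
    fun x => (⟨_, hdiag x b⟩, ⟨_, hdiag x k⟩, hh (act x.1 b + b) k)
  have hinj : Function.Injective f := by
    intro x y h
    simp only [f, Prod.mk.injEq, Subtype.mk.injEq] at h
    obtain ⟨h1, h2, h3⟩ := h
    have h4 : hh (act x.1 k + k) b = hh (act y.1 k + k) b := by
      rw [← hskew x k b, ← hskew y k b, conj_form hF (act x.1 b + b) k, conj_form hF (act y.1 b + b) k, h3]
    have heq : ∀ v, (v = b ∨ v = k) → act x.1 v = act y.1 v := fun v hv => by
      rw [← sub_eq_zero]
      refine eq_zero_of_perp hF (exists_sigma hF).choose_spec fun w => (comm_zero hF).1 ?_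
      obtain ⟨a, a', hw⟩ := hsplit w
      have key : hh (act x.1 v + v) w = hh (act y.1 v + v) w := by
        have e1 := hmove x v _ hw
        have e2 := hmove y v _ hw
        rw [add_right hF (act x.1 v + v), add_right hF (act x.1 v + v), smul_right hF, smul_right hF] at e1
        rw [add_right hF (act y.1 v + v), add_right hF (act y.1 v + v), smul_right hF, smul_right hF] at e2
        rcases hv with rfl | rfl
        · rw [h1, h3] at e1
          linear_combination e1 - e2
        · rw [h4, h2] at e1
          linear_combination e1 - e2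
      rw [add_left hF, add_left hF, add_left_inj] at key
      rw [CfsgLib.PSUAut.hsub_left hF (exists_sigma hF).choose_spec, key, sub_self]
    refine Subtype.ext (act_ext fun v => ?_)
    obtain ⟨a, a', hv⟩ := hsplit v
    have e1 := (x.2 _ hv).trans (y.2 _ hv).symm
    rw [act_add, act_add, act_add, act_add, act_smul, act_smul, act_smul, act_smul, heq b (.inl rfl),
      heq k (.inr rfl)] at e1
    exact add_right_cancel e1
  refine (Nat.card_le_card_of_injective f hinj).trans ?_
  rw [Nat.card_prod, Nat.card_prod, Nat.card_eq_fintype_card (α := F), hF]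
  have h2 : Nat.card {e : F // e = 0 ∨ e = 1} ≤ 2 := by
    rw [Nat.card_eq_fintype_card, Fintype.card_subtype]
    refine (Finset.card_le_card (t := ({0, 1} : Finset F)) fun e he => ?_).trans Finset.card_le_two
    simpa using he
  nlinarith

end Deep

end CfsgLib.USixType
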