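import Cfsg.Agent.Lib.USixType.Basic
import Cfsg.Agent.Lib.USixType.Rank

/-!
# The conjugates of `z` in its centraliser lie over transvections
-/

set_option autoImplicit false
set_option linter.unusedSectionVars false
set_option maxHeartbeats 1000000

namespace CfsgLib.USixType

open Cfsg CfsgLib.SURadical
open CfsgLib.PSUAut (Isot act act_mul act_one act_form act_smul act_add act_ext)
open CfsgLib.ThreeTransp (link)

namespace Model

variable {G : Type*} [Group G] {F : Type} [Field F] [Fintype F] {z : G} (m : Model z F)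

local notation "hh" => Cfsg.hermForm 4 F 2
set_option quotPrecheck false
local notation "Kr" => (MonoidHom.ker (Model.ρ m))

include m

theorem zz : z * z = 1 := by rw [← pow_two, ← m.ord, pow_orderOf_eq_one]

theorem z_ne : z ≠ 1 := fun h => by have := m.ord; rw [h, orderOf_one] at this; omega

theorem χ_one : m.χ 1 = 0 := (m.χ_ker 1).2 (.inl rfl)

theorem χ_inv (a : ↥Kr) : m.χ a⁻¹ = m.χ a := by
  have h := (m.χ_mul a a⁻¹).symm
  rw [mul_inv_cancel, m.χ_one] at h
  calc m.χ a⁻¹ = (m.χ a + m.χ a) + m.χ a⁻¹ := by rw [vadd_self m.hF, zero_add]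
    _ = m.χ a := by rw [add_assoc, h, add_zero]

theorem χ_eq {a b : ↥Kr} (h : m.χ a = m.χ b) :
    ((a : ↥(Cz z)) : G) = ((b : ↥(Cz z)) : G) ∨ ((a : ↥(Cz z)) : G) = ((b : ↥(Cz z)) : G) * z := by
  have h1 : m.χ (b⁻¹ * a) = 0 := by rw [m.χ_mul, m.χ_inv, h, vadd_self m.hF]
  rcases (m.χ_ker _).1 h1 with e | e <;> simp only [Subgroup.coe_mul, Subgroup.coe_inv] at e
  · exact .inl (inv_mul_eq_one.1 e).symm
  · exact .inr (inv_mul_eq_iff_eq_mul.1 e)

theorem z_comm (c : ↥(Cz z)) : (c : G) * z = z * c := Subgroup.mem_centralizer_singleton_iff.1 c.2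

/-- `z` is the square of an element over a non-isotropic vector. -/
theorem exists_z : ∃ k : ↥Kr, ((k : ↥(Cz z)) : G) = z := by
  obtain ⟨v, hv⟩ : ∃ v, hh v v ≠ 0 := by
    refine ⟨Pi.single 0 1, ?_⟩
    rw [CfsgLib.Classical.hermForm_single_one (by norm_num), if_pos rfl]
    exact one_ne_zero
  obtain ⟨a, rfl⟩ := m.χ_surj v
  refine ⟨a * a, ?_⟩
  rcases (m.χ_ker (a * a)).1 (by rw [m.χ_mul, vadd_self m.hF]) with e | e
  · exact absurd ((m.χ_sq a).2 (Subtype.ext (Subtype.ext e))) hv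
  · exact e

/-- Elements over orthogonal vectors commute. -/
theorem comm_of_tr {a b : ↥Kr} (h : hh (m.χ a) (m.χ b) + hh (m.χ a) (m.χ b) ^ 2 = 0) : a * b = b * a := by
  have hsq : ∀ c : ↥Kr, (hh (m.χ c) (m.χ c) = 0 ∧ c * c = 1) ∨
      (hh (m.χ c) (m.χ c) = 1 ∧ ((c : ↥(Cz z)) : G) * (c : ↥(Cz z)) = z) := by
    intro c
    rcases norm_zero_or_one m.hF (m.χ c) with e | e
    · exact .inl ⟨e, (m.χ_sq c).1 e⟩
    · refine .inr ⟨e, ?_⟩
      rcases (m.χ_ker (c * c)).1 (by rw [m.χ_mul, vadd_self m.hF]) with e' | e'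
      · rw [(m.χ_sq c).2 (Subtype.ext (Subtype.ext e'))] at e
        exact absurd e zero_ne_one
      · exact e'
  have hab : hh (m.χ (a * b)) (m.χ (a * b)) = hh (m.χ a) (m.χ a) + hh (m.χ b) (m.χ b) := by
    rw [m.χ_mul, add_left m.hF, add_right m.hF, add_right m.hF, conj_form m.hF (m.χ a) (m.χ b)]
    linear_combination h
  have key : ((a * b * (a * b) : ↥Kr) : ↥(Cz z)) = ((a * a * (b * b) : ↥Kr) : ↥(Cz z)) := by
    refine Subtype.ext ?_
    simp only [Subgroup.coe_mul]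
    have h0 : (0 : F) ≠ 1 := zero_ne_one
    have h2 : (1 : F) + 1 = 0 := add_self m.hF 1
    rcases hsq a with ⟨ea, ea'⟩ | ⟨ea, ea'⟩ <;> rcases hsq b with ⟨eb, eb'⟩ | ⟨eb, eb'⟩ <;>
      rcases hsq (a * b) with ⟨ec, ec'⟩ | ⟨ec, ec'⟩ <;> rw [hab, ea, eb] at ec <;>
      simp only [add_zero, zero_add, h2] at ec <;>
      first
      | exact absurd ec h0
      | exact absurd ec.symm h0
      | (try have ea'' := congrArg (fun c : ↥Kr => ((c : ↥(Cz z)) : G)) ea'
         try have eb'' := congrArg (fun c : ↥Kr => ((c : ↥(Cz z)) : G)) eb'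
         try have ec'' := congrArg (fun c : ↥Kr => ((c : ↥(Cz z)) : G)) ec'
         simp only [Subgroup.coe_mul, Subgroup.coe_one] at *
         simp [*, m.zz])
  have key' : a * b * (a * b) = a * a * (b * b) := Subtype.ext key
  calc a * b = a⁻¹ * (a * a * (b * b)) * b⁻¹ := by group
    _ = b * a := by rw [← key']; group

section

variable (x : ↥(Cz z))

/-- The commutator with `x`. -/
def cm (b : ↥Kr) : ↥Kr := b * MulAut.conjNormal x b⁻¹

theorem cm_coe (b : ↥Kr) : (((m.cm x b : ↥Kr) : ↥(Cz z)) : G) =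
    ((b : ↥(Cz z)) : G) * (x : G) * (((b : ↥(Cz z)) : G))⁻¹ * (x : G)⁻¹ := by
  simp [cm, MulAut.conjNormal_apply, mul_assoc]

theorem χ_cm (b : ↥Kr) : m.χ (m.cm x b) = nmap (m.ρ x) (m.χ b) := by
  rw [cm, m.χ_mul, m.χ_equiv, m.χ_inv, nmap_apply, add_comm]

end

variable [Finite G]

/-- The other conjugates of `z` in the centraliser lie over transvections. -/
theorem pt (hw : m.Weak) : m.Pt := by
  classical
  intro x hx
  obtain ⟨hxc, hxz, -⟩ := hx
  obtain ⟨h, hh'⟩ := isConj_iff.1 (show IsConj z (x : G) from hxc)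
  set u : G := (x : G) with hu
  have huz : Commute u z := m.z_comm x
  have huu : u * u = 1 := by
    rw [← hh', show h * z * h⁻¹ * (h * z * h⁻¹) = h * (z * z) * h⁻¹ by group, m.zz, mul_one, mul_inv_cancel]
  have hui : u⁻¹ = u := inv_eq_of_mul_eq_one_right huu
  set t := m.ρ x with ht
  have ht1 : t ≠ 1 := fun e => hxz (hw ⟨x, e⟩ hxc)
  have htt : t * t = 1 := by rw [ht, ← map_mul, show x * x = 1 from Subtype.ext huu, map_one]
  refine (isPt_or_deep m.hF htt ht1).resolve_right fun dt => ?_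
  obtain ⟨zk, hzk⟩ := m.exists_z
  -- the other frame
  let InU : G → Prop := fun y => ∃ a : ↥Kr, ((a : ↥(Cz z)) : G) = h⁻¹ * y * h
  have InU_mul : ∀ {y y'}, InU y → InU y' → InU (y * y') := by
    rintro y y' ⟨a, ha⟩ ⟨b, hb⟩
    exact ⟨a * b, by rw [Subgroup.coe_mul, Subgroup.coe_mul, ha, hb]; group⟩
  have InU_inv : ∀ {y}, InU y → InU y⁻¹ := by
    rintro y ⟨a, ha⟩
    exact ⟨a⁻¹, by rw [Subgroup.coe_inv, Subgroup.coe_inv, ha]; group⟩
  have InU_u : InU u := ⟨zk, by rw [hzk, ← hh']; group⟩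
  have InU_comm : ∀ {y}, InU y → Commute y u := by
    rintro y ⟨a, ha⟩
    have h1 := m.z_comm (a : ↥(Cz z))
    rw [ha] at h1
    show y * u = u * y
    calc y * u = h * (h⁻¹ * y * h * z) * h⁻¹ := by rw [← hh']; group
      _ = u * y := by rw [h1, ← hh']; group
  have InU_conj : ∀ {c y}, Commute c u → InU y → InU (c * y * c⁻¹) := by
    rintro c y hc ⟨a, ha⟩
    have hk : h⁻¹ * c * h ∈ Cz z := Subgroup.mem_centralizer_singleton_iff.2 (by
      calc h⁻¹ * c * h * z = h⁻¹ * (c * u) * h := by rw [← hh']; group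
        _ = z * (h⁻¹ * c * h) := by rw [hc.eq, ← hh']; group)
    refine ⟨MulAut.conjNormal (⟨_, hk⟩ : ↥(Cz z)) a, ?_⟩
    simp only [MulAut.conjNormal_apply, Subgroup.coe_mul, Subgroup.coe_inv, ha]
    group
  have weakU : ∀ {y}, InU y → IsConj z y → y = u := by
    rintro y ⟨a, ha⟩ hy
    have h1 := hw a (hy.trans (isConj_iff.2 ⟨h⁻¹, by rw [ha]; group⟩))
    rw [ha] at h1
    calc y = h * (h⁻¹ * y * h) * h⁻¹ := by group
      _ = u := by rw [h1, hh']
  -- commutators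
  have hcm : ∀ b : ↥Kr, (((m.cm x b : ↥Kr) : ↥(Cz z)) : G) * u = ((b : ↥(Cz z)) : G) * u * ((b : ↥(Cz z)) : G)⁻¹ :=
    fun b => by rw [m.cm_coe, ← hu]; group
  have hcconj : ∀ b : ↥Kr, IsConj z ((((m.cm x b : ↥Kr) : ↥(Cz z)) : G) * u) := fun b => by
    rw [hcm]
    exact hxc.trans (isConj_iff.2 ⟨_, rfl⟩)
  have W : ∀ b : ↥Kr, InU (((m.cm x b : ↥Kr) : ↥(Cz z)) : G) → m.cm x b = 1 := fun b hb =>
    Subtype.ext (Subtype.ext (mul_eq_right.1 (weakU (InU_mul hb InU_u) (hcconj b))))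
  have hcm_sq : ∀ b, m.cm x b * m.cm x b = 1 := fun b => (m.χ_sq _).1 (by
    rw [m.χ_cm, range_perp m.hF htt])
  -- the centraliser of `u` in `J`
  have fix_of_comm : ∀ a : ↥Kr, Commute ((a : ↥(Cz z)) : G) u → act t (m.χ a) = m.χ a := fun a ha => by
    rw [ht, ← m.χ_equiv]
    refine congrArg m.χ (Subtype.ext (Subtype.ext ?_))
    simp only [MulAut.conjNormal_apply, Subgroup.coe_mul, Subgroup.coe_inv]
    rw [← hu, ← ha.eq, mul_inv_cancel_right]
  have rep : ∀ a : ↥Kr, act t (m.χ a) = m.χ a → ∃ b : ↥Kr,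
      ((a : ↥(Cz z)) : G) = ((m.cm x b : ↥Kr) : ↥(Cz z)) ∨ ((a : ↥(Cz z)) : G) = ((m.cm x b : ↥Kr) : ↥(Cz z)) * z := by
    intro a ha
    obtain ⟨y, hy⟩ := dt.exists_pre m.hF ha
    obtain ⟨b, rfl⟩ := m.χ_surj y
    exact ⟨b, m.χ_eq (by rw [m.χ_cm, ← ht, hy])⟩
  have comm_of_fix : ∀ a : ↥Kr, act t (m.χ a) = m.χ a → Commute ((a : ↥(Cz z)) : G) u := by
    intro a ha
    obtain ⟨b, hb⟩ := rep a ha
    have h1 : Commute (((m.cm x b : ↥Kr) : ↥(Cz z)) : G) u := by
      have h2 := congrArg (fun c : ↥Kr => ((c : ↥(Cz z)) : G)) (hcm_sq b)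
      simp only [Subgroup.coe_mul, Subgroup.coe_one] at h2
      set s := (((m.cm x b : ↥Kr) : ↥(Cz z)) : G) with hs
      have hsu : s * u * (s * u) = 1 := by
        rw [hs, hcm, show ((b : ↥(Cz z)) : G) * u * ((b : ↥(Cz z)) : G)⁻¹ * (((b : ↥(Cz z)) : G) * u * ((b : ↥(Cz z)) : G)⁻¹) =
          ((b : ↥(Cz z)) : G) * (u * u) * ((b : ↥(Cz z)) : G)⁻¹ by group, huu, mul_one, mul_inv_cancel]
      show s * u = u * s
      calc s * u = (s * u * (s * u)) * u⁻¹ * s⁻¹ := by group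
        _ = u * s := by rw [hsu, hui, inv_eq_of_mul_eq_one_right h2, one_mul]
    rcases hb with e | e <;> rw [e]
    · exact h1
    · exact h1.mul_left huz.symm
  -- `J` meets the other frame trivially
  have hD : ∀ d : ↥Kr, InU ((d : ↥(Cz z)) : G) → d = 1 := by
    intro d hd
    by_contra hd1
    by_cases hcz : IsConj z (u * z)
    · obtain ⟨b, e | e⟩ := rep d (fix_of_comm d (InU_comm hd))
      · exact hd1 ((Subtype.ext (Subtype.ext e)).trans (W b (by rwa [← e])))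
      · refine hd1 (Subtype.ext (Subtype.ext (mul_eq_right.1 (weakU (InU_mul hd InU_u) ?_))))
        rw [e, mul_assoc, ← huz.eq, ← mul_assoc, hcm]
        refine hcz.trans (isConj_iff.2 ⟨((b : ↥(Cz z)) : G), ?_⟩)
        have hbz : (((b : ↥(Cz z)) : G))⁻¹ * z = z * (((b : ↥(Cz z)) : G))⁻¹ :=
          ((show Commute _ _ from m.z_comm _).inv_left).eq
        calc ((b : ↥(Cz z)) : G) * (u * z) * (((b : ↥(Cz z)) : G))⁻¹
            = ((b : ↥(Cz z)) : G) * u * (z * (((b : ↥(Cz z)) : G))⁻¹) := by group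
          _ = _ := by rw [← hbz, ← mul_assoc]
    -- two elements moved to each other
    have step : ∀ d : ↥Kr, InU ((d : ↥(Cz z)) : G) → m.χ d ≠ 0 → ∃ (e β : ↥Kr) (T : ↥(Cfsg.SU 4 F 2)),
        InU ((e : ↥(Cz z)) : G) ∧ m.χ e = nmap t (m.χ β) ∧ act T (m.χ d) = m.χ d + nmap t (m.χ β) ∧
        hh (m.χ d) (m.χ β) = 1 ∧ ((e : ↥(Cz z)) : G) = ((m.cm x β : ↥Kr) : ↥(Cz z)) * z := by
      intro d hd hd0
      obtain ⟨T, y, hTt, hTd, hy⟩ := dt.exists_move m.hF (fix_of_comm d (InU_comm hd)) hd0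
      obtain ⟨β, rfl⟩ := m.χ_surj y
      obtain ⟨c, hc⟩ := m.surj T
      -- adjust the lift to centralise `u`
      have hq : m.ρ (c * x * c⁻¹ * x⁻¹) = 1 := by
        rw [map_mul, map_mul, map_mul, map_inv, map_inv, hc, ← ht, hTt]
        group
      set q : ↥Kr := ⟨_, hq⟩ with hqd
      have hqu : ((q : ↥(Cz z)) : G) * u = (c : G) * u * (c : G)⁻¹ := by
        show ((c * x * c⁻¹ * x⁻¹ : ↥(Cz z)) : G) * u = _
        simp only [Subgroup.coe_mul, Subgroup.coe_inv]
        rw [← hu]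
        group
      have hqfix : act t (m.χ q) = m.χ q := by
        have e1 : m.χ q = m.χ (MulAut.conjNormal x q⁻¹) := by
          refine congrArg m.χ (Subtype.ext (Subtype.ext ?_))
          simp only [MulAut.conjNormal_apply, Subgroup.coe_mul, Subgroup.coe_inv]
          rw [← hu, hui]
          have h1 : ((q : ↥(Cz z)) : G) * u * (((q : ↥(Cz z)) : G) * u) = 1 := by
            rw [hqu, show (c : G) * u * (c : G)⁻¹ * ((c : G) * u * (c : G)⁻¹) = (c : G) * (u * u) * (c : G)⁻¹ by group,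
              huu, mul_one, mul_inv_cancel]
          calc ((q : ↥(Cz z)) : G) = (((q : ↥(Cz z)) : G) * u * (((q : ↥(Cz z)) : G) * u)) * (u⁻¹ * ((q : ↥(Cz z)) : G)⁻¹ * u⁻¹) := by group
            _ = _ := by rw [h1, one_mul, hui]
        rw [m.χ_equiv, m.χ_inv] at e1
        exact e1.symm
      obtain ⟨b, hb⟩ := rep q hqfix
      have hqb : ((q : ↥(Cz z)) : G) = ((m.cm x b : ↥Kr) : ↥(Cz z)) := by
        refine hb.resolve_right fun e => hcz ?_
        have hbz : Commute (((b : ↥(Cz z)) : G))⁻¹ z := (show Commute _ _ from m.z_comm _).inv_left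
        refine hxc.trans (isConj_iff.2 ⟨((b : ↥(Cz z)) : G)⁻¹ * (c : G), ?_⟩)
        calc ((b : ↥(Cz z)) : G)⁻¹ * (c : G) * u * (((b : ↥(Cz z)) : G)⁻¹ * (c : G))⁻¹
            = ((b : ↥(Cz z)) : G)⁻¹ * ((c : G) * u * (c : G)⁻¹) * ((b : ↥(Cz z)) : G) := by group
          _ = ((b : ↥(Cz z)) : G)⁻¹ * (((m.cm x b : ↥Kr) : ↥(Cz z)) * z * u) * ((b : ↥(Cz z)) : G) := by rw [← hqu, e]
          _ = ((b : ↥(Cz z)) : G)⁻¹ * ((((b : ↥(Cz z)) : G) * u * ((b : ↥(Cz z)) : G)⁻¹) * z) * ((b : ↥(Cz z)) : G) := by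
              rw [mul_assoc _ z u, ← huz.eq, ← hcm]; group
          _ = u * ((((b : ↥(Cz z)) : G)⁻¹ * z) * ((b : ↥(Cz z)) : G)) := by group
          _ = u * z := by rw [hbz.eq, inv_mul_cancel_right]
      set c' : ↥(Cz z) := (b : ↥(Cz z))⁻¹ * c with hc'
      have hc'u : Commute (c' : G) u := by
        have h1 : (c : G) * u * (c : G)⁻¹ = ((b : ↥(Cz z)) : G) * u * ((b : ↥(Cz z)) : G)⁻¹ := by
          rw [← hqu, hqb, hcm]
        show (c' : G) * u = u * c'
        rw [hc', Subgroup.coe_mul, Subgroup.coe_inv]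
        calc ((b : ↥(Cz z)) : G)⁻¹ * (c : G) * u = ((b : ↥(Cz z)) : G)⁻¹ * ((c : G) * u * (c : G)⁻¹) * (c : G) := by group
          _ = _ := by rw [h1]; group
      have hc'T : m.ρ c' = T := by
        rw [hc', map_mul, map_inv, show m.ρ (b : ↥(Cz z)) = 1 from b.2, inv_one, one_mul, hc]
      refine ⟨MulAut.conjNormal c' d * d, β, T, ?_, ?_, hTd, hy, ?_⟩
      · simp only [Subgroup.coe_mul, MulAut.conjNormal_apply, Subgroup.coe_inv]
        exact InU_mul (InU_conj hc'u hd) hd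
      · rw [m.χ_mul, m.χ_equiv, hc'T, hTd, add_comm, ← add_assoc, vadd_self m.hF, zero_add]
      · have hχ : m.χ (MulAut.conjNormal c' d * d) = m.χ (m.cm x β) := by
          rw [m.χ_mul, m.χ_equiv, hc'T, hTd, add_comm, ← add_assoc, vadd_self m.hF, zero_add, m.χ_cm]
        refine (m.χ_eq hχ).resolve_left fun e => ?_
        have h1 : m.cm x β = 1 := W β (by
          rw [← e]
          simp only [Subgroup.coe_mul, MulAut.conjNormal_apply, Subgroup.coe_inv]
          exact InU_mul (InU_conj hc'u hd) hd)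
        have h2 : nmap t (m.χ β) = 0 := by rw [ht, ← m.χ_cm, h1, m.χ_one]
        have h3 := dt.perp_fixed m.hF (fix_of_comm d (InU_comm hd)) ((nmap_eq_zero m.hF).1 h2)
        rw [hy] at h3
        exact one_ne_zero h3
    have hd0 : m.χ d ≠ 0 := fun e => by
      rcases (m.χ_ker d).1 e with e' | e'
      · exact hd1 (Subtype.ext (Subtype.ext e'))
      · exact hxz (weakU (e' ▸ hd) (IsConj.refl z)).symm
    obtain ⟨d₁, β₁, T₁, hU₁, hχ₁, -, hy₁, he₁⟩ := step d hd hd0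
    have hd₁0 : m.χ d₁ ≠ 0 := fun e => by
      rw [hχ₁] at e
      have h3 := dt.perp_fixed m.hF (fix_of_comm d (InU_comm hd)) ((nmap_eq_zero m.hF).1 e)
      rw [hy₁] at h3
      exact one_ne_zero h3
    obtain ⟨d₂, β₂, T₂, hU₂, hχ₂, hT₂, hy₂, he₂⟩ := step d₁ hU₁ hd₁0
    have htr : hh (m.χ β₁) (m.χ (m.cm x β₂)) + hh (m.χ β₁) (m.χ (m.cm x β₂)) ^ 2 = 0 := by
      rw [m.χ_cm, ← ht, ← nmap_adj m.hF htt, ← hχ₁, hy₂]
      linear_combination add_self m.hF (1 : F)
    have c1 := m.comm_of_tr htr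
    have c2 : m.cm x β₁ * m.cm x β₂ = m.cm x β₂ * m.cm x β₁ := m.comm_of_tr (by
      rw [m.χ_cm, m.χ_cm, range_perp m.hF htt]
      simp)
    have hprod : (((m.cm x (β₁ * β₂) : ↥Kr) : ↥(Cz z)) : G) = ((d₁ : ↥(Cz z)) : G) * ((d₂ : ↥(Cz z)) : G) := by
      have c1' := congrArg (fun c : ↥Kr => ((c : ↥(Cz z)) : G)) c1
      have c2' := congrArg (fun c : ↥Kr => ((c : ↥(Cz z)) : G)) c2
      simp only [Subgroup.coe_mul] at c1' c2'
      rw [he₁, he₂]
      set s₁ := (((m.cm x β₁ : ↥Kr) : ↥(Cz z)) : G) with hs₁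
      set s₂ := (((m.cm x β₂ : ↥Kr) : ↥(Cz z)) : G) with hs₂
      have e : (((m.cm x (β₁ * β₂) : ↥Kr) : ↥(Cz z)) : G) =
          ((β₁ : ↥(Cz z)) : G) * s₂ * ((β₁ : ↥(Cz z)) : G)⁻¹ * s₁ := by
        rw [hs₁, hs₂, m.cm_coe, m.cm_coe, m.cm_coe, Subgroup.coe_mul, Subgroup.coe_mul]
        group
      rw [e, c1', mul_inv_cancel_right, ← c2', mul_assoc s₁ z, ← mul_assoc z s₂, ← m.z_comm, ← hs₂, mul_assoc s₂,
        m.zz, mul_one]
    have h1 := W (β₁ * β₂) (by rw [hprod]; exact InU_mul hU₁ hU₂)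
    have h2 : m.χ d₁ + m.χ d₂ = 0 := by
      rw [← m.χ_mul, m.χ_ker]
      left
      rw [Subgroup.coe_mul, Subgroup.coe_mul, ← hprod, h1]
      rfl
    have h3 : act T₂ (m.χ d₁) = 0 := by rw [hT₂, ← hχ₂, h2]
    refine hd₁0 ?_
    have h4 := congrArg (act T₂⁻¹) h3
    rw [← act_mul, inv_mul_cancel, act_one] at h4
    rw [h4]
    exact Matrix.mulVec_zero _
  -- the frame of the other involution embeds into the stabiliser of the line
  set v : G := h⁻¹ * z * h with hv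
  have hvC : v ∈ Cz z := Subgroup.mem_centralizer_singleton_iff.2 (by
    calc h⁻¹ * z * h * z = h⁻¹ * (z * u) * h := by rw [← hh']; group
      _ = z * (h⁻¹ * z * h) := by rw [← huz.eq, ← hh']; group)
  set xv : ↥(Cz z) := ⟨v, hvC⟩ with hxv
  have hv1 : m.ρ xv ≠ 1 := fun e => hxz (by
    have h1 : v = z := hw ⟨xv, e⟩ (isConj_iff.2 ⟨h⁻¹, show h⁻¹ * z * h⁻¹⁻¹ = v by rw [hv]; group⟩)
    calc u = h * z * h⁻¹ := hh'.symm
      _ = h * v * h⁻¹ := by rw [h1]
      _ = z := by rw [hv]; group)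
  have hvv : m.ρ xv * m.ρ xv = 1 := by
    rw [← map_mul, show xv * xv = 1 from Subtype.ext (by
      show h⁻¹ * z * h * (h⁻¹ * z * h) = 1
      rw [show h⁻¹ * z * h * (h⁻¹ * z * h) = h⁻¹ * (z * z) * h by group, m.zz]
      group), map_one]
  -- lifts of vectors commuting with `v`
  let Com : (Fin 4 → F) → Prop := fun y => ∀ a : ↥Kr, m.χ a = y → Commute ((a : ↥(Cz z)) : G) v
  have hflip : ∀ a a' : ↥Kr, m.χ a = m.χ a' → Commute ((a : ↥(Cz z)) : G) v → Commute ((a' : ↥(Cz z)) : G) v := by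
    intro a a' e hc
    rcases m.χ_eq e.symm with e' | e' <;> rw [e']
    · exact hc
    · exact hc.mul_left (show Commute z v from (m.z_comm xv).symm)
  have hbad : ∀ a : ↥Kr, act (m.ρ xv) (m.χ a) = m.χ a → ¬ Commute ((a : ↥(Cz z)) : G) v →
      v * ((a : ↥(Cz z)) : G) * v⁻¹ = ((a : ↥(Cz z)) : G) * z := by
    intro a ha hn
    have h1 : m.χ (MulAut.conjNormal xv a) = m.χ a := by rw [m.χ_equiv, ha]
    rcases m.χ_eq h1 with e | e <;> simp only [MulAut.conjNormal_apply, Subgroup.coe_mul, Subgroup.coe_inv] at e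
    · exact absurd (mul_inv_eq_iff_eq_mul.1 e).symm hn
    · exact e
  have h32 : 32 ≤ Nat.card {a : ↥Kr // Commute ((a : ↥(Cz z)) : G) v} := by
    have h16 : 16 ≤ Nat.card {y : Fin 4 → F // Com y} := by
      rcases isPt_or_deep m.hF hvv hv1 with ⟨w, hw'⟩ | dv
      swap
      · rw [← dv.card_fixed m.hF]
        refine Nat.card_le_card_of_injective (fun y => ⟨y.1, fun a ha => ?_⟩) fun y y' e => Subtype.ext (by
          simpa using e)
        obtain ⟨b, hb⟩ := dv.exists_pre m.hF y.2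
        obtain ⟨β, rfl⟩ := m.χ_surj b
        refine hflip (m.cm xv β) a (by rw [m.χ_cm, hb, ha]) ?_
        by_contra hn
        have h1 := hbad (m.cm xv β) (by rw [m.χ_cm, hb]; exact y.2) hn
        have h2 : m.cm xv β * m.cm xv β = 1 := (m.χ_sq _).1 (by rw [m.χ_cm, range_perp m.hF hvv])
        have h2' := congrArg (fun c : ↥Kr => ((c : ↥(Cz z)) : G)) h2
        simp only [Subgroup.coe_mul, Subgroup.coe_one] at h2'
        rw [m.cm_coe] at h1 h2'
        simp only [hxv] at h1 h2'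
        have hvi : v⁻¹ = v := inv_eq_of_mul_eq_one_right (congrArg Subtype.val
          (show xv * xv = 1 from Subtype.ext (by
            show h⁻¹ * z * h * (h⁻¹ * z * h) = 1
            rw [show h⁻¹ * z * h * (h⁻¹ * z * h) = h⁻¹ * (z * z) * h by group, m.zz]
            group)))
        set s := ((β : ↥(Cz z)) : G) * v * ((β : ↥(Cz z)) : G)⁻¹ * v⁻¹ with hs
        have hvv' : v * v = 1 := by nth_rewrite 2 [← hvi]; exact mul_inv_cancel v
        have hsv : v * s * v⁻¹ = s⁻¹ :=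
          calc v * s * v⁻¹ = v * ((β : ↥(Cz z)) : G) * v⁻¹ * ((β : ↥(Cz z)) : G)⁻¹ := by
                rw [hs, hvi, show v * (((β : ↥(Cz z)) : G) * v * ((β : ↥(Cz z)) : G)⁻¹ * v) * v =
                  v * ((β : ↥(Cz z)) : G) * v * ((β : ↥(Cz z)) : G)⁻¹ * (v * v) by group, hvv', mul_one]
            _ = s⁻¹ := by rw [hs]; group
        rw [hsv, inv_eq_of_mul_eq_one_right h2'] at h1
        exact m.z_ne (left_eq_mul.1 h1)
      · -- half of a hyperplane
        let P : Type := {y : Fin 4 → F // hh y w = 0}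
        have hP : 64 ≤ Nat.card P := by
          obtain ⟨σ, hσ⟩ := exists_sigma m.hF
          have h1 := (CfsgLib.PSUAut.lin m.hF hσ w).finrank_range_add_finrank_ker
          have h2 := Submodule.finrank_le (LinearMap.range (CfsgLib.PSUAut.lin m.hF hσ w))
          rw [Module.finrank_fin_fun] at h1
          rw [Module.finrank_self] at h2
          have h3 : Nat.card P = Nat.card ↥(LinearMap.ker (CfsgLib.PSUAut.lin m.hF hσ w)) :=
            Nat.card_congr (Equiv.subtypeEquivRight fun y => by simp only [LinearMap.mem_ker, CfsgLib.PSUAut.lin_apply])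
          rw [h3, Module.natCard_eq_pow_finrank (K := F), Nat.card_eq_fintype_card, m.hF]
          calc 64 = (2 ^ 2) ^ 3 := by norm_num
            _ ≤ _ := Nat.pow_le_pow_right (by norm_num) (by omega)
        have hfixP : ∀ y : P, act (m.ρ xv) y.1 = y.1 := fun y => hw'.act_of_perp y.2
        by_cases hall : ∀ y : P, Com y.1
        · have := Nat.card_le_card_of_injective (fun y : P => (⟨y.1, hall y⟩ : {y // Com y}))
            fun y y' e => Subtype.ext (by simpa using e)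
          omega
        simp only [not_forall] at hall
        obtain ⟨e₀, he₀⟩ := hall
        let g : {y : P // ¬ Com y.1} → {y : P // Com y.1} := fun y =>
          ⟨⟨y.1.1 + e₀.1, by rw [add_left m.hF, y.1.2, e₀.2, add_zero]⟩, by
            intro a ha
            have hn := y.2
            have hn₀ := he₀
            simp only [Com, not_forall] at hn hn₀
            obtain ⟨a₁, ha₁, hn⟩ := hn
            obtain ⟨a₀, ha₀, hn₀⟩ := hn₀
            refine hflip (a₁ * a₀) a (by rw [m.χ_mul, ha₁, ha₀, ha]) ?_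
            have e1 := hbad a₁ (by rw [ha₁]; exact hfixP y.1) hn
            have e2 := hbad a₀ (by rw [ha₀]; exact hfixP e₀) hn₀
            rw [Subgroup.coe_mul, Subgroup.coe_mul]
            refine (mul_inv_eq_iff_eq_mul.1 (?_ : v * (((a₁ : ↥(Cz z)) : G) * ((a₀ : ↥(Cz z)) : G)) * v⁻¹ =
              ((a₁ : ↥(Cz z)) : G) * ((a₀ : ↥(Cz z)) : G))).symm
            calc _ = (v * ((a₁ : ↥(Cz z)) : G) * v⁻¹) * (v * ((a₀ : ↥(Cz z)) : G) * v⁻¹) := by group
              _ = ((a₁ : ↥(Cz z)) : G) * ((z * ((a₀ : ↥(Cz z)) : G)) * z) := by rw [e1, e2]; group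
              _ = _ := by rw [← m.z_comm, mul_assoc _ z z, m.zz, mul_one]⟩
        have hg : Function.Injective g := fun y y' e => by
          have h1 : y.1.1 + e₀.1 = y'.1.1 + e₀.1 := congrArg (fun s => s.1.1) e
          exact Subtype.ext (Subtype.ext (add_right_cancel h1))
        have h1 := Nat.card_le_card_of_injective g hg
        have h2 : Nat.card P = Nat.card {y : P // Com y.1} + Nat.card {y : P // ¬ Com y.1} := by
          rw [← Nat.card_sum]
          exact Nat.card_congr (Equiv.sumCompl _).symm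
        have h3 := Nat.card_le_card_of_injective (fun y : {y : P // Com y.1} => (⟨y.1.1, y.2⟩ : {y // Com y}))
          fun y y' e => Subtype.ext (Subtype.ext (by simpa using e))
        omega
    choose lift hlift using m.χ_surj
    let f : Bool × {y : Fin 4 → F // Com y} → {a : ↥Kr // Commute ((a : ↥(Cz z)) : G) v} := fun p =>
      ⟨bif p.1 then lift p.2.1 * zk else lift p.2.1, by
        have h1 := p.2.2 _ (hlift p.2.1)
        cases p.1
        · exact h1
        · show Commute (((lift p.2.1 * zk : ↥Kr) : ↥(Cz z)) : G) v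
          rw [Subgroup.coe_mul, Subgroup.coe_mul, hzk]
          exact h1.mul_left (show Commute z v from (m.z_comm xv).symm)⟩
    have hf : Function.Injective f := by
      rintro ⟨b, y⟩ ⟨b', y'⟩ e
      have e' := congrArg Subtype.val e
      have hy : y = y' := Subtype.ext (by
        have h2 := congrArg m.χ e'
        have hz0 : m.χ zk = 0 := (m.χ_ker zk).2 (.inr hzk)
        cases b <;> cases b' <;> simpa [f, m.χ_mul, hlift, hz0] using h2)
      subst hy
      have hz1 : zk ≠ 1 := fun e1 => m.z_ne (hzk.symm.trans (congrArg (fun c : ↥Kr => ((c : ↥(Cz z)) : G)) e1))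
      cases b <;> cases b' <;> simp [f] at e' ⊢ <;> exact hz1 e'
    have h1 := Nat.card_le_card_of_injective f hf
    rw [Nat.card_prod, Nat.card_eq_fintype_card (α := Bool), Fintype.card_bool] at h1
    omega
  -- embed
  have hR : ∀ a : {a : ↥Kr // Commute ((a : ↥(Cz z)) : G) v},
      h * ((a.1 : ↥(Cz z)) : G) * h⁻¹ ∈ Cz z := fun a => Subgroup.mem_centralizer_singleton_iff.2 (by
    have hz' : z = h * v * h⁻¹ := by rw [hv]; group
    conv_lhs => arg 2; rw [hz']
    conv_rhs => arg 1; rw [hz']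
    calc h * ((a.1 : ↥(Cz z)) : G) * h⁻¹ * (h * v * h⁻¹) = h * (((a.1 : ↥(Cz z)) : G) * v) * h⁻¹ := by group
      _ = _ := by rw [a.2.eq]; group)
  let r : {a : ↥Kr // Commute ((a : ↥(Cz z)) : G) v} → {y : ↥(Cfsg.SU 4 F 2) // ∀ l, act t l = l → act y l = l} :=
    fun a => ⟨m.ρ ⟨_, hR a⟩, fun l hl => by
      obtain ⟨p, rfl⟩ := m.χ_surj l
      set c : ↥(Cz z) := ⟨_, hR a⟩ with hc
      have hcU : InU (c : G) := ⟨a.1, by show _ = h⁻¹ * (h * _ * h⁻¹) * h; group⟩
      rw [← m.χ_equiv]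
      refine congrArg m.χ (mul_inv_eq_one.1 (hD (MulAut.conjNormal c p * p⁻¹) ?_))
      simp only [Subgroup.coe_mul, MulAut.conjNormal_apply, Subgroup.coe_inv]
      rw [show (c : G) * ((p : ↥(Cz z)) : G) * (c : G)⁻¹ * ((p : ↥(Cz z)) : G)⁻¹ =
        (c : G) * (((p : ↥(Cz z)) : G) * (c : G)⁻¹ * ((p : ↥(Cz z)) : G)⁻¹) by group]
      exact InU_mul hcU (InU_conj (comm_of_fix p hl) (InU_inv hcU))⟩
  have hr : Function.Injective r := by
    intro a a' e
    have e' : m.ρ ((⟨_, hR a⟩ : ↥(Cz z))⁻¹ * ⟨_, hR a'⟩) = 1 := by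
      rw [map_mul, map_inv, show m.ρ ⟨_, hR a⟩ = m.ρ ⟨_, hR a'⟩ from congrArg Subtype.val e, inv_mul_cancel]
    have h1 := hD ⟨_, e'⟩ ⟨a.1⁻¹ * a'.1, by simp [mul_assoc]⟩
    have h2 : h * ((a.1 : ↥(Cz z)) : G)⁻¹ * ((a'.1 : ↥(Cz z)) : G) * h⁻¹ = 1 := by
      have := congrArg (fun c : ↥Kr => ((c : ↥(Cz z)) : G)) h1
      simpa [mul_assoc] using this
    refine Subtype.ext (Subtype.ext (Subtype.ext (inv_mul_eq_one.1 ?_)))
    calc ((a.1 : ↥(Cz z)) : G)⁻¹ * ((a'.1 : ↥(Cz z)) : G)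
        = h⁻¹ * (h * ((a.1 : ↥(Cz z)) : G)⁻¹ * ((a'.1 : ↥(Cz z)) : G) * h⁻¹) * h := by group
      _ = 1 := by rw [h2]; group
  have h1 := (Nat.card_le_card_of_injective r hr).trans (dt.card_stab_le m.hF)
  omega

end Model

end CfsgLib.USixType
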