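import Cfsg.Agent.Lib.USixType.Fields
import Cfsg.Agent.Lib.USixType.Rank
import Cfsg.Agent.Lib.USixType.DeepSplit
import Cfsg.Agent.Lib.U6Central.Connected

/-!
# The shapes of the involutions commuting with `z`
-/

set_option autoImplicit false
set_option linter.unusedSectionVars false
set_option maxHeartbeats 800000

open scoped Classical

namespace CfsgLib.USixType

open CfsgLib.PSUAut (Isot act act_mul act_one)
open CfsgLib.SURadical (IsPt)
open CfsgLib.ThreeTransp (link)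
open Subgroup

variable {G : Type*} [Group G] [Finite G] {z : G} {F : Type} [Field F] [Fintype F]

/-- The fields as a `Base`. -/
def Fused.base {m : Model z F} (h : Fused m) : CfsgLib.U6Central.Base z F where
  hF := m.hF
  sq := m.z_sq
  ne := m.z_ne_one
  π := m.ρ
  ker_two := m.isPGroup_ker
  pt := h.pt
  lifts := h.lifts
  comm := h.comm
  mul_notMem := h.mul_notMem
  faithful := h.faithful

namespace Model

variable (m : Model z F) (hw : m.Weak) (hp : m.Pt)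

local notation "H4" => Cfsg.hermForm 4 F 2

include hw hp

/-- The two other conjugates over the same transvection. -/
theorem exists_compl {b b' : ↥(Cz z)} (hb : (b : G) ∈ link (conjugatesOf z) z)
    (hb' : (b' : G) ∈ link (conjugatesOf z) z) (he : m.ρ b = m.ρ b') (hne : b ≠ b') :
    ∃ f g : ↥(Cz z), (f : G) ∈ link (conjugatesOf z) z ∧ (g : G) ∈ link (conjugatesOf z) z ∧ f ≠ g ∧
      m.ρ f = m.ρ b ∧ m.ρ g = m.ρ b ∧ (f : G) * g = (b : G) * b' * z ∧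
      ∀ x : ↥(Cz z), (x : G) ∈ link (conjugatesOf z) z → m.ρ x = m.ρ b → x = b ∨ x = b' ∨ x = f ∨ x = g := by
  obtain ⟨p, hbp⟩ := hp b hb
  set S := {x : ↥(Cz z) | (x : G) ∈ link (conjugatesOf z) z ∧ m.ρ x = m.ρ b}
  have hS : S.ncard = 4 := m.lifts_of hw hp ⟨_, hb⟩ _ p hbp
  have hsub : ({b, b'} : Set ↥(Cz z)) ⊆ S := by
    rintro x (rfl | rfl)
    · exact ⟨hb, rfl⟩
    · exact ⟨hb', he.symm⟩
  have h2 : (S \ {b, b'}).ncard = 2 := by rw [Set.ncard_sdiff hsub, hS, Set.ncard_pair hne]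
  obtain ⟨f, g, hfg, hfgS⟩ := Set.ncard_eq_two.1 h2
  obtain ⟨⟨hf, hfi⟩, hf'⟩ : f ∈ S \ {b, b'} := by rw [hfgS]; simp
  obtain ⟨⟨hg, hgi⟩, hg'⟩ : g ∈ S \ {b, b'} := by rw [hfgS]; simp
  simp only [Set.mem_insert_iff, Set.mem_singleton_iff, not_or] at hf' hg'
  have hl4 := m.line_of hw hp hb hb' hf hg
    (by simp [hne, Ne.symm hf'.1, Ne.symm hg'.1, Ne.symm hf'.2, Ne.symm hg'.2, hfg]) he hfi.symm hgi.symm
  have hc : Commute (b : G) (b' : G) := m.comm_of hw hp b b' hb hb' (by rw [he])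
  refine ⟨f, g, hf, hg, hfg, hfi, hgi, ?_, fun x hx hxi => ?_⟩
  swap
  · by_cases hxb : x ∈ ({b, b'} : Set ↥(Cz z))
    · rcases hxb with h | h
      · exact .inl h
      · exact .inr (.inl h)
    · have hxS : x ∈ S \ {b, b'} := ⟨⟨hx, hxi⟩, hxb⟩
      rw [hfgS] at hxS
      rcases hxS with h | h
      · exact .inr (.inr (.inl h))
      · exact .inr (.inr (.inr h))
  calc (f : G) * g = ((b' : G) * ((b : G) * b) * b') * ((f : G) * g) := by
        rw [m.uu hb, mul_one, m.uu hb', one_mul]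
    _ = ((b' : G) * b) * ((b : G) * b' * f * g) := by group
    _ = _ := by rw [hl4, hc.eq]

/-- An involution of the kernel. -/
theorem ker_shape (hne : ∃ x, x ∈ link (conjugatesOf z) z) {a : ↥m.ρ.ker}
    (ha : ((a : ↥(Cz z)) : G) * ((a : ↥(Cz z)) : G) = 1) :
    ((a : ↥(Cz z)) : G) = 1 ∨ ((a : ↥(Cz z)) : G) = z ∨
      ∃ b b' : ↥(Cz z), (b : G) ∈ link (conjugatesOf z) z ∧ (b' : G) ∈ link (conjugatesOf z) z ∧
        m.ρ b = m.ρ b' ∧ b ≠ b' ∧ IsPt (m.ρ b) (m.χ a) ∧ ((a : ↥(Cz z)) : G) = (b : G) * b' := by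
  by_cases h0 : m.χ a = 0
  · rcases (m.χ_ker a).1 h0 with e | e
    · exact .inl e
    · exact .inr (.inl e)
  refine .inr (.inr ?_)
  have hiso : Isot 2 (m.χ a) := ⟨h0, (m.sq_val_iff a).2 ha⟩
  obtain ⟨t, ht⟩ := CfsgLib.SURadical.exists_pt m.hF hiso
  obtain ⟨u, hu, rfl⟩ := m.exists_point_lift hw hp hne ht
  obtain ⟨σ, hσ⟩ := CfsgLib.SURadical.exists_sigma m.hF
  obtain ⟨y₀, hy₀⟩ := CfsgLib.PSUAut.exists_partner m.hF hσ h0
  obtain ⟨a₀, rfl⟩ := m.χ_surj y₀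
  have hcu : m.χ (m.cu u a₀) = m.χ a := by rw [m.chi_cu ht, hy₀, one_smul]
  have hne' : u ≠ u * (m.cu u a₀ : ↥(Cz z)) := fun e => h0 (by
    rw [← hcu, (m.χ_ker _).2 (.inl ?_)]
    have e' := congrArg (fun x : ↥(Cz z) => (x : G)) e
    simp only [Subgroup.coe_mul] at e'
    exact mul_eq_left.1 e'.symm)
  have hρ : m.ρ (u * (m.cu u a₀ : ↥(Cz z))) = m.ρ u := by
    rw [map_mul, show m.ρ (m.cu u a₀ : ↥(Cz z)) = 1 from (m.cu u a₀).2, mul_one]
  have hval : (u : G) * ((u * (m.cu u a₀ : ↥(Cz z)) : ↥(Cz z)) : G) = ((m.cu u a₀ : ↥(Cz z)) : G) := by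
    rw [Subgroup.coe_mul, ← mul_assoc, m.uu hu, one_mul]
  rcases m.eq_of_chi hcu with e | e
  · exact ⟨u, _, hu, m.cu_link hu _, hρ.symm, hne', ht, by rw [e, hval]⟩
  · obtain ⟨f, g, hf, hg, hfg, hfi, hgi, hfgv, -⟩ := m.exists_compl hw hp hu (m.cu_link hu a₀) hρ.symm hne'
    exact ⟨f, g, hf, hg, hfi.trans hgi.symm, hfg, hfi.symm ▸ ht, by rw [e, hfgv, hval]⟩

theorem shape (hne : ∃ x, x ∈ link (conjugatesOf z) z) : (m.fused hw hp hne).base.Split := by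
  have himg : ∀ x : ↥(Cz z), (m.fused hw hp hne).base.img (x : G) = m.ρ x := fun x =>
    (m.fused hw hp hne).base.img_eq x.2
  intro w hw2 hw1 hwz
  set wc : ↥(Cz z) := ⟨w, mem_centralizer_singleton_iff.2 hwz.eq⟩
  have hwg : m.ρ wc * m.ρ wc = 1 := by rw [← map_mul, show wc * wc = 1 from Subtype.ext hw2, map_one]
  by_cases hρ1 : m.ρ wc = 1
  · rcases m.ker_shape hw hp hne (a := ⟨wc, hρ1⟩) hw2 with e | e | ⟨b, b', hb, hb', he, hbb, -, e⟩
    · exact absurd e hw1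
    · left
      rw [show w = z from e]
      exact IsConj.refl z
    · refine .inr (.inl ⟨b, b', hb.1, hb'.1, fun e' => hbb (Subtype.ext e'), ?_, e⟩)
      exact m.comm_of hw hp b b' hb hb' (by rw [he])
  rcases isPt_or_deep m.hF hwg hρ1 with ⟨p, hwp⟩ | hdeep
  · obtain ⟨u, hu, hue⟩ := m.exists_point_lift hw hp hne hwp
    have hup : IsPt (m.ρ u) p := hue ▸ hwp
    let a : ↥m.ρ.ker := ⟨u * wc, by
      rw [MonoidHom.mem_ker, map_mul, hue]
      exact hwg⟩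
    have haw : ((a : ↥(Cz z)) : G) = (u : G) * w := rfl
    have hcu : Commute ((a : ↥(Cz z)) : G) (u : G) := by
      refine m.comm_of_perp hu hup hw hp ?_
      have he : MulAut.conjNormal u a = a⁻¹ := Subtype.ext (Subtype.ext (by
        simp only [MulAut.conjNormal_apply, Subgroup.coe_mul, Subgroup.coe_inv, a, wc]
        rw [mul_inv_rev, inv_eq_of_mul_eq_one_right (m.uu hu), inv_eq_of_mul_eq_one_right hw2, ← mul_assoc,
          m.uu hu, one_mul]))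
      have h1 := m.χ_equiv u a
      rw [he, m.chi_inv, hup.2] at h1
      exact (smul_eq_zero.1 (add_eq_left.1 h1.symm)).resolve_right hup.1.1
    have hwu : w = (u : G) * ((a : ↥(Cz z)) : G) := by rw [haw, ← mul_assoc, m.uu hu, one_mul]
    have ha2 : ((a : ↥(Cz z)) : G) * ((a : ↥(Cz z)) : G) = 1 := by
      have h := hw2
      rw [hwu] at h
      calc ((a : ↥(Cz z)) : G) * ((a : ↥(Cz z)) : G)
          = ((u : G) * u) * (((a : ↥(Cz z)) : G) * ((a : ↥(Cz z)) : G)) := by rw [m.uu hu, one_mul]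
        _ = (u : G) * ((u : G) * ((a : ↥(Cz z)) : G)) * ((a : ↥(Cz z)) : G) := by group
        _ = (u : G) * (((a : ↥(Cz z)) : G) * (u : G)) * ((a : ↥(Cz z)) : G) := by rw [hcu.eq]
        _ = 1 := by rw [← h]; group
    rcases m.ker_shape hw hp hne ha2 with e | e | ⟨b, b', hb, hb', he, hbb, hbp, e⟩
    · left
      rw [hwu, e, mul_one]
      exact hu.1
    · refine .inr (.inl ⟨(u : G), z, hu.1, IsConj.refl z, hu.2.1, hu.2.2.symm, ?_⟩)
      rw [hwu, e]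
    have hperp : Commute (m.ρ u) (m.ρ b) := (hup.commute_iff m.hF hbp).2
      ((CfsgLib.SURadical.comm_zero m.hF).1 (m.perp_of_comm hup hcu.symm))
    have hub := m.comm_of hw hp u b hu hb hperp
    have hub' := m.comm_of hw hp u b' hu hb' (he ▸ hperp)
    have hbc : Commute (b : G) (b' : G) := m.comm_of hw hp b b' hb hb' (by rw [he])
    have hwe : w = (u : G) * ((b : G) * b') := by rw [hwu, e]
    by_cases hsame : m.ρ u = m.ρ b
    · by_cases hu1 : u = b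
      · left
        rw [hwe, hu1, ← mul_assoc, m.uu hb, one_mul]
        exact hb'.1
      by_cases hu2 : u = b'
      · left
        rw [hwe, hu2, hbc.eq, ← mul_assoc, m.uu hb', one_mul]
        exact hb.1
      obtain ⟨f, g, hf, hg, -, hfi, hgi, hfg, hcase⟩ := m.exists_compl hw hp hu hb hsame hu1
      have hfgc : Commute (f : G) (g : G) := m.comm_of hw hp f g hf hg (by rw [hfi, hgi])
      have hub_eq : (u : G) * b = (f : G) * g * z := by
        rw [hfg, mul_assoc, m.z_sq, mul_one]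
      have hv : ∃ x : ↥(Cz z), (x : G) ∈ link (conjugatesOf z) z ∧ w = z * (x : G) := by
        rcases hcase b' hb' (he.symm.trans hsame.symm) with h | h | h | h
        · exact absurd h.symm hu2
        · exact absurd h.symm hbb
        · refine ⟨g, hg, ?_⟩
          rw [hwe, ← mul_assoc, hub_eq, h, hfgc.eq, mul_assoc ((g : G) * f) z, ← (comm_z f).eq,
            show (g : G) * f * ((f : G) * z) = (g : G) * ((f : G) * f) * z by group, m.uu hf, mul_one, (comm_z g).eq]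
        · refine ⟨f, hf, ?_⟩
          rw [hwe, ← mul_assoc, hub_eq, h, mul_assoc ((f : G) * g) z, ← (comm_z g).eq,
            show (f : G) * g * ((g : G) * z) = (f : G) * ((g : G) * g) * z by group, m.uu hg, mul_one, (comm_z f).eq]
      obtain ⟨x, hx, hxe⟩ := hv
      exact .inr (.inl ⟨z, x, IsConj.refl z, hx.1, fun e' => hx.2.1 e'.symm, hx.2.2, hxe⟩)
    obtain ⟨f, g, hf, hg, hfg, hfi, hgi, hfgv, -⟩ := m.exists_compl hw hp hb hb' he hbb
    have hzw : z * w = (u : G) * f * g := by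
      rw [mul_assoc, hfgv, hwe, ← mul_assoc, hu.2.2.eq, mul_assoc, ← ((comm_z b).mul_left (comm_z b')).eq]
    refine .inr (.inr ⟨u, z, b, b', u, f, g, .inr hu, .inl rfl, ?_, hwz.symm, hb.1, hb'.1,
      fun e' => hbb (Subtype.ext e'), hbc, ?_, hu, hf, hg, ?_, fun e' => hfg (Subtype.ext e'), ?_, ?_, hzw⟩)
    · rw [hwe]
      exact (Commute.refl (u : G)).mul_right (hub.mul_right hub')
    · rw [hwe, ← mul_assoc, m.uu hu, one_mul]
    · rw [himg, himg, hfi, hgi]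
    · rw [himg, himg, hfi]; exact hperp
    · rw [himg, himg, hfi]; exact hsame
  obtain ⟨t, s, p, q, htp, hsq, hts, htne, hwts⟩ := hdeep.exists_split m.hF
  obtain ⟨u₁, hu₁, rfl⟩ := m.exists_point_lift hw hp hne htp
  obtain ⟨u₂, hu₂, rfl⟩ := m.exists_point_lift hw hp hne hsq
  have h12 := m.comm_of hw hp u₁ u₂ hu₁ hu₂ hts
  let a : ↥m.ρ.ker := ⟨u₂ * u₁ * wc, by
    rw [MonoidHom.mem_ker, map_mul, map_mul, ← hts.eq, ← hwts]
    exact hwg⟩
  have hwa : w = (u₁ : G) * u₂ * ((a : ↥(Cz z)) : G) := by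
    show w = (u₁ : G) * u₂ * ((u₂ : G) * u₁ * w)
    rw [show (u₁ : G) * u₂ * ((u₂ : G) * u₁ * w) = (u₁ : G) * ((u₂ : G) * u₂) * u₁ * w by group, m.uu hu₂,
      mul_one, m.uu hu₁, one_mul]
  have hfix : act (m.ρ wc) (m.χ a) = m.χ a := by
    have he : MulAut.conjNormal wc a = a⁻¹ := Subtype.ext (Subtype.ext (by
      simp only [MulAut.conjNormal_apply, Subgroup.coe_mul, Subgroup.coe_inv, a, wc]
      rw [inv_eq_of_mul_eq_one_right hw2, mul_inv_rev, mul_inv_rev, inv_eq_of_mul_eq_one_right hw2,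
        inv_eq_of_mul_eq_one_right (m.uu hu₁), inv_eq_of_mul_eq_one_right (m.uu hu₂), ← h12.eq]
      simp only [mul_assoc, hw2, mul_one]))
    have h1 := m.χ_equiv wc a
    rw [he, m.chi_inv] at h1
    exact h1.symm
  have hpq : ∀ x : F, q ≠ x • p := fun x e => htne (by
    have hx : x ≠ 0 := fun h => hsq.1.1 (by rw [e, h, zero_smul])
    exact (htp.smul m.hF hx).unique m.hF (e ▸ hsq))
  have hqp : H4 q p = 0 := (CfsgLib.SURadical.comm_zero m.hF).1 ((htp.commute_iff m.hF hsq).1 hts)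
  obtain ⟨f₀, f₁, Q⟩ := exists_quad_pair m.hF htp.1 hsq.1 hqp hpq
  rw [hwts, act_mul, hsq.2, htp.2, CfsgLib.SURadical.add_left m.hF, CfsgLib.SURadical.smul_left m.hF, hqp, mul_zero,
    add_zero, add_assoc, add_eq_left] at hfix
  obtain ⟨ha₀, ha₁⟩ : H4 (m.χ a) p = 0 ∧ H4 (m.χ a) q = 0 := by
    have k1 := congrArg (fun v => H4 v f₁) hfix
    have k2 := congrArg (fun v => H4 v f₀) hfix
    simp only [CfsgLib.SURadical.add_left m.hF, CfsgLib.SURadical.smul_left m.hF, CfsgLib.SURadical.zero_left m.hF,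
      CfsgLib.SURadical.comm_one m.hF Q.h₂, (CfsgLib.SURadical.comm_zero m.hF).1 Q.fe, mul_one, mul_zero,
      add_zero, CfsgLib.SURadical.comm_one m.hF Q.h₁, Q.ef, zero_add] at k1 k2
    exact ⟨k2, k1⟩
  have hexp := Q.expand m.hF (m.χ a)
  rw [ha₀, ha₁, zero_smul, zero_smul, add_zero, add_zero] at hexp
  obtain ⟨σ, hσ⟩ := CfsgLib.SURadical.exists_sigma m.hF
  obtain ⟨a₁, ha₁'⟩ := m.χ_surj (H4 (m.χ a) f₀ • f₀)
  obtain ⟨a₂, ha₂'⟩ := m.χ_surj (H4 (m.χ a) f₁ • f₁)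
  have hs1 : m.χ (m.cu u₁ a₁) = H4 (m.χ a) f₀ • p := by
    rw [m.chi_cu htp, ha₁', CfsgLib.SURadical.smul_left m.hF, Q.h₁, mul_one]
  have hs2 : m.χ (m.cu u₂ a₂) = H4 (m.χ a) f₁ • q := by
    rw [m.chi_cu hsq, ha₂', CfsgLib.SURadical.smul_left m.hF, Q.h₂, mul_one]
  have hsum : m.χ (m.cu u₁ a₁ * m.cu u₂ a₂) = m.χ a := by rw [m.χ_mul, hs1, hs2, ← hexp]
  set v₁ : ↥(Cz z) := u₁ * (m.cu u₁ a₁ : ↥(Cz z))
  set v₂ : ↥(Cz z) := u₂ * (m.cu u₂ a₂ : ↥(Cz z))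
  have hv₁ : (v₁ : G) ∈ link (conjugatesOf z) z := m.cu_link hu₁ _
  have hv₂ : (v₂ : G) ∈ link (conjugatesOf z) z := m.cu_link hu₂ _
  have hv₁ρ : m.ρ v₁ = m.ρ u₁ := by
    rw [map_mul, show m.ρ (m.cu u₁ a₁ : ↥(Cz z)) = 1 from (m.cu u₁ a₁).2, mul_one]
  have hv₂ρ : m.ρ v₂ = m.ρ u₂ := by
    rw [map_mul, show m.ρ (m.cu u₂ a₂ : ↥(Cz z)) = 1 from (m.cu u₂ a₂).2, mul_one]
  have hu₂v₁ := m.comm_of hw hp u₂ v₁ hu₂ hv₁ (hv₁ρ.symm ▸ hts.symm)
  have hprod : (u₁ : G) * u₂ * (((m.cu u₁ a₁ * m.cu u₂ a₂ : ↥m.ρ.ker) : ↥(Cz z)) : G) = (v₁ : G) * v₂ := by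
    have hcs : Commute (u₂ : G) ((m.cu u₁ a₁ : ↥(Cz z)) : G) := by
      have := h12.symm.mul_right hu₂v₁
      rwa [show (u₁ : G) * (v₁ : G) = ((m.cu u₁ a₁ : ↥(Cz z)) : G) by
        rw [Subgroup.coe_mul, ← mul_assoc, m.uu hu₁, one_mul]] at this
    simp only [v₁, v₂, Subgroup.coe_mul]
    rw [← mul_assoc, mul_assoc (u₁ : G), hcs.eq]
    group
  have hne12 : v₁ ≠ v₂ := fun e => htne (by rw [← hv₁ρ, e, hv₂ρ])
  have hv12 : Commute (v₁ : G) (v₂ : G) := m.comm_of hw hp v₁ v₂ hv₁ hv₂ (by rw [hv₁ρ, hv₂ρ]; exact hts)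
  rcases m.eq_of_chi hsum with e | e
  · exact .inr (.inl ⟨v₁, v₂, hv₁.1, hv₂.1, fun e' => hne12 (Subtype.ext e'), hv12, by rw [hwa, e, hprod]⟩)
  have hwe : w = (v₁ : G) * v₂ * z := by rw [hwa, e, ← mul_assoc, hprod]
  obtain ⟨e', he', hene⟩ := Set.exists_ne_of_one_lt_ncard
    (s := {x : ↥(Cz z) | (x : G) ∈ link (conjugatesOf z) z ∧ m.ρ x = m.ρ v₁})
    (by rw [m.lifts_of hw hp hne _ p (hv₁ρ.symm ▸ htp)]; norm_num) v₁
  obtain ⟨f, g, hf, hg, hfg, hfi, hgi, hfgv, -⟩ := m.exists_compl hw hp hv₁ he'.1 he'.2.symm hene.symm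
  have h12' := m.comm_of hw hp v₁ e' hv₁ he'.1 (by rw [he'.2])
  have hev2 : Commute (e' : G) (v₂ : G) := m.comm_of hw hp e' v₂ he'.1 hv₂ (by rw [he'.2, hv₁ρ, hv₂ρ]; exact hts)
  have hfv2 : Commute (f : G) (v₂ : G) := m.comm_of hw hp f v₂ hf hv₂ (by rw [hfi, hv₁ρ, hv₂ρ]; exact hts)
  have hgv2 : Commute (g : G) (v₂ : G) := m.comm_of hw hp g v₂ hg hv₂ (by rw [hgi, hv₁ρ, hv₂ρ]; exact hts)
  have hzz := m.z_sq
  refine .inr (.inr ⟨z, e', v₁, v₂, v₂, f, g, .inl rfl, .inr he'.1, hwz.symm, ?_, hv₁.1, hv₂.1,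
    fun e'' => hne12 (Subtype.ext e''), hv12, ?_, hv₂, hf, hg, ?_, fun e'' => hfg (Subtype.ext e''), ?_, ?_, ?_⟩)
  · rw [hwe]
    exact (h12'.symm.mul_right hev2).mul_right (comm_z e')
  · rw [hwe, ← mul_assoc z, ← (((comm_z v₁).mul_left (comm_z v₂))).eq, mul_assoc, hzz, mul_one]
  · rw [himg, himg, hfi, hgi]
  · rw [himg, himg, hfi, hv₁ρ, hv₂ρ]; exact hts.symm
  · rw [himg, himg, hfi, hv₁ρ, hv₂ρ]; exact fun e'' => htne e''.symm
  · rw [mul_assoc (v₂ : G), hfgv, hwe]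
    rw [show (e' : G) * ((v₁ : G) * v₂ * z) = (e' : G) * v₁ * v₂ * z by group, ← h12'.eq,
      (hv12.symm.mul_right hev2.symm).symm.eq]
    group

end Model

end CfsgLib.USixType
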