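import Cfsg.Agent.Lib.LargeFischer.Count

/-!
# Involutory isometries of a binary quadratic space that fix a plane

If a square of an isometry of order dividing four fixes a nondegenerate plane of an eight-dimensional space, it
moves onto a plane; a nonabelian group of order eight cannot fix a hyperplane of the fixed space of such an
involution.
-/

set_option autoImplicit false
set_option linter.unusedSectionVars false

namespace CfsgLib.USixType

open CfsgLib.LargeFischer (vadd_self q_add eq_of_vadd z2_cases polar_self_zero q_zero)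
open QuadraticMap

variable {V : Type*} [AddCommGroup V] [Module (ZMod 2) V] [Finite V] {q : QuadraticForm (ZMod 2) V}

theorem finrank_drop (N : Module.End (ZMod 2) V) (S : Submodule (ZMod 2) V) :
    Module.finrank (ZMod 2) ↥(S.map N) + Module.finrank (ZMod 2) ↥(S ⊓ LinearMap.ker N) =
      Module.finrank (ZMod 2) ↥S := by
  have h := (N.domRestrict S).finrank_range_add_finrank_ker
  rw [LinearMap.range_domRestrict, LinearMap.ker_domRestrict] at h
  have e : ((S ⊓ LinearMap.ker N).comap S.subtype) = (LinearMap.ker N).comap S.subtype := by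
    rw [Submodule.comap_inf, Submodule.comap_subtype_self, top_inf_eq]
  rw [← (Submodule.comapSubtypeEquivOfLe (p := S ⊓ LinearMap.ker N) inf_le_left).finrank_eq, e]
  exact h

theorem finrank_of_card {U : Type*} [AddCommGroup U] [Module (ZMod 2) U] [Finite U] {n : ℕ}
    (h : Nat.card U = 2 ^ n) : Module.finrank (ZMod 2) U = n := by
  rw [CfsgLib.LargeFischer.card_eq_two_pow] at h
  exact Nat.pow_right_injective le_rfl h

variable (hnd : ∀ v, (∀ w, polar q v w = 0) → v = 0) {g : Module.End (ZMod 2) V} (hg : ∀ v, q (g v) = q v)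

include hg in
theorem polar_inv (u v : V) : polar q (g u) (g v) = polar q u v := by
  simp only [polar, ← map_add, hg]

include hnd hg in
theorem rank_two (hg4 : g * g * (g * g) = 1) (hne : g * g ≠ 1) (W : Submodule (ZMod 2) V) (hW : Nat.card ↥W = 4)
    (hfix : ∀ w ∈ W, g w = w) (hWnd : ∀ w ∈ W, (∀ w' ∈ W, polar q w w' = 0) → w = 0) (hV : Nat.card V = 256) :
    Module.finrank (ZMod 2) ↥(LinearMap.range (g * g + 1)) = 2 := by
  set N := g + 1 with hN
  have hNa : ∀ v, N v = g v + v := fun v => rfl
  have hNN : N * N = g * g + 1 := LinearMap.ext fun v => by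
    show g (g v + v) + (g v + v) = g (g v) + v
    rw [map_add, ← add_assoc, add_assoc (g (g v)), vadd_self, add_zero]
  set R1 := LinearMap.range N with hR1
  set R2 := R1.map N with hR2
  set R3 := R2.map N with hR3
  have hW1 : Disjoint R1 W := by
    rw [Submodule.disjoint_def]
    rintro _ ⟨v, rfl⟩ hw
    refine hWnd _ hw fun w' hw' => ?_
    rw [hNa, polar_add_left]
    conv_lhs => arg 1; rw [← hfix w' hw', polar_inv hg]
    exact vadd_self _
  have hWk : W ≤ LinearMap.ker N := fun w hw => by rw [LinearMap.mem_ker, hNa, hfix w hw, vadd_self]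
  have h0 := N.finrank_range_add_finrank_ker
  have h1 := finrank_drop N R1
  have h2 := finrank_drop N R2
  have h3 := finrank_drop N R3
  have h4 : R3.map N = ⊥ := by
    rw [hR3, hR2, hR1, ← LinearMap.range_comp, ← LinearMap.range_comp, ← LinearMap.range_comp,
      LinearMap.range_eq_bot]
    refine LinearMap.ext fun v => ?_
    show N (N (N (N v))) = 0
    rw [← Module.End.mul_apply N N v, ← Module.End.mul_apply N N, hNN]
    show g (g (g (g v) + v)) + (g (g v) + v) = 0
    have e : g (g (g (g v))) = v := LinearMap.congr_fun hg4 v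
    rw [map_add, map_add, e, ← add_assoc, add_assoc v, vadd_self, add_zero, vadd_self]
  have hR32 : R3 ≤ R2 := Submodule.map_mono (Submodule.map_mono (R := ZMod 2) (R₂ := ZMod 2) le_top |>.trans
    (by rw [Submodule.map_top]))
  have hR21 : R2 ≤ R1 := by rw [hR2, hR1]; exact LinearMap.map_le_range
  have m2 := Submodule.finrank_mono (show R2 ⊓ LinearMap.ker N ≤ R1 ⊓ LinearMap.ker N from inf_le_inf_right _ hR21)
  have m3 := Submodule.finrank_mono (show R3 ⊓ LinearMap.ker N ≤ R2 ⊓ LinearMap.ker N from inf_le_inf_right _ hR32)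
  have hWk2 : Module.finrank (ZMod 2) ↥(R1 ⊓ LinearMap.ker N) + 2 ≤ Module.finrank (ZMod 2) ↥(LinearMap.ker N) := by
    have h := Submodule.finrank_sup_add_finrank_inf_eq (R1 ⊓ LinearMap.ker N) W
    rw [(hW1.mono_left inf_le_left).eq_bot, finrank_bot, finrank_of_card (n := 2) hW, add_zero] at h
    rw [← h]
    exact Submodule.finrank_mono (sup_le inf_le_right hWk)
  rw [h4, finrank_bot] at h3
  rw [finrank_of_card (n := 8) hV, ← hR1] at h0
  rw [← hR2] at h1
  rw [← hR3] at h2
  have hr2 : LinearMap.range (g * g + 1) = R2 := by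
    rw [← hNN, hR2, hR1]
    exact LinearMap.range_comp N N
  rw [hr2]
  have hle : Module.finrank (ZMod 2) ↥R2 ≤ 2 := by omega
  have hne0 : Module.finrank (ZMod 2) ↥R2 ≠ 0 := by
    rw [Ne, Submodule.finrank_eq_zero, ← hr2, LinearMap.range_eq_bot]
    intro h
    refine hne (LinearMap.ext fun v => eq_of_vadd ?_)
    exact LinearMap.congr_fun h v
  have hne1 : Module.finrank (ZMod 2) ↥R2 ≠ 1 := by
    intro h
    obtain ⟨⟨a, ha⟩, ha0, hspan⟩ := finrank_eq_one_iff'.1 h
    rw [← hr2] at ha
    obtain ⟨x, hx⟩ := ha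
    have hx' : g (g x) + x = a := hx
    have ha0' : a ≠ 0 := fun e => ha0 (Subtype.ext e)
    have hrep : ∀ v, g (g v) + v = 0 ∨ g (g v) + v = a := fun v => by
      obtain ⟨c, hc⟩ := hspan ⟨g (g v) + v, by rw [← hr2]; exact ⟨v, rfl⟩⟩
      rcases z2_cases c with rfl | rfl
      · exact .inl (by simpa using (congrArg Subtype.val hc).symm)
      · exact .inr (by simpa using (congrArg Subtype.val hc).symm)
    have hga : g a = a := by
      have e1 : g a = g (g (g x)) + g x := by rw [← hx', map_add]
      rcases hrep (g x) with e | e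
      · exfalso
        refine ha0' ?_
        have h4' : g (g (g (g a))) = a := LinearMap.congr_fun hg4 a
        rw [e1.trans e, map_zero, map_zero, map_zero] at h4'
        exact h4'.symm
      · exact e1.trans e
    have hiso : ∀ v b, g v = v + b → q b = polar q v b := fun v b e => by
      have := hg v
      rw [e, q_add] at this
      linear_combination this - CharTwo.add_self_eq_zero (polar q v b)
    set y := g x + x with hy
    have hgy : g y = y + a := by
      rw [← hx', hy, map_add, ← add_assoc, add_comm (g x + x), add_assoc, add_assoc, vadd_self x, add_zero]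
    have hqa : q a = 0 := by
      rw [hiso y a hgy, hy, polar_add_left]
      conv_lhs => arg 1; rw [← hga, polar_inv hg]
      exact vadd_self _
    refine ha0' (hnd a fun w => ?_)
    have hg2 : ∀ v, q (g (g v)) = q v := fun v => by rw [hg, hg]
    rcases hrep w with e | e
    · -- fixed vectors are orthogonal to the range
      rw [← hx', polar_add_left]
      conv_lhs => arg 1; rw [← eq_of_vadd e, polar_inv hg, polar_inv hg]
      exact vadd_self _
    · have h' := hg2 w
      rw [show g (g w) = w + a by rw [← e, add_left_comm, vadd_self, add_zero], q_add, hqa] at h'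
      rw [polar_comm]
      linear_combination h'
  omega

variable {T : Module.End (ZMod 2) V}

theorem exists_pre_of_perp (hsym : ∀ u v, polar q (T u) v = polar q u (T v))
    (hnd : ∀ v, (∀ w, polar q v w = 0) → v = 0) {x : V} (hx : ∀ v, T v = 0 → polar q x v = 0) :
    ∃ v, T v = x := by
  have hmem : (polarBilin q) x ∈ LinearMap.range T.dualMap := by
    rw [LinearMap.range_dualMap_eq_dualAnnihilator_ker, Submodule.mem_dualAnnihilator]
    exact fun v hv => hx v (LinearMap.mem_ker.1 hv)
  obtain ⟨φ, hφ⟩ := hmem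
  have hinj : Function.Injective (polarBilin q : V →ₗ[ZMod 2] Module.Dual (ZMod 2) V) := by
    rw [injective_iff_map_eq_zero]
    exact fun v hv => hnd v fun w => LinearMap.congr_fun hv w
  obtain ⟨v, rfl⟩ := (LinearMap.injective_iff_surjective_of_finrank_eq_finrank
    Subspace.dual_finrank_eq.symm).1 hinj φ
  refine ⟨v, eq_of_vadd (hnd _ fun w => ?_)⟩
  rw [polar_add_left, hsym]
  have e : polar q v (T w) = polar q x w := LinearMap.congr_fun hφ w
  rw [e]
  exact vadd_self _

theorem false_of_eight {Y : Type*} [Group Y] (hY : Nat.card Y = 8) (α : Y →* Module.End (ZMod 2) V)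
    (hα : Function.Injective α) (hiso : ∀ y v, q (α y v) = q v) {τ : Y} (hτ1 : τ ≠ 1) (hτ2 : τ * τ = 1)
    (hτc : ∀ y, y * τ = τ * y) {x₁ x₂ : Y} (hnc : x₁ * x₂ ≠ x₂ * x₁)
    (hnd : ∀ v, (∀ w, polar q v w = 0) → v = 0)
    (hrk : ∀ y, y * y = 1 → y ≠ 1 → Module.finrank (ZMod 2) ↥(LinearMap.range (α y + 1)) = 2)
    (U : Submodule (ZMod 2) V) (hfix : ∀ y, ∀ u ∈ U, α y u = u)
    (hcod : ∀ v v', α τ v = v → α τ v' = v' → v ∉ U → v' ∉ U → v + v' ∈ U)
    (hmem : ∀ v, α τ v + v ∈ U ↔ q (α τ v + v) = 0) : False := by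
  classical
  haveI : Finite Y := Nat.finite_of_card_ne_zero (by omega)
  have hfixτ : ∀ u ∈ U, α τ u = u := hfix τ
  set T := α τ + 1 with hT
  have hTa : ∀ v, T v = α τ v + v := fun v => rfl
  have hττ : ∀ v, α τ (α τ v) = v := fun v => by
    rw [← Module.End.mul_apply, ← map_mul, hτ2, map_one]; rfl
  have hT0 : ∀ v, T v = 0 ↔ α τ v = v := fun v => by
    rw [hTa]; exact ⟨eq_of_vadd, fun h => by rw [h, vadd_self]⟩
  have hTT : ∀ v, T (T v) = 0 := fun v => by rw [hT0, hTa, map_add, hττ, add_comm]
  have hsym : ∀ u v, polar q (T u) v = polar q u (T v) := fun u v => by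
    rw [hTa, hTa, polar_add_left, polar_add_right]
    congr 1
    conv_lhs => rw [← hττ v, polar_inv (hiso τ)]
  have hperp : ∀ y v u, u ∈ U → polar q (α y v + v) u = 0 := fun y v u hu => by
    rw [polar_add_left]
    conv_lhs => arg 1; rw [← hfix y u hu, polar_inv (hiso y)]
    exact vadd_self _
  -- the range is not inside the subspace
  obtain ⟨a', ha'⟩ : ∃ w, T w ∉ U := by
    by_contra hc
    simp only [not_exists, not_not] at hc
    have hsub : ∀ x, (∀ u ∈ U, polar q x u = 0) → x ∈ U := by
      intro x hx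
      by_contra hxU
      have hxfix : α τ x = x := (hT0 x).1 (hnd _ fun v => by rw [hsym]; exact hx _ (hc v))
      obtain ⟨v, hv⟩ := exists_pre_of_perp hsym hnd (x := x) fun v hv => by
        by_cases hvU : v ∈ U
        · exact hx v hvU
        · have h := hx _ (hcod x v hxfix ((hT0 v).1 hv) hxU hvU)
          rw [polar_add_right, polar_self_zero, zero_add] at h
          exact h
      exact hxU (hv ▸ hc v)
    refine hnc (hα (LinearMap.ext fun v => ?_))
    have key : ∀ y y' v, α (y * y') v = v + ((α y v + v) + (α y' v + v)) := fun y y' v => by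
      have hb := hfix y _ (hsub _ (hperp y' v))
      rw [map_add] at hb
      rw [map_mul, Module.End.mul_apply, eq_of_vadd (x := α y (α y' v)) (y := α y' v + v + α y v) ?_]
      · rw [show α y' v + v + α y v = v + (α y v + α y' v) by abel,
          show α y v + v + (α y' v + v) = α y v + α y' v + (v + v) by abel, vadd_self, add_zero]
      · rw [← add_assoc, show α y (α y' v) + (α y' v + v) + α y v = α y (α y' v) + α y v + (α y' v + v) by abel,
          hb, vadd_self]
    rw [key, key, add_comm (α x₁ v + v)]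
  set a := T a' with haT
  have hfixR : ∀ v, α τ (T v) = T v := fun v => (hT0 _).1 (hTT v)
  -- the range
  have hR4 : (LinearMap.range T : Set V).ncard = 4 := by
    show Nat.card ↥(LinearMap.range T) = 4
    rw [CfsgLib.LargeFischer.card_eq_two_pow, hrk τ hτ2 hτ1]; norm_num
  obtain ⟨b', hb', hab⟩ : ∃ w, T w ∉ U ∧ T w ≠ a := by
    by_contra hc
    simp only [not_exists, not_and, not_not] at hc
    obtain ⟨_, ⟨w, rfl⟩, hr⟩ : ∃ x ∈ (LinearMap.range T : Set V), x ∉ ({0, a} : Set V) := by
      by_contra hall
      simp only [not_exists, not_and, not_not] at hall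
      have := (Set.ncard_le_ncard hall (Set.toFinite _)).trans (Set.ncard_insert_le _ _)
      rw [hR4, Set.ncard_singleton] at this
      omega
    simp only [Set.mem_insert_iff, Set.mem_singleton_iff, not_or] at hr
    have hwU : T w ∈ U := by_contra fun h => hr.2 (hc w h)
    have h2 : T (w + a') ∉ U := fun h => ha' (by
      rw [map_add] at h
      have := U.add_mem hwU h
      rwa [← add_assoc, vadd_self, zero_add] at this)
    have h3 := hc _ h2
    rw [map_add] at h3
    exact hr.1 (add_eq_right.1 h3)
  set r := a + T b' with hrdef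
  have hrU : r ∈ U := hcod a (T b') (hfixR a') (hfixR b') ha' hb'
  have hr0 : r ≠ 0 := fun h => hab (eq_of_vadd h).symm
  have hall : ∀ v, T v = 0 ∨ T v = r ∨ T v = a ∨ T v = a + r := by
    intro v
    by_contra hne
    simp only [not_or] at hne
    have ha0 : a ≠ 0 := fun h => ha' (show T a' ∈ U by rw [show T a' = 0 from h]; exact U.zero_mem)
    have har : a ≠ r := fun h => ha' (show T a' ∈ U by rw [show T a' = r from h]; exact hrU)
    have har0 : a + r ≠ 0 := fun h => har (eq_of_vadd h)
    have hara : a + r ≠ a := fun h => hr0 (add_eq_left.1 h)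
    have harr : a + r ≠ r := fun h => ha0 (add_eq_right.1 h)
    have hsub : ({0, r, a, a + r, T v} : Set V) ⊆ (LinearMap.range T : Set V) := by
      intro x hx
      simp only [Set.mem_insert_iff, Set.mem_singleton_iff] at hx
      rcases hx with rfl | rfl | rfl | rfl | rfl
      · exact ⟨0, map_zero T⟩
      · exact ⟨a' + b', map_add T a' b'⟩
      · exact ⟨a', rfl⟩
      · exact ⟨b', by rw [hrdef, ← add_assoc, vadd_self, zero_add]⟩
      · exact ⟨v, rfl⟩
    have := Set.ncard_le_ncard hsub (Set.toFinite _)
    rw [hR4, Set.ncard_insert_of_notMem, Set.ncard_insert_of_notMem, Set.ncard_insert_of_notMem,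
      Set.ncard_pair] at this
    · omega
    all_goals simp only [Set.mem_insert_iff, Set.mem_singleton_iff, ne_eq, not_or]
    · exact fun h => hne.2.2.2 h.symm
    · exact ⟨hara.symm, fun h => hne.2.2.1 h.symm⟩
    · exact ⟨har.symm, harr.symm, fun h => hne.2.1 h.symm⟩
    · exact ⟨hr0.symm, ha0.symm, har0.symm, fun h => hne.1 h.symm⟩
  have hTU : ∀ v, T v ∈ U ↔ q (T v) = 0 := hmem
  have hqr : q r = 0 := by
    rw [show r = T (a' + b') by rw [map_add]] at hrU ⊢
    exact (hTU _).1 hrU
  have hqa : q a = 1 := (z2_cases _).resolve_left fun h => ha' ((hTU _).2 h)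
  have hqar : q (a + r) = 1 := (z2_cases _).resolve_left fun h => hb' ((hTU _).2 (by
    rwa [show T b' = a + r by rw [hrdef, ← add_assoc, vadd_self, zero_add]]))
  -- an element fixing the line
  have himg : ∀ y, α y a = a ∨ α y a = a + r := fun y => by
    have hTc : α y (T a') = T (α y a') := by
      rw [hTa, hTa, map_add, ← Module.End.mul_apply, ← map_mul, hτc, map_mul, Module.End.mul_apply]
    have hinj : Function.Injective (α y) := fun u v h => by
      have := congrArg (α y⁻¹) h
      rwa [← Module.End.mul_apply, ← Module.End.mul_apply, ← map_mul, inv_mul_cancel, map_one] at this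
    rcases hall (α y a') with h | h | h | h
    · exfalso
      exact ha' (show T a' ∈ U by rw [hinj ((hTc.trans h).trans (map_zero _).symm)]; exact U.zero_mem)
    · exfalso
      exact ha' (show T a' ∈ U by rw [hinj ((hTc.trans h).trans (hfix y r hrU).symm)]; exact hrU)
    · exact .inl (hTc.trans h)
    · exact .inr (hTc.trans h)
  obtain ⟨y₀, hy₀a, hy₀1, hy₀τ⟩ : ∃ y, α y a = a ∧ y ≠ 1 ∧ y ≠ τ := by
    by_contra hc
    simp only [not_exists, not_and, not_not] at hc
    have hc' : ∀ y, y ≠ 1 → y ≠ τ → α y a = a + r := fun y h1 h2 =>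
      (himg y).resolve_left fun h => h2 (hc y h h1)
    obtain ⟨y, hy⟩ : ∃ y : Y, y ∉ ({1, τ} : Set Y) := by
      by_contra hall
      simp only [not_exists, not_not] at hall
      have := Set.ncard_le_ncard (fun x _ => hall x : Set.univ ⊆ _) (Set.toFinite _)
      rw [Set.ncard_univ, hY] at this
      exact absurd (this.trans (Set.ncard_insert_le _ _)) (by simp)
    obtain ⟨y', hy'⟩ : ∃ y' : Y, y' ∉ ({1, τ, y, y * τ} : Set Y) := by
      by_contra hall
      simp only [not_exists, not_not] at hall
      have := Set.ncard_le_ncard (fun x _ => hall x : Set.univ ⊆ _) (Set.toFinite _)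
      rw [Set.ncard_univ, hY] at this
      exact absurd (this.trans (((Set.ncard_insert_le _ _).trans (Nat.add_le_add_right ((Set.ncard_insert_le _ _).trans (Nat.add_le_add_right (Set.ncard_insert_le _ _) 1)) 1)))) (by simp)
    simp only [Set.mem_insert_iff, Set.mem_singleton_iff, not_or] at hy hy'
    have e1 := hc' y hy.1 hy.2
    have e2 := hc' y' hy'.1 hy'.2.1
    have e3 : α (y⁻¹ * y') a = a := by
      rw [map_mul, Module.End.mul_apply, e2, ← e1, ← Module.End.mul_apply, ← map_mul, inv_mul_cancel, map_one]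
      rfl
    exact hy'.2.2.2 (inv_mul_eq_iff_eq_mul.1 (hc _ e3 fun h => hy'.2.2.1 (inv_mul_eq_one.1 h).symm))
  have hy₀fix : ∀ v, α τ v = v → α y₀ v = v := fun v hv => by
    by_cases hvU : v ∈ U
    · exact hfix _ v hvU
    · have h := hfix y₀ _ (hcod v a hv (hfixR a') hvU ha')
      rw [map_add, hy₀a] at h
      exact add_right_cancel h
  have hS : ∀ v, ∃ w, T w = α y₀ v + v := fun v => exists_pre_of_perp hsym hnd fun u hu => by
    rw [polar_add_left]
    conv_lhs => arg 1; rw [← hy₀fix u ((hT0 u).1 hu), polar_inv (hiso y₀)]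
    exact vadd_self _
  have hy₀2 : y₀ * y₀ = 1 := hα <| LinearMap.ext fun v => by
    obtain ⟨w, hw⟩ := hS v
    have h := hy₀fix _ (hfixR w)
    rw [hw, map_add] at h
    rw [map_mul, Module.End.mul_apply, map_one]
    exact add_left_cancel (a := α y₀ v) (by rw [add_comm, h]; rfl)
  have hker : ∀ y, y * y = 1 → y ≠ 1 → (∀ u, α τ u = u → α y u = u) → ∀ v, α y v = v → α τ v = v := by
    intro y hy2 hy1 hfy v hv
    have hle : LinearMap.ker T ≤ LinearMap.ker (α y + 1) := fun u hu => by
      rw [LinearMap.mem_ker]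
      show α y u + u = 0
      rw [hfy u ((hT0 u).1 (LinearMap.mem_ker.1 hu)), vadd_self]
    have e := Submodule.eq_of_le_of_finrank_eq hle (by
      have h1 := T.finrank_range_add_finrank_ker
      have h2 := (α y + 1).finrank_range_add_finrank_ker
      have h3 : Module.finrank (ZMod 2) ↥(LinearMap.range T) = 2 := hrk τ hτ2 hτ1
      rw [hrk y hy2 hy1] at h2
      omega)
    refine (hT0 v).1 (LinearMap.mem_ker.1 ?_)
    rw [e, LinearMap.mem_ker]
    show α y v + v = 0
    rw [hv, vadd_self]
  obtain ⟨w, hw⟩ : ∃ w, T w = r := ⟨a' + b', by rw [map_add]⟩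
  have hwa : polar q w a = 1 := by
    refine (z2_cases _).resolve_left fun h0 => hr0 ?_
    have hwr : polar q w r = 0 := by
      rw [← hqr, ← hw, hTa]
      have h := hiso τ w
      rw [show α τ w = w + (α τ w + w) by rw [add_left_comm, vadd_self, add_zero], q_add] at h
      linear_combination h - CharTwo.add_self_eq_zero (q (α τ w + w))
    rw [← hw, hT0]
    refine (hT0 w).1 (hnd _ fun v => ?_)
    rw [hsym]
    rcases hall v with e | e | e | e <;> rw [e]
    · exact (polarBilin q w).map_zero
    · exact hwr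
    · exact h0
    · rw [polar_add_right, h0, hwr, add_zero]
  have hva : polar q a' a = 1 := by
    have h := hiso τ a'
    rw [show α τ a' = a' + a by rw [haT, hTa, add_left_comm, vadd_self, add_zero], q_add, hqa] at h
    linear_combination h - CharTwo.add_self_eq_zero (1 : ZMod 2)
  have hvr : polar q a' r = 1 := by rw [← hw, ← hsym, ← haT, polar_comm, hwa]
  have hmove : α τ a' ≠ a' := fun h => ha' (show T a' ∈ U by rw [show T a' = 0 from (hT0 a').2 h]; exact U.zero_mem)
  obtain ⟨w', hw'⟩ := hS a'
  have hisoS : q (α y₀ a' + a') = polar q a' (α y₀ a' + a') := by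
    have h := hiso y₀ a'
    rw [show α y₀ a' = a' + (α y₀ a' + a') by rw [add_left_comm, vadd_self, add_zero], q_add] at h
    linear_combination h - CharTwo.add_self_eq_zero (polar q a' (α y₀ a' + a'))
  rcases hall w' with e | e | e | e <;> rw [hw'] at e
  · exact hmove (hker y₀ hy₀2 hy₀1 hy₀fix a' (eq_of_vadd e))
  · rw [e, hqr, hvr] at hisoS
    exact zero_ne_one hisoS
  · refine hmove (hker (y₀ * τ) ?_ (fun h => hy₀τ ?_) (fun u hu => ?_) a' ?_)
    · rw [mul_assoc, ← mul_assoc τ, ← hτc y₀, mul_assoc y₀ τ τ, hτ2, mul_one, hy₀2]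
    · rw [← mul_inv_eq_one, inv_eq_of_mul_eq_one_right hτ2, h]
    · rw [map_mul, Module.End.mul_apply, hu, hy₀fix u hu]
    · rw [map_mul, Module.End.mul_apply]
      have h1 : α τ a' = a' + a := by rw [haT, hTa, add_left_comm, vadd_self, add_zero]
      rw [h1, map_add, hy₀a, ← e, ← add_assoc, vadd_self, zero_add]
  · rw [e, hqar, polar_add_right, hva, hvr] at hisoS
    exact absurd hisoS (by decide)

end CfsgLib.USixType
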