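import Cfsg.Agent.Lib.USixType.Rank
import Cfsg.Agent.Lib.USixType.Frame

/-!
# Every involution of `SU₄(2)` is a square

A transvection is the square of a product of two commuting-pair involutions at its centre; an involution that is
no transvection is the product of two transvections exchanged by an involution.
-/

set_option autoImplicit false
set_option linter.unusedSectionVars false

namespace CfsgLib.USixType

open Cfsg CfsgLib.SURadical
open CfsgLib.PSUAut (Isot act act_mul act_one act_form act_smul act_add act_ext eq_zero_of_perp)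

variable {F : Type} [Field F] [Fintype F] (hF : Fintype.card F = 2 ^ 2)

local notation "V4" => Fin 4 → F
local notation "hh" => Cfsg.hermForm 4 F 2

include hF

theorem exists_sqrt_pt {t : Cfsg.SU 4 F 2} {v : V4} (ht : IsPt t v) : ∃ e : Cfsg.SU 4 F 2, e * e = t := by
  obtain ⟨p, q, f⟩ := exists_flag hF ht.1
  obtain ⟨w, hw0, hw⟩ := exists_omega' hF
  have hv0 := ht.1.1
  have iso : ∀ (a : V4), hh a a = 0 → hh a v = 0 → ∀ μ : F, hh (a + μ • v) (a + μ • v) = 0 := by
    intro a ha hav μ
    rw [add_left hF, add_right hF, add_right hF, smul_left hF, smul_left hF, smul_right hF, smul_right hF, ha,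
      hav, (comm_zero hF).1 hav, f.hvv]
    ring
  have fs := f.swap hF
  have hp0 : p ≠ 0 := fun e => by have := f.hpq; rw [e, zero_left hF] at this; exact zero_ne_one this
  have hq0 : q ≠ 0 := fun e => by have := f.hpq; rw [e, zero_right hF] at this; exact zero_ne_one this
  obtain ⟨a₁, ha₁⟩ := exists_pt hF (v := p + v) ⟨by simpa using f.shift_ne hF 1, by simpa using iso p f.hpp f.hpv 1⟩
  obtain ⟨b₁, hb₁⟩ := exists_pt hF (v := p) ⟨hp0, f.hpp⟩
  obtain ⟨a₂, ha₂⟩ := exists_pt hF (v := q + w • v) ⟨fs.shift_ne hF w, iso q f.hqq f.hqv w⟩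
  obtain ⟨b₂, hb₂⟩ := exists_pt hF (v := q) ⟨hq0, f.hqq⟩
  have hvp : hh v p = 0 := (comm_zero hF).1 f.hpv
  have hvq : hh v q = 0 := (comm_zero hF).1 f.hqv
  have hqp : hh q p = 1 := f.hqp hF
  have h2 : (1 : F) + 1 = 0 := add_self hF 1
  have h20 : (2 : F) = 0 := by linear_combination h2
  have hw3 : w ^ 3 = 1 := by linear_combination (w - 1) * hw
  -- the two involutions
  have he₁ : ∀ y, act (a₁ * b₁) y = y + hh y v • p + (hh y p + hh y v) • v := fun y => by
    rw [act_mul, hb₁.2, ha₁.2, add_left hF, smul_left hF, add_right hF y p v, add_right hF p p v, f.hpp, f.hpv,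
      add_zero, mul_zero, add_zero]
    have hxx : hh y p • p + hh y p • p = (0 : V4) := CfsgLib.SURadical.vadd_self hF _
    linear_combination (norm := module) hxx
  have he₂ : ∀ y, act (a₂ * b₂) y = y + (w ^ 2 * hh y v) • q + (w * hh y q + hh y v) • v := fun y => by
    rw [act_mul, hb₂.2, ha₂.2, add_left hF, smul_left hF, add_right hF y q, add_right hF q q, smul_right hF,
      smul_right hF, f.hqq, f.hqv, mul_zero, add_zero, mul_zero, add_zero]
    have hxx : hh y q • q + hh y q • q = (0 : V4) := CfsgLib.SURadical.vadd_self hF _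
    linear_combination (norm := module) hxx + hw3 • (hh y v • v)
  set g := a₁ * b₁ * (a₂ * b₂) with hg
  clear_value g
  have hN : ∀ y, act g y = y + hh y v • p + (w ^ 2 * hh y v) • q + (hh y p + w * hh y q + w ^ 2 * hh y v) • v :=
    fun y => by
    rw [hg, act_mul, he₂, he₁]
    simp only [add_left hF, smul_left hF, f.hqv, hvp, f.hvv, hqp, mul_zero, add_zero, mul_one]
    linear_combination (norm := module) (h20 * hh y v) • v
  refine ⟨g, act_ext fun y => ?_⟩
  rw [act_mul, hN, hN, ht.2]
  simp only [add_left hF, smul_left hF, f.hpv, f.hqv, hvp, hvq, f.hvv, f.hpp, f.hqq, hqp, f.hpq, mul_zero, add_zero,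
    mul_one]
  linear_combination (norm := module) (h20 * hh y v) • p + (h20 * (w ^ 2 * hh y v)) • q +
    (h20 * (hh y p + w * hh y q + w ^ 2 * hh y v) + (hw * hh y v) - h20 * hh y v) • v

theorem Deep.exists_frame {g : Cfsg.SU 4 F 2} (d : Deep g) :
    ∃ b k, hh b (nmap g b) = 1 ∧ hh k (nmap g k) = 1 ∧ hh b (nmap g k) = 0 ∧ hh b b = 0 ∧ hh k k = 0 ∧
      hh b k = 0 := by
  obtain ⟨σ, hσ⟩ := exists_sigma hF
  obtain ⟨w, hw0, hw⟩ := exists_omega' hF
  have hadj := nmap_adj hF d.mul_self
  have hNN := nmap_nmap hF d.mul_self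
  have hsw : ∀ x y, hh y (nmap g x) = hh x (nmap g y) ^ 2 := fun x y => by
    rw [← hadj, conj_form hF x (nmap g y)]
  have hsq : ∀ v, hh v (nmap g v) = 0 ∨ hh v (nmap g v) = 1 := fun v => by
    have h2 := hsw v v
    have h3 : hh v (nmap g v) * (hh v (nmap g v) - 1) = 0 := by linear_combination -h2
    rcases mul_eq_zero.1 h3 with h | h
    · exact .inl h
    · exact .inr (sub_eq_zero.1 h)
  obtain ⟨b₀, hb₀⟩ : ∃ b, hh b (nmap g b) = 1 := by
    by_contra hc
    simp only [not_exists] at hc
    have h0 : ∀ v, hh v (nmap g v) = 0 := fun v => (hsq v).resolve_right (hc v)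
    have htr : ∀ x y, hh x (nmap g y) + hh x (nmap g y) ^ 2 = 0 := fun x y => by
      have h := h0 (x + y)
      rw [map_add, add_left hF, add_right hF, add_right hF, h0, h0, hsw x y] at h
      linear_combination h
    have hz : ∀ x y, hh x (nmap g y) = 0 := fun x y => by
      by_contra hne
      have h1 := htr x y
      have h2 := htr (w • x) y
      have hone : hh x (nmap g y) = 1 := by
        have e : hh x (nmap g y) * (1 + hh x (nmap g y)) = 0 := by linear_combination h1
        linear_combination (mul_eq_zero.1 e).resolve_left hne - add_self hF (1 : F)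
      rw [smul_left hF, hone, mul_one] at h2
      exact one_ne_zero (α := F) (by linear_combination hw - h2)
    have hr := d.rank
    rw [show nmap g = 0 from LinearMap.ext fun y => eq_zero_of_perp hF hσ fun x => (comm_zero hF).1 <| by
      exact (comm_zero hF).1 (hz x y), LinearMap.range_zero, finrank_bot] at hr
    omega
  have hNb : nmap g b₀ ≠ 0 := fun e => zero_ne_one (α := F) (by rw [← hb₀, e, zero_right hF])
  obtain ⟨k₀, hind⟩ : ∃ k, ∀ x y : F, x • nmap g b₀ + y • nmap g k = 0 → x = 0 ∧ y = 0 := by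
    obtain ⟨⟨u, k, rfl⟩, hu⟩ := exists_linearIndependent_pair_of_one_lt_finrank
      (R := F) (M := ↥(LinearMap.range (nmap g))) (by rw [d.rank]; norm_num)
      (x := ⟨nmap g b₀, LinearMap.mem_range_self _ b₀⟩) (fun e => hNb (congrArg Subtype.val e))
    exact ⟨k, fun x y h => LinearIndependent.pair_iff.1 hu x y (Subtype.ext h)⟩
  set c := hh b₀ (nmap g k₀) ^ 2 with hc
  set k₁ := k₀ + c • b₀ with hk₁
  have hbk : hh b₀ (nmap g k₁) = 0 := by
    rw [hk₁, map_add, map_smul, add_right hF, smul_right hF, hb₀, mul_one, hc]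
    rcases eq_or_ne (hh b₀ (nmap g k₀)) 0 with e | e
    · simp [e]
    · linear_combination hh b₀ (nmap g k₀) * cube_eq_one hF e + add_self hF (hh b₀ (nmap g k₀))
  have hind₁ : ∀ x y : F, x • nmap g b₀ + y • nmap g k₁ = 0 → x = 0 ∧ y = 0 := by
    intro x y h
    rw [hk₁, map_add, map_smul, smul_add, smul_smul, add_comm (y • nmap g k₀), ← add_assoc, ← add_smul] at h
    obtain ⟨h1, h2⟩ := hind _ _ h
    rw [h2] at h1
    exact ⟨by simpa using h1, h2⟩
  have hk1 : hh k₁ (nmap g k₁) = 1 := by
    refine (hsq k₁).resolve_left fun h0 => ?_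
    have hz : nmap g k₁ = 0 := by
      refine eq_zero_of_perp hF hσ fun v => ?_
      obtain ⟨x, y, h⟩ := d.decompose hF hind₁ v
      have h1 := d.perp_fixed hF h ((nmap_eq_zero hF).1 (hNN k₁))
      rw [add_left hF, add_left hF, smul_left hF, smul_left hF, hbk, h0] at h1
      simpa using h1
    exact one_ne_zero (hind₁ 0 1 (by rw [hz]; simp)).2
  -- isotropy
  have shift : ∀ v, hh v (nmap g v) = 1 → ∃ a : F, hh (v + a • nmap g v) (v + a • nmap g v) = 0 := by
    intro v hv
    have hNv : hh (nmap g v) v = 1 := comm_one hF hv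
    have hNN' : hh (nmap g v) (nmap g v) = 0 := range_perp hF d.mul_self v v
    rcases norm_zero_or_one hF v with h | h
    · exact ⟨0, by rw [zero_smul, add_zero, h]⟩
    · refine ⟨w, ?_⟩
      rw [add_left hF, add_right hF, add_right hF, smul_left hF, smul_left hF, smul_right hF, smul_right hF, h, hv,
        hNv, hNN']
      linear_combination hw
  obtain ⟨a, ha⟩ := shift b₀ hb₀
  set b := b₀ + a • nmap g b₀ with hb
  have hNb' : nmap g b = nmap g b₀ := by rw [hb, map_add, map_smul, hNN, smul_zero, add_zero]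
  set e := hh b k₁ ^ 2 with he
  set k₂ := k₁ + e • nmap g b with hk₂
  have hNk₂ : nmap g k₂ = nmap g k₁ := by rw [hk₂, map_add, map_smul, hNN, smul_zero, add_zero]
  have hbb : hh b (nmap g b) = 1 := by
    rw [hNb', hb, add_left hF, smul_left hF, hb₀, range_perp hF d.mul_self, mul_zero, add_zero]
  have hbk₁ : hh b (nmap g k₁) = 0 := by
    rw [hb, add_left hF, smul_left hF, hbk, range_perp hF d.mul_self, mul_zero, add_zero]
  have hbk₂ : hh b k₂ = 0 := by
    rw [hk₂, add_right hF, smul_right hF, hbb, mul_one, he]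
    rcases eq_or_ne (hh b k₁) 0 with e0 | e0
    · simp [e0]
    · linear_combination hh b k₁ * cube_eq_one hF e0 + add_self hF (hh b k₁)
  have hk₂1 : hh k₂ (nmap g k₂) = 1 := by
    rw [hNk₂, hk₂, add_left hF, smul_left hF, hk1, range_perp hF d.mul_self, mul_zero, add_zero]
  obtain ⟨a', ha'⟩ := shift k₂ hk₂1
  clear_value k₂ b k₁
  refine ⟨b, k₂ + a' • nmap g k₂, hbb, ?_, ?_, ha, ha', ?_⟩
  · rw [map_add, map_smul, hNN, smul_zero, add_zero, add_left hF, smul_left hF, hk₂1, range_perp hF d.mul_self,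
      mul_zero, add_zero]
  · rw [map_add, map_smul, hNN, smul_zero, add_zero, hNk₂, hbk₁]
  · rw [add_right hF, smul_right hF, hbk₂, hNk₂, hbk₁, mul_zero, add_zero]

theorem exists_sqrt_deep {g : Cfsg.SU 4 F 2} (d : Deep g) : ∃ e : Cfsg.SU 4 F 2, e * e = g := by
  obtain ⟨b, k, hb, hk, hbk, hbb, hkk, hbk0⟩ := d.exists_frame hF
  set B := nmap g b with hB
  set K := nmap g k with hK
  have hBB : hh B B = 0 := range_perp hF d.mul_self b b
  have hKK : hh K K = 0 := range_perp hF d.mul_self k k
  have hBK : hh B K = 0 := range_perp hF d.mul_self b k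
  have hKB : hh K B = 0 := (comm_zero hF).1 hBK
  have hBb : hh B b = 1 := comm_one hF hb
  have hKk : hh K k = 1 := comm_one hF hk
  have hKb : hh K b = 0 := (comm_zero hF).1 hbk
  have hkB : hh k B = 0 := by rw [hB, ← nmap_adj hF d.mul_self, ← hK, hKb]
  have hBk : hh B k = 0 := (comm_zero hF).1 hkB
  have hkb : hh k b = 0 := (comm_zero hF).1 hbk0
  have hne : ∀ x : V4, ∀ y : V4, hh x y = 1 → x ≠ 0 := fun x y h e => by
    rw [e, zero_left hF] at h
    exact zero_ne_one h
  obtain ⟨t₁, ht₁⟩ := exists_pt hF (v := B) ⟨hne B b hBb, hBB⟩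
  obtain ⟨t₂, ht₂⟩ := exists_pt hF (v := K) ⟨hne K k hKk, hKK⟩
  have hBi : ∀ x : V4, x = b ∨ x = k → hh x B • B + hh x K • K = nmap g x := by
    rintro x (rfl | rfl)
    · rw [hb, hbk, one_smul, zero_smul, add_zero]
    · rw [hk, hkB, one_smul, zero_smul, zero_add]
  have h12 : ∀ x, act (t₁ * t₂) x = x + (hh x B • B + hh x K • K) := fun x => by
    rw [act_mul, ht₂.2, ht₁.2, add_left hF, smul_left hF, hKB, mul_zero, add_zero, add_assoc,
      add_comm (hh x K • K)]
  have hg : g = t₁ * t₂ := by
    refine act_ext fun v => ?_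
    have hind : ∀ x y : F, x • nmap g b + y • nmap g k = 0 → x = 0 ∧ y = 0 := by
      intro x y h
      have h1 := congrArg (fun v => hh v b) h
      have h2 := congrArg (fun v => hh v k) h
      simp only [← hB, ← hK, add_left hF, smul_left hF, hBb, hKb, hBk, hKk, mul_one, mul_zero, zero_left hF, add_zero,
        zero_add] at h1 h2
      exact ⟨h1, h2⟩
    obtain ⟨x, y, h⟩ := d.decompose hF hind v
    have hl1 : hh (v + (x • b + y • k)) B = 0 := d.perp_fixed hF h ((nmap_eq_zero hF).1 (nmap_nmap hF d.mul_self b))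
    have hl2 : hh (v + (x • b + y • k)) K = 0 := d.perp_fixed hF h ((nmap_eq_zero hF).1 (nmap_nmap hF d.mul_self k))
    have hfix : act (t₁ * t₂) (v + (x • b + y • k)) = v + (x • b + y • k) := by
      rw [h12, hl1, hl2, zero_smul, zero_smul, add_zero, add_zero]
    have hxk : ∀ z, z = b ∨ z = k → act (t₁ * t₂) z = act g z := fun z hz => by
      rw [h12, hBi z hz, act_eq hF g z, add_comm]
    have h' : act g (v + (x • b + y • k)) = act (t₁ * t₂) (v + (x • b + y • k)) := h.trans hfix.symm
    rw [act_add, act_add, act_add, act_add, act_smul, act_smul, act_smul, act_smul, hxk b (.inl rfl),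
      hxk k (.inr rfl)] at h'
    exact add_right_cancel h'
  have huu : hh (b + k) (b + k) = 0 := by
    simp only [add_left hF, add_right hF, hbb, hkk, hbk0, hkb, add_zero]
  have hww : hh (B + K) (B + K) = 0 := by
    simp only [add_left hF, add_right hF, hBB, hKK, hBK, hKB, add_zero]
  have huw : hh (b + k) (B + K) = 0 := by
    simp only [add_left hF, add_right hF, hb, hk, hbk, hkB, add_zero, zero_add]
    exact add_self hF 1
  have hwu : hh (B + K) (b + k) = 0 := (comm_zero hF).1 huw
  have hu0 : b + k ≠ 0 := hne _ B (by rw [add_left hF, hb, hkB, add_zero])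
  have hw0 : B + K ≠ 0 := hne _ b (by rw [add_left hF, hBb, hKb, add_zero])
  have hs0 : b + k + (B + K) ≠ 0 := hne _ B (by rw [add_left hF, add_left hF, add_left hF, hb, hkB, hBB, hKB]; ring)
  obtain ⟨x₁, hx₁⟩ := exists_pt hF (v := b + k + (B + K)) ⟨hs0, by
    simp only [add_left hF (b + k) (B + K), add_right hF _ (b + k) (B + K), huu, hww, huw, hwu, add_zero]⟩
  obtain ⟨x₂, hx₂⟩ := exists_pt hF (v := b + k) ⟨hu0, huu⟩
  obtain ⟨x₃, hx₃⟩ := exists_pt hF (v := B + K) ⟨hw0, hww⟩
  set s := x₁ * x₂ * x₃ with hsdef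
  clear_value s
  have hsN : ∀ y, act s y = y + hh y (B + K) • (b + k) + hh y (b + k) • (B + K) := fun y => by
    have e1 : hh (b + k) (b + k + (B + K)) = 0 := by rw [add_right hF, huu, huw, add_zero]
    have e2 : hh (B + K) (b + k + (B + K)) = 0 := by rw [add_right hF, hwu, hww, add_zero]
    generalize hu : b + k = u at huu huw hwu e1 e2 hx₁ hx₂ ⊢
    generalize hv : B + K = v at hww huw hwu e1 e2 hx₁ hx₃ ⊢
    rw [hsdef, act_mul, act_mul, hx₃.2, hx₂.2, hx₁.2]
    simp only [add_left hF, smul_left hF, add_right hF, huu, huw, hwu, hww, mul_zero, add_zero]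
    have hxx : ∀ v : V4, v + v = 0 := CfsgLib.SURadical.vadd_self hF
    linear_combination (norm := module) hxx (hh y u • u) + hxx (hh y v • v)
  have hs2 : s * s = 1 := act_ext fun y => by
    rw [act_mul, hsN, hsN, act_one]
    generalize hu : b + k = u at huu huw hwu ⊢
    generalize hv : B + K = v at hww huw hwu ⊢
    simp only [add_left hF, smul_left hF, huu, huw, hwu, hww, mul_zero, add_zero]
    have hxx : ∀ v : V4, v + v = 0 := CfsgLib.SURadical.vadd_self hF
    linear_combination (norm := module) hxx (hh y v • u) + hxx (hh y u • v)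
  have hsB : act s B = K := by
    rw [hsN, add_right hF, add_right hF, hBB, hBK, hBb, hBk, add_zero, add_zero, zero_smul, add_zero, one_smul,
      ← add_assoc, CfsgLib.SURadical.vadd_self hF, zero_add]
  have hconj : s * t₁ * s⁻¹ = t₂ := (ht₁.conj s).unique hF (hsB ▸ ht₂)
  refine ⟨t₁ * s, ?_⟩
  rw [inv_eq_of_mul_eq_one_right hs2] at hconj
  rw [hg, ← hconj]
  group

/-- Every involution is a square. -/
theorem exists_sqrt {g : Cfsg.SU 4 F 2} (hg : g * g = 1) : ∃ e : Cfsg.SU 4 F 2, e * e = g := by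
  rcases eq_or_ne g 1 with rfl | h1
  · exact ⟨1, mul_one 1⟩
  rcases isPt_or_deep hF hg h1 with ⟨v, hv⟩ | d
  · exact exists_sqrt_pt hF hv
  · exact exists_sqrt_deep hF d

end CfsgLib.USixType
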